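import Cfsg.Agent.Lib.HalfDegree.Block

/-!
# The three dimensional orthogonal module inside the endomorphisms
-/

set_option autoImplicit false
set_option linter.style.haveILetI false
set_option linter.unusedSectionVars false

namespace CfsgLib.HalfDegree

open Module (End)

variable {κ : Type*} [Field κ] {p : ℕ} [hp : Fact p.Prime] [CharP κ p] {X : Type*} [Group X] [Finite X]
  {d : ℕ}

/-- The adjoint action. -/
def Ad (τ : X →* Matrix (Fin d) (Fin d) κ) : X →* End κ (Matrix (Fin d) (Fin d) κ) where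
  toFun g := LinearMap.mulLeft κ (τ g) * LinearMap.mulRight κ (τ g⁻¹)
  map_one' := LinearMap.ext fun Z => by simp [Module.End.mul_apply]
  map_mul' g h := LinearMap.ext fun Z => by simp [Module.End.mul_apply, mul_assoc]

theorem Ad_apply (τ : X →* Matrix (Fin d) (Fin d) κ) (g : X) (Z : Matrix (Fin d) (Fin d) κ) :
    Ad τ g Z = τ g * Z * τ g⁻¹ := by
  simp [Ad, Module.End.mul_apply, mul_assoc]

/-- The trace form. -/
noncomputable def trForm : LinearMap.BilinForm κ (Matrix (Fin d) (Fin d) κ) :=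
  LinearMap.mk₂ κ (fun Z W => (Z * W).trace) (fun a b c => by simp [add_mul]) (fun r a b => by simp)
    (fun a b c => by simp [mul_add]) (fun r a b => by simp)

theorem trForm_apply (Z W : Matrix (Fin d) (Fin d) κ) : trForm Z W = (Z * W).trace := rfl

theorem trForm_comm (Z W : Matrix (Fin d) (Fin d) κ) : trForm Z W = trForm W Z :=
  Matrix.trace_mul_comm Z W

theorem trForm_Ad (τ : X →* Matrix (Fin d) (Fin d) κ) (g : X) (Z W : Matrix (Fin d) (Fin d) κ) :
    trForm (Ad τ g Z) (Ad τ g W) = trForm Z W := by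
  have h1 : τ g⁻¹ * τ g = 1 := by rw [← map_mul, inv_mul_cancel, map_one]
  rw [trForm_apply, trForm_apply, Ad_apply, Ad_apply,
    show τ g * Z * τ g⁻¹ * (τ g * W * τ g⁻¹) = τ g * Z * (τ g⁻¹ * τ g) * (W * τ g⁻¹) by simp only [mul_assoc],
    h1, mul_one, mul_assoc (τ g), Matrix.trace_mul_comm, mul_assoc, mul_assoc, h1, mul_one]

set_option maxHeartbeats 1000000 in
/-- A three dimensional orthogonal module with a regular unipotent. -/
theorem exists_three {u h : X} (hu : orderOf u = p) (hidx : ¬ p ∣ (Subgroup.zpowers u).index)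
    {m : ℕ} (hm : ¬ p ∣ m) (hN : ∀ n ∈ Subgroup.normalizer ((Subgroup.zpowers u : Subgroup X) : Set X),
      ∃ z ∈ Subgroup.center X, ∃ i c : ℕ, n = z * u ^ i * h ^ c)
    (τ : X →* Matrix (Fin d) (Fin d) κ) (hτu : τ u = Model.U)
    (hτh : ∃ μ : κ, μ ≠ 0 ∧ τ h = μ • Model.D (m : κ))
    (hτz : ∀ z ∈ Subgroup.center X, ∃ c : κ, τ z = c • 1) (hd2 : 2 ≤ d) (hdp : 2 * d + 1 ≤ p) :
    ∃ (W : Submodule κ (Matrix (Fin d) (Fin d) κ)) (σ : X →* End κ W) (Q : LinearMap.BilinForm κ W),
      Module.finrank κ W = 3 ∧ (∀ x y, Q x y = Q y x) ∧ (∀ x, (∀ y, Q x y = 0) → x = 0) ∧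
        (∀ g x y, Q (σ g x) (σ g y) = Q x y) ∧ (σ u - 1) ^ 3 = 0 ∧ (σ u - 1) ^ 2 ≠ 0 := by
  classical
  set A := Ad τ with hA
  have hUU : τ u * τ u⁻¹ = 1 := by rw [← map_mul, mul_inv_cancel, map_one]
  have hU'U : τ u⁻¹ * τ u = 1 := by rw [← map_mul, inv_mul_cancel, map_one]
  have hsmall : ∀ k : ℕ, k ≠ 0 → k < p → (k : κ) ≠ 0 := fun k hk hkp h0 => by
    have := Nat.le_of_dvd (Nat.pos_of_ne_zero hk) ((CharP.cast_eq_zero_iff κ p k).1 h0)
    omega
  -- nilpotency of `Ad u - 1`
  set s := 2 * d - 1 with hs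
  have hTs : (A u - 1) ^ s = 0 := by
    have hL : (LinearMap.mulLeft κ (τ u - 1)) ^ d = 0 := by
      rw [LinearMap.pow_mulLeft, hτu, Model.U_sub_one_pow, LinearMap.mulLeft_zero_eq_zero]
    have hR : (LinearMap.mulRight κ (τ u⁻¹ - 1)) ^ d = 0 := by
      have e : τ u⁻¹ - 1 = -(τ u⁻¹ * (τ u - 1)) := by rw [mul_sub, hU'U, mul_one, neg_sub]
      rw [LinearMap.pow_mulRight, e, neg_pow,
        (show Commute (τ u⁻¹) (τ u - 1) from
          (show Commute (τ u⁻¹) (τ u) by show _ = _; rw [hU'U, hUU]).sub_right (Commute.one_right _)).mul_pow,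
        hτu, Model.U_sub_one_pow, mul_zero, mul_zero, LinearMap.mulRight_zero_eq_zero]
    have e : A u - 1 = LinearMap.mulLeft κ (τ u - 1) * LinearMap.mulRight κ (τ u⁻¹) +
        LinearMap.mulRight κ (τ u⁻¹ - 1) := LinearMap.ext fun Z => by
      simp [hA, Ad, Module.End.mul_apply, sub_mul, mul_sub]
    have hc : Commute (LinearMap.mulLeft κ (τ u - 1)) (LinearMap.mulRight κ (τ u⁻¹)) :=
      LinearMap.commute_mulLeft_right _ _
    rw [e]
    refine Commute.add_pow_eq_zero_of_add_le_succ_of_pow_eq_zero ?_ (by rw [hc.mul_pow, hL, zero_mul]) hR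
      (m := d) (n := d) (by omega)
    refine Commute.mul_left (LinearMap.commute_mulLeft_right _ _) ?_
    refine LinearMap.ext fun Z => ?_
    simp only [Module.End.mul_apply, LinearMap.mulRight_apply, mul_assoc]
    congr 1
    rw [mul_sub, sub_mul, mul_one, one_mul]
  -- the triple
  set Xt : Matrix (Fin d) (Fin d) κ := Model.Xm with hXt
  set Yt : Matrix (Fin d) (Fin d) κ := Model.Ym with hYt
  set Ht : Matrix (Fin d) (Fin d) κ := Model.Hm with hHt
  set S := trForm Xt Yt with hS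
  have h6 : (6 : κ) ≠ 0 := by
    have := hsmall 2 (by omega) (by omega)
    have := hsmall 3 (by omega) (by omega)
    have e : (6 : κ) = ((2 : ℕ) : κ) * ((3 : ℕ) : κ) := by norm_num
    rw [e]
    exact mul_ne_zero (by assumption) (by assumption)
  have h3 : (3 : κ) ≠ 0 := by exact_mod_cast hsmall 3 (by omega) (by omega)
  have h2 : (2 : κ) ≠ 0 := by exact_mod_cast hsmall 2 (by omega) (by omega)
  have hXY : 6 * S = ((d : κ) - 1) * d * (d + 1) := Model.trace_Xm_Ym
  have hHH : trForm Ht Ht = 2 * S := by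
    refine mul_left_cancel₀ h3 ?_
    rw [trForm_apply, Model.trace_Hm_Hm, ← hXY]
    ring
  have hS0 : S ≠ 0 := by
    intro h0
    rw [h0, mul_zero] at hXY
    rw [show (d : κ) - 1 = ((d - 1 : ℕ) : κ) by rw [Nat.cast_sub (by omega), Nat.cast_one],
      show (d : κ) + 1 = ((d + 1 : ℕ) : κ) by push_cast; ring] at hXY
    exact mul_ne_zero (mul_ne_zero (hsmall (d - 1) (by omega) (by omega)) (hsmall d (by omega) (by omega)))
      (hsmall (d + 1) (by omega) (by omega)) hXY.symm
  have hXX : trForm Xt Xt = 0 := Model.trace_Xm_Xm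
  have hYY : trForm Yt Yt = 0 := Model.trace_Ym_Ym
  have hXH : trForm Xt Ht = 0 := Model.trace_Xm_Hm
  have hYH : trForm Yt Ht = 0 := Model.trace_Ym_Hm
  let π : End κ (Matrix (Fin d) (Fin d) κ) :=
    (S⁻¹ • trForm Yt).smulRight Xt + (S⁻¹ • trForm Xt).smulRight Yt + ((2 * S)⁻¹ • trForm Ht).smulRight Ht
  have hπ : ∀ Z, π Z = (S⁻¹ * trForm Yt Z) • Xt + (S⁻¹ * trForm Xt Z) • Yt +
      ((2 * S)⁻¹ * trForm Ht Z) • Ht := fun Z => by simp [π]
  set C := Submodule.span κ ({Xt, Yt, Ht} : Set (Matrix (Fin d) (Fin d) κ)) with hC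
  have hXC : Xt ∈ C := Submodule.subset_span (by simp)
  have hYC : Yt ∈ C := Submodule.subset_span (by simp)
  have hHC : Ht ∈ C := Submodule.subset_span (by simp)
  have hπC : ∀ Z, π Z ∈ C := fun Z => by
    rw [hπ]
    exact C.add_mem (C.add_mem (C.smul_mem _ hXC) (C.smul_mem _ hYC)) (C.smul_mem _ hHC)
  have hS2 : (2 * S) ≠ 0 := mul_ne_zero h2 hS0
  have hπX : π Xt = Xt := by
    rw [hπ, trForm_comm Yt Xt, ← hS, hXX, trForm_comm Ht Xt, hXH, inv_mul_cancel₀ hS0]; simp
  have hπY : π Yt = Yt := by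
    rw [hπ, hYY, ← hS, trForm_comm Ht Yt, hYH, inv_mul_cancel₀ hS0]; simp
  have hπH : π Ht = Ht := by
    rw [hπ, hYH, hXH, hHH, inv_mul_cancel₀ hS2]; simp
  have hπid : ∀ c ∈ C, π c = c := by
    intro c hc
    induction hc using Submodule.span_induction with
    | mem x hx =>
      rcases hx with rfl | rfl | rfl
      exacts [hπX, hπY, hπH]
    | zero => exact map_zero _
    | add a b _ _ ha hb => rw [map_add, ha, hb]
    | smul r a _ ha => rw [map_smul, ha]
  have hπself : ∀ x y, trForm (π x) y = trForm x (π y) := fun x y => by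
    simp only [hπ, map_add, map_smul, LinearMap.add_apply, LinearMap.smul_apply, smul_eq_mul,
      trForm_comm x Xt, trForm_comm x Yt, trForm_comm x Ht]
    ring
  have hπidem : IsIdempotentElem π := LinearMap.ext fun Z => hπid _ (hπC Z)
  -- elements preserving the triple
  have hpres_span : ∀ g, A g Xt ∈ C → A g Yt ∈ C → A g Ht ∈ C → ∀ c ∈ C, A g c ∈ C := by
    intro g h1 h2 h3 c hc
    induction hc using Submodule.span_induction with
    | mem x hx =>
      rcases hx with rfl | rfl | rfl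
      exacts [h1, h2, h3]
    | zero => rw [map_zero]; exact C.zero_mem
    | add a b _ _ ha hb => rw [map_add]; exact C.add_mem ha hb
    | smul r a _ ha => rw [map_smul]; exact C.smul_mem _ ha
  have hTX : A u Xt = Xt := by
    rw [hA, Ad_apply, hXt, hτu, Model.U_mul_Xm, mul_assoc, ← hτu, hUU, mul_one]
  have hTH : A u Ht = Ht - Xt - Xt := by
    rw [hA, Ad_apply, hHt, hXt, hτu, Model.U_mul_Hm, mul_assoc, ← hτu, hUU, mul_one]
  have hTY : A u Yt = Yt + Ht - Xt := by
    rw [hA, Ad_apply, hYt, hHt, hXt, hτu, Model.U_mul_Ym, mul_assoc, ← hτu, hUU, mul_one]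
  have hpu : ∀ c ∈ C, A u c ∈ C := hpres_span u (by rw [hTX]; exact hXC)
    (by rw [hTY]; exact C.sub_mem (C.add_mem hYC hHC) hXC)
    (by rw [hTH]; exact C.sub_mem (C.sub_mem hHC hXC) hXC)
  obtain ⟨μ, hμ, hh⟩ := hτh
  have hm0 : (m : κ) ≠ 0 := fun h0 => hm ((CharP.cast_eq_zero_iff κ p m).1 h0)
  have hhh : μ • (Model.D (d := d) (m : κ) * τ h⁻¹) = 1 := by
    rw [← smul_mul_assoc, ← hh, ← map_mul, mul_inv_cancel, map_one]
  have hph : ∀ c ∈ C, A h c ∈ C := by
    refine hpres_span h ?_ ?_ ?_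
    · have e : A h Xt = (m : κ) • Xt := by
        rw [hA, Ad_apply, hXt, hh, smul_mul_assoc, smul_mul_assoc, Model.D_mul_Xm, smul_mul_assoc, mul_assoc,
          smul_comm, ← mul_smul_comm, hhh, mul_one]
      rw [e]; exact C.smul_mem _ hXC
    · have e : A h Yt = (m : κ)⁻¹ • Yt := by
        have e2 : Model.D (d := d) (m : κ) * Model.Ym = (m : κ)⁻¹ • (Model.Ym * Model.D (m : κ)) := by
          rw [← Model.D_mul_Ym, inv_smul_smul₀ hm0]
        rw [hA, Ad_apply, hYt, hh, smul_mul_assoc, smul_mul_assoc, e2, smul_mul_assoc, mul_assoc,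
          smul_comm, ← mul_smul_comm, hhh, mul_one]
      rw [e]; exact C.smul_mem _ hYC
    · have e : A h Ht = Ht := by
        rw [hA, Ad_apply, hHt, hh, smul_mul_assoc, smul_mul_assoc, Model.D_mul_Hm, mul_assoc,
          ← mul_smul_comm, hhh, mul_one]
      rw [e]; exact hHC
  have hpz : ∀ z ∈ Subgroup.center X, ∀ c ∈ C, A z c ∈ C := fun z hz c hc => by
    obtain ⟨b, hb⟩ := hτz z hz
    have e : b • τ z⁻¹ = 1 := by
      calc b • τ z⁻¹ = (b • (1 : Matrix (Fin d) (Fin d) κ)) * τ z⁻¹ := by rw [smul_mul_assoc, one_mul]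
        _ = 1 := by rw [← hb, ← map_mul, mul_inv_cancel, map_one]
    rw [hA, Ad_apply, hb, smul_mul_assoc, one_mul, smul_mul_assoc, ← mul_smul_comm, e, mul_one]
    exact hc
  have hpmul : ∀ a b, (∀ c ∈ C, A a c ∈ C) → (∀ c ∈ C, A b c ∈ C) → ∀ c ∈ C, A (a * b) c ∈ C :=
    fun a b ha hb c hc => by rw [map_mul, Module.End.mul_apply]; exact ha _ (hb c hc)
  have hppow : ∀ a, (∀ c ∈ C, A a c ∈ C) → ∀ k : ℕ, ∀ c ∈ C, A (a ^ k) c ∈ C := by
    intro a ha k
    induction k with
    | zero => intro c hc; rw [pow_zero, map_one]; simpa using hc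
    | succ k ih => rw [pow_succ]; exact hpmul _ _ ih ha
  have hπN : ∀ n ∈ Subgroup.normalizer ((Subgroup.zpowers u : Subgroup X) : Set X), Commute (A n) π := by
    intro n hn
    have hpn : ∀ g ∈ Subgroup.normalizer ((Subgroup.zpowers u : Subgroup X) : Set X),
        ∀ c ∈ C, A g c ∈ C := by
      intro g hg
      obtain ⟨z, hz, i, k, rfl⟩ := hN g hg
      exact hpmul _ _ (hpmul _ _ (hpz z hz) (hppow u hpu i)) (hppow h hph k)
    have hn' := hpn n hn
    have hni := hpn n⁻¹ (inv_mem hn)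
    have hback : ∀ y, A n (A n⁻¹ y) = y := fun y => by
      rw [← Module.End.mul_apply, ← map_mul, mul_inv_cancel, map_one, Module.End.one_apply]
    refine LinearMap.ext fun Z => ?_
    rw [Module.End.mul_apply, Module.End.mul_apply]
    have key : ∀ c ∈ C, trForm c (A n (π Z)) = trForm c (A n Z) := fun c hc => by
      rw [← hback c, hA, trForm_Ad, trForm_Ad, ← hA, ← hπself, hπid _ (hni c hc)]
    rw [← hπid _ (hn' _ (hπC Z)), hπ (A n (π Z)), key Yt hYC, key Xt hXC, key Ht hHC, ← hπ]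
  obtain ⟨E, hEc, hElow, -, hEself⟩ := exists_transfer A hu hidx hTs (show s < p by omega) hπN
  obtain ⟨ε, hεidem, hεc, hεself, w, hwu, hwT, hεw⟩ := exists_idempotent hTs hπidem
    (((hπN u (Subgroup.le_normalizer (Subgroup.mem_zpowers u)))).sub_left (Commute.one_left π))
    ((hEc u).sub_left (Commute.one_left E)) hElow
  have hEQ := hEself trForm (trForm_Ad τ) hπself
  set W := LinearMap.range ε with hW
  have hεA : ∀ g, Commute (A g) ε := fun g => hεc _ (hEc g)
  have hWinv : ∀ g, ∀ x ∈ W, A g x ∈ W := by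
    rintro g _ ⟨y, rfl⟩
    exact ⟨A g y, by rw [← Module.End.mul_apply, ← (hεA g).eq, Module.End.mul_apply]⟩
  have hεW : ∀ x ∈ W, ε x = x := by
    rintro _ ⟨y, rfl⟩
    rw [← Module.End.mul_apply, hεidem.eq]
  obtain ⟨w', hw'⟩ := hwu
  have hWmap : W = C.map w := by
    ext x
    constructor
    · rintro ⟨y, rfl⟩
      refine ⟨π ((↑w'⁻¹ : End κ (Matrix (Fin d) (Fin d) κ)) y), hπC _, ?_⟩
      have e : w * (↑w'⁻¹ : End κ (Matrix (Fin d) (Fin d) κ)) = 1 := by rw [← hw', Units.mul_inv]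
      rw [← Module.End.mul_apply, ← hεw, Module.End.mul_apply, ← Module.End.mul_apply w, e,
        Module.End.one_apply]
    · rintro ⟨c, hc, rfl⟩
      exact ⟨w c, by rw [← Module.End.mul_apply, hεw, Module.End.mul_apply, hπid c hc]⟩
  have hwinj : Function.Injective w := fun a b hab => by
    have h1 := congrArg (fun z => ((w'⁻¹ : (End κ (Matrix (Fin d) (Fin d) κ))ˣ) : End κ _) z) hab
    simpa [← hw', ← Module.End.mul_apply] using h1
  have hC3 : Module.finrank κ C = 3 := by
    let b : Fin 3 → Matrix (Fin d) (Fin d) κ := ![Xt, Yt, Ht]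
    have hrange : Set.range b = {Xt, Yt, Ht} := by
      simp [b, Matrix.range_cons, Matrix.range_empty]
      ext x; simp; tauto
    have hli : LinearIndependent κ b := by
      rw [Fintype.linearIndependent_iff]
      intro c hc i
      have e : ∀ v, trForm v (∑ j, c j • b j) = 0 := fun v => by rw [hc, map_zero]
      have eX := e Xt
      have eY := e Yt
      have eH := e Ht
      simp only [Fin.sum_univ_three, b, Matrix.cons_val_zero, Matrix.cons_val_one, Matrix.cons_val_two,
        Matrix.tail_cons, Matrix.head_cons, map_add, map_smul, smul_eq_mul, hXX, hYY, hXH, hYH, hHH,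
        trForm_comm Yt Xt, trForm_comm Ht Xt, trForm_comm Ht Yt, ← hS, mul_zero, add_zero, zero_add,
        mul_eq_zero, hS0, hS2, or_false] at eX eY eH
      fin_cases i
      exacts [eY, eX, eH]
    rw [hC, ← hrange, finrank_span_eq_card hli, Fintype.card_fin]
  have hW3 : Module.finrank κ W = 3 := by
    rw [hWmap, ← hC3]
    exact (Submodule.equivMapOfInjective w hwinj C).finrank_eq.symm
  let σ : X →* End κ W :=
    { toFun := fun g => (A g).restrict (hWinv g)
      map_one' := LinearMap.ext fun x => Subtype.ext (by simp)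
      map_mul' := fun g k => LinearMap.ext fun x => Subtype.ext (by simp [LinearMap.restrict_apply]) }
  let Q : LinearMap.BilinForm κ W := trForm.compl₁₂ W.subtype W.subtype
  have hpow : ∀ (k : ℕ) (x : W), (((σ u - 1) ^ k) x : Matrix (Fin d) (Fin d) κ) = ((A u - 1) ^ k) x.1 := by
    intro k
    induction k with
    | zero => intro x; rfl
    | succ k ih =>
      intro x
      rw [pow_succ, pow_succ, Module.End.mul_apply, Module.End.mul_apply, ih]
      rfl
  refine ⟨W, σ, Q, hW3, fun x y => trForm_comm _ _, fun x hx => Subtype.ext ?_, fun g x y => trForm_Ad τ g _ _,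
    LinearMap.ext fun x => Subtype.ext ?_, fun h0 => ?_⟩
  · have hall : ∀ Z, trForm (x : Matrix (Fin d) (Fin d) κ) Z = 0 := fun Z => by
      rw [← hεW _ x.2, hεself trForm hEQ]
      exact hx ⟨ε Z, Z, rfl⟩
    ext i j
    have := hall (Matrix.single j i 1)
    simpa [trForm_apply, Matrix.trace_mul_single] using this
  · rw [hpow]
    obtain ⟨c, hc, hcx⟩ := (hWmap ▸ x.2 : (x : Matrix (Fin d) (Fin d) κ) ∈ C.map w)
    rw [← hcx, pow_apply_comm hwT]
    have h0 : ((A u - 1) ^ 3 : End κ (Matrix (Fin d) (Fin d) κ)) c = 0 := by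
      clear hcx
      induction hc using Submodule.span_induction with
      | mem y hy =>
        rcases hy with rfl | rfl | rfl <;>
          simp [pow_succ', Module.End.mul_apply, LinearMap.sub_apply, hTX, hTY, hTH, map_sub, map_add]
      | zero => exact map_zero _
      | add a b _ _ ha hb => rw [map_add, ha, hb, add_zero]
      | smul r a _ ha => rw [map_smul, ha, smul_zero]
    rw [h0, map_zero]
    rfl
  · have hwY : w Yt ∈ W := by rw [hWmap]; exact ⟨Yt, hYC, rfl⟩
    have h1 := congrArg (fun f : End κ W => (f ⟨w Yt, hwY⟩ : Matrix (Fin d) (Fin d) κ)) h0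
    simp only [LinearMap.zero_apply, Submodule.coe_zero] at h1
    rw [hpow, pow_apply_comm hwT, ← map_zero w] at h1
    have h2 := hwinj h1
    have h3' : ((A u - 1) ^ 2 : End κ (Matrix (Fin d) (Fin d) κ)) Yt = -(Xt + Xt) := by
      simp only [pow_two, Module.End.mul_apply, LinearMap.sub_apply, Module.End.one_apply, map_sub,
        map_add, hTY, hTX, hTH]
      abel
    rw [h3', neg_eq_zero] at h2
    have h4 : (2 : κ) * S = 0 := by
      rw [two_mul, hS, ← LinearMap.add_apply, ← map_add, h2, map_zero, LinearMap.zero_apply]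
    exact hS2 h4

end CfsgLib.HalfDegree
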