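import Mathlib

/-!
# The binomial matrix and the adjoint triple

`U` is the matrix of `x ↦ x + 1` on polynomials of degree less than `d`; the matrices `Xm`, `Hm`,
`Ym` span a copy of the adjoint module.
-/

set_option autoImplicit false
set_option linter.unusedSectionVars false

namespace CfsgLib.HalfDegree.Model

open Matrix

variable {κ : Type*} [Field κ] {d : ℕ}

/-- The matrix of `x ↦ x + t`. -/
def UT (t : κ) : Matrix (Fin d) (Fin d) κ :=
  of fun i j => ((j : ℕ).choose i : κ) * t ^ ((j : ℕ) - i)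

/-- The binomial matrix. -/
def U : Matrix (Fin d) (Fin d) κ := of fun i j => ((j : ℕ).choose i : κ)

/-- The torus. -/
def D (r : κ) : Matrix (Fin d) (Fin d) κ := diagonal fun i => r ^ (d - 1 - (i : ℕ))

/-- The raising element. -/
def Xm : Matrix (Fin d) (Fin d) κ := of fun i j => if (i : ℕ) + 1 = j then ((i : ℕ) : κ) + 1 else 0

/-- The lowering element. -/
def Ym : Matrix (Fin d) (Fin d) κ :=
  of fun i j => if (i : ℕ) = j + 1 then ((d : κ) - 1 - ((j : ℕ) : κ)) else 0

/-- The middle element. -/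
def Hm : Matrix (Fin d) (Fin d) κ := diagonal fun i => (d : κ) - 1 - 2 * ((i : ℕ) : κ)

theorem sum_sel (g : Fin d → κ) (k : ℕ) (c : Fin d → κ) :
    ∑ l : Fin d, g l * (if (l : ℕ) = k then c l else 0) =
      if h : k < d then g ⟨k, h⟩ * c ⟨k, h⟩ else 0 := by
  split_ifs with h
  · rw [Finset.sum_eq_single ⟨k, h⟩ (fun l _ hl => by rw [if_neg fun e => hl (Fin.ext e), mul_zero])
      (fun h' => absurd (Finset.mem_univ _) h'), if_pos rfl]
  · exact Finset.sum_eq_zero fun l _ => by rw [if_neg (by have := l.2; omega), mul_zero]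

theorem UT_one : (UT (1 : κ) : Matrix (Fin d) (Fin d) κ) = U := by
  ext i j
  simp [UT, U]

theorem UT_zero : (UT (0 : κ) : Matrix (Fin d) (Fin d) κ) = 1 := by
  ext i j
  rw [UT, of_apply, Matrix.one_apply]
  by_cases h : i = j
  · subst h
    simp
  · rw [if_neg h]
    rcases Nat.lt_or_ge (j : ℕ) i with h' | h'
    · rw [Nat.choose_eq_zero_of_lt h', Nat.cast_zero, zero_mul]
    · rw [zero_pow (by have : (i : ℕ) ≠ j := fun e => h (Fin.ext e); omega), mul_zero]

theorem UT_mul (s t : κ) : (UT s : Matrix (Fin d) (Fin d) κ) * UT t = UT (s + t) := by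
  ext i j
  simp only [Matrix.mul_apply, UT, of_apply]
  rw [Fin.sum_univ_eq_sum_range
    (fun l => (l.choose i : κ) * s ^ (l - i) * (((j : ℕ).choose l : κ) * t ^ ((j : ℕ) - l))) d]
  rw [← Finset.sum_range_add_sum_Ico _ (show (i : ℕ) ≤ d by omega),
    Finset.sum_eq_zero (s := Finset.range (i : ℕ)) (fun l hl => by
      rw [Nat.choose_eq_zero_of_lt (Finset.mem_range.1 hl), Nat.cast_zero, zero_mul, zero_mul]),
    zero_add, Finset.sum_Ico_eq_sum_range]
  rcases Nat.lt_or_ge (j : ℕ) i with hji | hij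
  · rw [Nat.choose_eq_zero_of_lt hji, Nat.cast_zero, zero_mul]
    exact Finset.sum_eq_zero fun l _ => by
      rw [Nat.choose_eq_zero_of_lt (show (j : ℕ) < i + l by omega), Nat.cast_zero, zero_mul, mul_zero]
  obtain ⟨m, hm⟩ := Nat.exists_eq_add_of_le hij
  rw [← Finset.sum_subset (Finset.range_mono (show m + 1 ≤ d - i by omega)) (fun l hl hl' => by
      rw [Nat.choose_eq_zero_of_lt (show (j : ℕ) < i + l by rw [Finset.mem_range] at hl'; omega),
        Nat.cast_zero, zero_mul, mul_zero]),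
    show (j : ℕ) - i = m by omega, add_pow, Finset.mul_sum]
  refine Finset.sum_congr rfl fun l hl => ?_
  rw [Finset.mem_range] at hl
  have hc := Nat.choose_mul (n := (j : ℕ)) (k := i + l) (s := (i : ℕ)) (by omega)
  rw [show i + l - i = l by omega, show (j : ℕ) - i = m by omega] at hc
  have hc' : ((j : ℕ).choose (i + l) : κ) * ((i + l : ℕ).choose i : κ) =
      ((j : ℕ).choose i : κ) * (m.choose l : κ) := by
    rw [← Nat.cast_mul, hc, Nat.cast_mul]
  rw [show i + l - i = l by omega, show (j : ℕ) - (i + l) = m - l by omega]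
  linear_combination (s ^ l * t ^ (m - l)) * hc'

theorem U_pow (m : ℕ) : (U : Matrix (Fin d) (Fin d) κ) ^ m = UT (m : κ) := by
  induction m with
  | zero => rw [pow_zero, Nat.cast_zero, UT_zero]
  | succ m ih => rw [pow_succ, ih, ← UT_one, UT_mul, Nat.cast_succ]

theorem D_mul_U (m : ℕ) : D (m : κ) * (U : Matrix (Fin d) (Fin d) κ) = U ^ m * D (m : κ) := by
  rw [U_pow]
  ext i j
  simp only [D, U, UT, diagonal_mul, mul_diagonal, of_apply]
  rcases Nat.lt_or_ge (j : ℕ) i with hji | hij
  · rw [Nat.choose_eq_zero_of_lt hji, Nat.cast_zero, mul_zero, zero_mul, zero_mul]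
  · have := i.2
    have := j.2
    rw [show d - 1 - (i : ℕ) = ((j : ℕ) - i) + (d - 1 - j) by omega, pow_add]
    ring

theorem choose_step (j i : ℕ) :
    ((j.choose (i + 1) : ℕ) : κ) * ((i : κ) + 1) = (j.choose i : κ) * ((j : κ) - i) := by
  rcases Nat.lt_or_ge j i with h | h
  · rw [Nat.choose_eq_zero_of_lt h, Nat.choose_eq_zero_of_lt (by omega)]
    simp
  · rw [← Nat.cast_sub h, ← Nat.cast_succ, ← Nat.cast_mul, ← Nat.cast_mul,
      Nat.choose_succ_right_eq]

theorem pred_step (j i : ℕ) : ((j.choose i : ℕ) : κ) * ((j : κ) + 1) =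
    ((j + 1).choose i : κ) * ((j : κ) + 1 - i) := by
  rcases Nat.lt_or_ge (j + 1) i with h | h
  · rw [Nat.choose_eq_zero_of_lt h, Nat.choose_eq_zero_of_lt (by omega)]
    simp
  · rw [← Nat.cast_succ, ← Nat.cast_sub h, ← Nat.cast_mul, ← Nat.cast_mul]
    exact congrArg Nat.cast (Nat.choose_mul_succ_eq j i)

theorem Xm_mul_U_apply (i j : Fin d) :
    ((Xm : Matrix (Fin d) (Fin d) κ) * (U : Matrix (Fin d) (Fin d) κ)) i j = ((j : ℕ).choose i : κ) * (((j : ℕ) : κ) - ((i : ℕ) : κ)) := by
  simp only [Matrix.mul_apply, Xm, U, of_apply]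
  rw [Finset.sum_congr rfl (g := fun l : Fin d => (((j : ℕ).choose l : ℕ) : κ) *
    (if (l : ℕ) = i + 1 then ((i : ℕ) : κ) + 1 else 0)) (fun l _ => by
      by_cases h : (i : ℕ) + 1 = l
      · rw [if_pos h, if_pos h.symm, mul_comm]
      · rw [if_neg h, if_neg (fun e => h e.symm), zero_mul, mul_zero]), sum_sel]
  split_ifs with h
  · exact choose_step _ _
  · rw [← choose_step, Nat.choose_eq_zero_of_lt (by have := j.2; omega), Nat.cast_zero, zero_mul]

theorem U_mul_Xm : (U : Matrix (Fin d) (Fin d) κ) * Xm = Xm * U := by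
  ext i j
  rw [Xm_mul_U_apply]
  simp only [Matrix.mul_apply, Xm, U, of_apply]
  obtain ⟨k, hk⟩ := j
  rcases k with _ | k
  · rw [Finset.sum_eq_zero fun l _ => by rw [if_neg (Nat.succ_ne_zero _), mul_zero]]
    rcases Nat.eq_zero_or_pos (i : ℕ) with h | h
    · simp [h]
    · simp [Nat.choose_eq_zero_of_lt h]
  · simp only [Nat.succ_inj]
    rw [sum_sel, dif_pos (show k < d by omega)]
    push_cast
    linear_combination pred_step (κ := κ) k i

theorem U_mul_Hm :
    (U : Matrix (Fin d) (Fin d) κ) * Hm = (Hm - Xm - Xm) * U := by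
  ext i j
  rw [Matrix.sub_mul, Matrix.sub_mul, Matrix.sub_apply, Matrix.sub_apply, Xm_mul_U_apply]
  simp only [Hm, U, diagonal_mul, mul_diagonal, of_apply]
  ring

theorem U_mul_Ym :
    (U : Matrix (Fin d) (Fin d) κ) * Ym = (Ym + Hm - Xm) * U := by
  ext i j
  rw [Matrix.sub_mul, Matrix.add_mul, Matrix.sub_apply, Matrix.add_apply, Xm_mul_U_apply]
  simp only [Hm, Ym, U, Matrix.mul_apply (M := Matrix.of _), diagonal_mul, of_apply]
  have h1 : ∑ l : Fin d, ((l : ℕ).choose i : κ) * (if (l : ℕ) = j + 1 then (d : κ) - 1 - ((j : ℕ) : κ) else 0) =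
      (((j : ℕ) + 1).choose i : κ) * ((d : κ) - 1 - ((j : ℕ) : κ)) := by
    rw [sum_sel]
    split_ifs with h
    · rfl
    · have : (d : κ) = ((j : ℕ) : κ) + 1 := by
        rw [← Nat.cast_succ]; congr 1; have := j.2; omega
      rw [this]; ring
  rw [h1]
  obtain ⟨k, hk⟩ := i
  rcases k with _ | k
  all_goals simp only
  · rw [Finset.sum_eq_zero fun l _ => by rw [if_neg (by omega), zero_mul]]
    simp
  · rw [Finset.sum_congr rfl (g := fun l : Fin d => (((j : ℕ).choose l : ℕ) : κ) *
      (if (l : ℕ) = k then (d : κ) - 1 - (k : κ) else 0)) (fun l _ => by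
        by_cases h : (l : ℕ) = k
        · rw [if_pos h, if_pos (by omega), h, mul_comm]
        · rw [if_neg h, if_neg (fun e => h (by omega)), zero_mul, mul_zero]), sum_sel, dif_pos (show k < d by omega)]
    show (((j : ℕ) + 1).choose (k + 1) : κ) * _ = _
    rw [Nat.choose_succ_succ]
    have := choose_step (κ := κ) j k
    push_cast
    linear_combination this

theorem D_mul_Xm (r : κ) : D r * (Xm : Matrix (Fin d) (Fin d) κ) = r • (Xm * D r) := by
  ext i j
  simp only [D, Xm, diagonal_mul, Matrix.smul_apply, mul_diagonal, of_apply, smul_eq_mul]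
  split_ifs with h
  · have := j.2
    rw [show d - 1 - (i : ℕ) = (d - 1 - j) + 1 by omega, pow_succ]
    ring
  · ring

theorem D_mul_Ym (r : κ) : r • (D r * (Ym : Matrix (Fin d) (Fin d) κ)) = Ym * D r := by
  ext i j
  simp only [D, Ym, diagonal_mul, Matrix.smul_apply, mul_diagonal, of_apply, smul_eq_mul]
  split_ifs with h
  · have := i.2
    rw [show d - 1 - (j : ℕ) = (d - 1 - i) + 1 by omega, pow_succ]
    ring
  · ring

theorem D_mul_Hm (r : κ) : D r * (Hm : Matrix (Fin d) (Fin d) κ) = Hm * D r := by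
  rw [D, Hm, diagonal_mul_diagonal, diagonal_mul_diagonal]
  simp [mul_comm]

theorem sum_one (a : κ) :
    ∀ n : ℕ, 6 * ∑ i ∈ Finset.range n, ((i : κ) + 1) * (a - i) = (n : κ) * (n + 1) * (3 * a - 2 * n + 2)
  | 0 => by simp
  | n + 1 => by
    rw [Finset.sum_range_succ, mul_add, sum_one a n]
    push_cast
    ring

theorem sum_two (a : κ) :
    ∀ n : ℕ, 3 * ∑ i ∈ Finset.range n, (a - 2 * (i : κ)) ^ 2 =
      3 * n * a ^ 2 - 6 * a * n * ((n : κ) - 1) + 2 * ((n : κ) - 1) * n * (2 * n - 1)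
  | 0 => by simp
  | n + 1 => by
    rw [Finset.sum_range_succ, mul_add, sum_two a n]
    push_cast
    ring

theorem trace_Xm_Ym : 6 * ((Xm : Matrix (Fin d) (Fin d) κ) * (Ym : Matrix (Fin d) (Fin d) κ)).trace = ((d : κ) - 1) * d * (d + 1) := by
  rw [Matrix.trace]
  simp only [Matrix.diag_apply, Matrix.mul_apply, Xm, Ym, of_apply]
  have h : ∀ i : Fin d, (∑ l : Fin d, (if (i : ℕ) + 1 = l then ((i : ℕ) : κ) + 1 else 0) *
      (if (l : ℕ) = i + 1 then (d : κ) - 1 - ((i : ℕ) : κ) else 0)) = (((i : ℕ) : κ) + 1) * ((d : κ) - 1 - ((i : ℕ) : κ)) := by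
    intro i
    rw [sum_sel]
    split_ifs with h h'
    · rfl
    · exact absurd rfl h'
    · have : (d : κ) = ((i : ℕ) : κ) + 1 := by
        rw [← Nat.cast_succ]; congr 1; have := i.2; omega
      rw [this]; ring
  rw [Finset.sum_congr rfl fun i _ => h i,
    Fin.sum_univ_eq_sum_range (fun i => ((i : κ) + 1) * ((d : κ) - 1 - i)), sum_one]
  ring

theorem trace_Hm_Hm : 3 * ((Hm : Matrix (Fin d) (Fin d) κ) * (Hm : Matrix (Fin d) (Fin d) κ)).trace = ((d : κ) - 1) * d * (d + 1) := by
  rw [Hm, diagonal_mul_diagonal, Matrix.trace_diagonal,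
    Fin.sum_univ_eq_sum_range (fun i => ((d : κ) - 1 - 2 * (i : κ)) * ((d : κ) - 1 - 2 * (i : κ)))]
  simp only [← sq]
  rw [sum_two]
  ring

theorem trace_Xm_Xm : ((Xm : Matrix (Fin d) (Fin d) κ) * (Xm : Matrix (Fin d) (Fin d) κ)).trace = 0 := by
  simp only [Matrix.trace, Matrix.diag_apply, Matrix.mul_apply, Xm, of_apply]
  refine Finset.sum_eq_zero fun i _ => Finset.sum_eq_zero fun l _ => ?_
  split_ifs <;> first | omega | ring

theorem trace_Ym_Ym : ((Ym : Matrix (Fin d) (Fin d) κ) * (Ym : Matrix (Fin d) (Fin d) κ)).trace = 0 := by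
  simp only [Matrix.trace, Matrix.diag_apply, Matrix.mul_apply, Ym, of_apply]
  refine Finset.sum_eq_zero fun i _ => Finset.sum_eq_zero fun l _ => ?_
  split_ifs <;> first | omega | ring

theorem trace_Xm_Hm : ((Xm : Matrix (Fin d) (Fin d) κ) * (Hm : Matrix (Fin d) (Fin d) κ)).trace = 0 := by
  simp only [Matrix.trace, Matrix.diag_apply, Xm, Hm, mul_diagonal, of_apply]
  refine Finset.sum_eq_zero fun i _ => ?_
  rw [if_neg (by omega), zero_mul]

theorem trace_Ym_Hm : ((Ym : Matrix (Fin d) (Fin d) κ) * (Hm : Matrix (Fin d) (Fin d) κ)).trace = 0 := by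
  simp only [Matrix.trace, Matrix.diag_apply, Ym, Hm, mul_diagonal, of_apply]
  refine Finset.sum_eq_zero fun i _ => ?_
  rw [if_neg (by omega), zero_mul]

theorem U_sub_one_pow_apply (k : ℕ) :
    ∀ i j : Fin d, (j : ℕ) < i + k → (((U : Matrix (Fin d) (Fin d) κ) - 1) ^ k) i j = 0 := by
  induction k with
  | zero =>
    intro i j h
    rw [pow_zero, Matrix.one_apply_ne]
    intro e; rw [e] at h; omega
  | succ k ih =>
    intro i j h
    rw [pow_succ, Matrix.mul_apply]
    refine Finset.sum_eq_zero fun l _ => ?_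
    by_cases hl : (l : ℕ) < i + k
    · rw [ih i l hl, zero_mul]
    · have hjl : (j : ℕ) ≤ l := by omega
      rw [Matrix.sub_apply, U, of_apply]
      rcases hjl.eq_or_lt with e | e
      · rw [show l = j from (Fin.ext e).symm, Matrix.one_apply_eq, Nat.choose_self, Nat.cast_one, sub_self,
          mul_zero]
      · rw [Nat.choose_eq_zero_of_lt e, Matrix.one_apply_ne (fun e' => by rw [e'] at e; omega),
          Nat.cast_zero, sub_zero, mul_zero]

theorem U_sub_one_pow : ((U : Matrix (Fin d) (Fin d) κ) - 1) ^ d = 0 := by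
  ext i j
  exact U_sub_one_pow_apply d i j (by have := j.2; omega)

theorem superdiag_pow (k : ℕ) :
    ∀ i j : Fin d, (j : ℕ) = i + k → (((U : Matrix (Fin d) (Fin d) κ) - 1) ^ k) i j =
      ∏ l ∈ Finset.range k, (((i : ℕ) + l + 1 : ℕ) : κ) := by
  induction k with
  | zero =>
    intro i j h
    rw [pow_zero, Finset.range_zero, Finset.prod_empty, show j = i from Fin.ext h, Matrix.one_apply_eq]
  | succ k ih =>
    intro i j h
    rw [pow_succ', Matrix.mul_apply,
      Finset.sum_eq_single ⟨(i : ℕ) + 1, by have := j.2; omega⟩]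
    · rw [ih _ j (by simp only; omega), Matrix.sub_apply, U, of_apply,
        Matrix.one_apply_ne (fun e => by have := congrArg Fin.val e; simp only at this; omega),
        sub_zero, Finset.prod_range_succ']
      simp only [Nat.choose_succ_self_right, add_zero]
      rw [mul_comm]
      congr 1
      exact Finset.prod_congr rfl fun l _ => by congr 1; omega
    · intro l _ hl
      have hl' : (l : ℕ) ≠ i + 1 := fun e => hl (Fin.ext e)
      rcases Nat.lt_or_ge (i : ℕ) l with h1 | h1
      · refine mul_eq_zero_of_right _ ?_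
        exact U_sub_one_pow_apply k l j (by omega)
      · refine mul_eq_zero_of_left ?_ _
        rw [Matrix.sub_apply, U, of_apply]
        rcases h1.eq_or_lt with e | e
        · rw [show l = i from Fin.ext e, Matrix.one_apply_eq, Nat.choose_self, Nat.cast_one, sub_self]
        · rw [Nat.choose_eq_zero_of_lt e, Matrix.one_apply_ne (fun e' => by rw [e'] at e; omega),
            Nat.cast_zero, sub_zero]
    · exact fun h' => absurd (Finset.mem_univ _) h'

end CfsgLib.HalfDegree.Model
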