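import Cfsg.Agent.Lib.HalfDegree.Lowering
import Cfsg.Agent.Lib.HalfDegree.Model

/-!
# An irreducible module of dimension less than `p` is a single block at `u`
-/

set_option autoImplicit false
set_option linter.style.haveILetI false
set_option linter.unusedSectionVars false

namespace CfsgLib.HalfDegree

open Module (End)

variable {κ : Type*} [Field κ] {M : Type*} [AddCommGroup M] [Module κ M]

/-- The powers of a nilpotent endomorphism at a vector of maximal height are independent. -/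
theorem combination_injective {T : End κ M} {s : ℕ} (hT : T ^ s = 0) {v : M}
    (hv : (T ^ (s - 1)) v ≠ 0) (c : Fin s → κ) (hc : ∑ i, c i • (T ^ (i : ℕ)) v = 0) : c = 0 := by
  by_contra hne
  obtain ⟨i₁, hi₁⟩ := Function.ne_iff.1 hne
  classical
  obtain ⟨i, hi, hmin⟩ := (Finset.univ.filter fun i => c i ≠ 0).exists_min_image (fun i => (i : ℕ))
    ⟨i₁, Finset.mem_filter.2 ⟨Finset.mem_univ _, hi₁⟩⟩
  have h := congrArg (T ^ (s - 1 - (i : ℕ))) hc
  rw [map_sum, map_zero, Finset.sum_eq_single i] at h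
  · rw [map_smul, ← Module.End.mul_apply, ← pow_add,
      show s - 1 - (i : ℕ) + i = s - 1 by have := i.2; omega] at h
    exact (Finset.mem_filter.1 hi).2 ((smul_eq_zero.1 h).resolve_right hv)
  · intro j _ hj
    rw [map_smul]
    by_cases hcj : c j = 0
    · rw [hcj, zero_smul]
    have h1 : (i : ℕ) < j := lt_of_le_of_ne (hmin j (Finset.mem_filter.2 ⟨Finset.mem_univ _, hcj⟩))
      fun e => hj (Fin.ext e.symm)
    rw [← Module.End.mul_apply, ← pow_add, pow_add_apply_zero (a := s) (by omega)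
      (by rw [hT, LinearMap.zero_apply]), smul_zero]
  · exact fun h' => absurd (Finset.mem_univ _) h'

theorem intertwine_pow {N : Type*} [AddCommGroup N] [Module κ N] {Φ : M →ₗ[κ] N} {f : End κ M}
    {g : End κ N} (h : ∀ x, Φ (f x) = g (Φ x)) (k : ℕ) (x : M) : Φ ((f ^ k) x) = (g ^ k) (Φ x) := by
  induction k generalizing x with
  | zero => rfl
  | succ k ih => rw [pow_succ, pow_succ, Module.End.mul_apply, Module.End.mul_apply, ih, h]

/-- A scalar commutant. -/
theorem exists_smul_one_of_commute [IsAlgClosed κ] [FiniteDimensional κ M] [Nontrivial M]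
    {X : Type*} [Group X] (ρ : X →* End κ M)
    (hirr : ∀ W : Submodule κ M, (∀ g, ∀ z ∈ W, ρ g z ∈ W) → W = ⊥ ∨ W = ⊤)
    {f : End κ M} (hf : ∀ g, Commute (ρ g) f) : ∃ c : κ, f = c • 1 := by
  obtain ⟨c, hc⟩ := Module.End.exists_eigenvalue f
  refine ⟨c, LinearMap.ext fun x => ?_⟩
  rcases hirr (f.eigenspace c) (fun g z hz => by
      rw [Module.End.mem_eigenspace_iff] at hz ⊢
      rw [← Module.End.mul_apply, ← (hf g).eq, Module.End.mul_apply, hz, map_smul]) with h | h
  · exact absurd h hc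
  · have : x ∈ f.eigenspace c := h ▸ Submodule.mem_top
    rw [Module.End.mem_eigenspace_iff] at this
    simpa using this

variable [IsAlgClosed κ] [FiniteDimensional κ M] {p : ℕ} [hp : Fact p.Prime] [CharP κ p]
  {X : Type*} [Group X] [Finite X]

set_option maxHeartbeats 1000000 in
/-- The matrix form of the module. -/
theorem exists_matrix_model {u h : X} (hu : orderOf u = p) (hidx : ¬ p ∣ (Subgroup.zpowers u).index)
    {m : ℕ} (hh : h * u * h⁻¹ = u ^ m) (hreg : ¬ p ∣ orderOf h)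
    (hN : ∀ n ∈ Subgroup.normalizer ((Subgroup.zpowers u : Subgroup X) : Set X),
      ∃ z ∈ Subgroup.center X, ∃ i c : ℕ, n = z * u ^ i * h ^ c)
    (ρ : X →* End κ M) (hirr : ∀ W : Submodule κ M, (∀ g, ∀ z ∈ W, ρ g z ∈ W) → W = ⊥ ∨ W = ⊤)
    (hd : Module.finrank κ M < p) (hu1 : ρ u ≠ 1) :
    2 ≤ Module.finrank κ M ∧
    ∃ τ : X →* Matrix (Fin (Module.finrank κ M)) (Fin (Module.finrank κ M)) κ,
      τ u = Model.U ∧ (∃ μ : κ, μ ≠ 0 ∧ τ h = μ • Model.D (m : κ)) ∧
        ∀ z ∈ Subgroup.center X, ∃ c : κ, τ z = c • 1 := by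
  classical
  haveI hnt : Nontrivial M := by
    by_contra hn
    rw [not_nontrivial_iff_subsingleton] at hn
    exact hu1 (LinearMap.ext fun x => Subsingleton.elim _ _)
  haveI : CharP (End κ M) p := charP_of_injective_algebraMap' κ p
  set T := ρ u - 1 with hTdef
  have hup : ρ u ^ p = 1 := by rw [← map_pow, ← hu, pow_orderOf_eq_one, map_one]
  have hTp : T ^ p = 0 := by
    rw [hTdef, sub_pow_char_of_commute p (Commute.one_right _), hup, one_pow, sub_self]
  have hex : ∃ s, T ^ s = 0 := ⟨p, hTp⟩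
  set s := Nat.find hex with hsdef
  have hTs : T ^ s = 0 := Nat.find_spec hex
  have hs2 : 2 ≤ s := by
    by_contra hlt
    refine hu1 (sub_eq_zero.1 ?_)
    show T = 0
    rw [← pow_one T]
    exact pow_eq_zero_of_le (by omega) hTs
  have hTpred : T ^ (s - 1) ≠ 0 := Nat.find_min hex (by omega)
  -- a vector of maximal height fixed up to a scalar by `h`
  set n := orderOf h with hn
  have hnκ : (n : κ) ≠ 0 := fun h0 => hreg ((CharP.cast_eq_zero_iff κ p _).1 h0)
  have hhn : ρ h ^ n = 1 := by rw [← map_pow, pow_orderOf_eq_one, map_one]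
  have hss : (ρ h).IsSemisimple := by
    refine Module.End.isSemisimple_of_squarefree_aeval_eq_zero
      ((Polynomial.separable_X_pow_sub_C (n := n) (1 : κ) hnκ one_ne_zero).squarefree) ?_
    simp [hhn]
  obtain ⟨μ, v, hμv, hv⟩ : ∃ (μ : κ) (v : M), ρ h v = μ • v ∧ (T ^ (s - 1)) v ≠ 0 := by
    by_contra hall
    push Not at hall
    refine hTpred (LinearMap.ker_eq_top.1 (top_unique ?_))
    rw [← hss.iSup_eigenspace_eq_top]
    exact iSup_le fun μ v hv => LinearMap.mem_ker.2 (hall μ v (Module.End.mem_eigenspace_iff.1 hv))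
  have hv0 : v ≠ 0 := fun e => hv (by rw [e, map_zero])
  have hμ0 : μ ≠ 0 := by
    intro e
    rw [e, zero_smul] at hμv
    refine hv0 ?_
    have : (ρ h ^ n) v = v := by rw [hhn, Module.End.one_apply]
    rw [← this, show n = (n - 1) + 1 by have := orderOf_pos h; omega, pow_succ, Module.End.mul_apply, hμv,
      map_zero]
  -- the cyclic submodule
  let L : (Fin s → κ) →ₗ[κ] M := Fintype.linearCombination κ fun i : Fin s => (T ^ (i : ℕ)) v
  have hL : ∀ c, L c = ∑ i, c i • (T ^ (i : ℕ)) v := fun c => Fintype.linearCombination_apply _ _ _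
  have hLinj : Function.Injective L := (injective_iff_map_eq_zero L).2 fun c hc =>
    combination_injective hTs hv c (by rw [← hL, hc])
  set C := LinearMap.range L with hC
  have hmemC : ∀ i : ℕ, (T ^ i) v ∈ C := by
    intro i
    rcases Nat.lt_or_ge i s with hi | hi
    · exact ⟨Pi.single (⟨i, hi⟩ : Fin s) 1, by simp [L]⟩
    · rw [pow_add_apply_zero hi (by rw [hTs, LinearMap.zero_apply])]
      exact Submodule.zero_mem _
  have hCgen : ∀ W : Submodule κ M, (∀ i : ℕ, (T ^ i) v ∈ W) → C ≤ W := by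
    rintro W hW _ ⟨c, rfl⟩
    rw [hL]
    exact Submodule.sum_mem _ fun i _ => Submodule.smul_mem _ _ (hW i)
  have hCT : ∀ x ∈ C, T x ∈ C := by
    intro x hx
    refine hCgen (C.comap T) (fun i => ?_) hx
    rw [Submodule.mem_comap, ← Module.End.mul_apply, ← pow_succ']
    exact hmemC _
  have hCU : ∀ (k : ℕ), ∀ x ∈ C, (ρ u ^ k) x ∈ C := by
    intro k
    induction k with
    | zero => exact fun x hx => by simpa using hx
    | succ k ih =>
      intro x hx
      rw [pow_succ', Module.End.mul_apply]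
      have e : ∀ y, ρ u y = T y + y := fun y => by
        simp [hTdef]
      rw [e]
      exact Submodule.add_mem _ (hCT _ (ih x hx)) (ih x hx)
  have hUm : ρ h * ρ u = ρ u ^ m * ρ h := by
    rw [← map_pow, ← hh, ← map_mul, ← map_mul, inv_mul_cancel_right]
  have hcommT : ρ h * T = (ρ u ^ m - 1) * ρ h := by
    rw [hTdef, mul_sub, mul_one, sub_mul, one_mul, hUm]
  have hhT : ∀ i : ℕ, ρ h * T ^ i = (ρ u ^ m - 1) ^ i * ρ h := by
    intro i
    induction i with
    | zero => simp
    | succ i ih => rw [pow_succ, ← mul_assoc, ih, mul_assoc, hcommT, ← mul_assoc, ← pow_succ]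
  have hCpow : ∀ i : ℕ, ∀ x ∈ C, ((ρ u ^ m - 1) ^ i) x ∈ C := by
    intro i
    induction i with
    | zero => exact fun x hx => by simpa using hx
    | succ i ih =>
      intro x hx
      rw [pow_succ', Module.End.mul_apply, LinearMap.sub_apply, Module.End.one_apply]
      exact Submodule.sub_mem _ (hCU m _ (ih x hx)) (ih x hx)
  have hCh : ∀ (k : ℕ), ∀ x ∈ C, (ρ h ^ k) x ∈ C := by
    intro k
    induction k with
    | zero => exact fun x hx => by simpa using hx
    | succ k ih =>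
      intro x hx
      rw [pow_succ', Module.End.mul_apply]
      refine hCgen (C.comap (ρ h)) (fun i => ?_) (ih x hx)
      rw [Submodule.mem_comap, ← Module.End.mul_apply, hhT, Module.End.mul_apply, hμv, map_smul]
      exact Submodule.smul_mem _ _ (hCpow i v (by simpa using hmemC 0))
  -- a projection commuting with `T`
  obtain ⟨f, hf⟩ : ∃ f : M →ₗ[κ] κ, f ((T ^ (s - 1)) v) = 1 := by
    obtain ⟨g, hg, -⟩ := Submodule.exists_dual_map_eq_bot_of_notMem
      (p := (⊥ : Submodule κ M)) (x := (T ^ (s - 1)) v) (by simpa using hv) inferInstance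
    exact ⟨(g ((T ^ (s - 1)) v))⁻¹ • g, by
      rw [LinearMap.smul_apply, smul_eq_mul, inv_mul_cancel₀ hg]⟩
  let φ : M →ₗ[κ] (Fin s → κ) := LinearMap.pi fun j : Fin s => f ∘ₗ (T ^ (j : ℕ))
  have hφ : ∀ x (j : Fin s), φ x j = f ((T ^ (j : ℕ)) x) := fun x j => rfl
  have hφL : Function.Injective (φ ∘ₗ L) := by
    refine (injective_iff_map_eq_zero _).2 fun c hc => ?_
    by_contra hne
    obtain ⟨i₁, hi₁⟩ := Function.ne_iff.1 hne
    obtain ⟨i, hi, hmin⟩ := (Finset.univ.filter fun i => c i ≠ 0).exists_min_image (fun i => (i : ℕ))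
      ⟨i₁, Finset.mem_filter.2 ⟨Finset.mem_univ _, hi₁⟩⟩
    have hj : s - 1 - (i : ℕ) < s := by omega
    have h0 := congrFun hc ⟨s - 1 - (i : ℕ), hj⟩
    rw [LinearMap.comp_apply, hφ, hL, map_sum, map_sum, Finset.sum_eq_single i] at h0
    · rw [map_smul, map_smul, ← Module.End.mul_apply, ← pow_add,
        show s - 1 - (i : ℕ) + i = s - 1 by have := i.2; omega, hf, smul_eq_mul, mul_one] at h0
      exact (Finset.mem_filter.1 hi).2 h0
    · intro j _ hj'
      rw [map_smul, map_smul]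
      by_cases hcj : c j = 0
      · rw [hcj, zero_smul]
      have h1 : (i : ℕ) < j := lt_of_le_of_ne (hmin j (Finset.mem_filter.2 ⟨Finset.mem_univ _, hcj⟩))
        fun e => hj' (Fin.ext e.symm)
      rw [← Module.End.mul_apply, ← pow_add, pow_add_apply_zero (a := s) (by simp only; omega)
        (by rw [hTs, LinearMap.zero_apply]), map_zero, smul_zero]
    · exact fun h' => absurd (Finset.mem_univ _) h'
  let e : (Fin s → κ) ≃ₗ[κ] (Fin s → κ) := LinearEquiv.ofInjectiveEndo (φ ∘ₗ L) hφL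
  set π₀ : End κ M := L ∘ₗ e.symm.toLinearMap ∘ₗ φ with hπ₀
  have hφπ : ∀ x, φ (π₀ x) = φ x := fun x => by
    show (φ ∘ₗ L) (e.symm (φ x)) = φ x
    exact e.apply_symm_apply _
  have hπC : ∀ x, π₀ x ∈ C := fun x => ⟨e.symm (φ x), rfl⟩
  have huniq : ∀ x ∈ C, ∀ y ∈ C, φ x = φ y → x = y := by
    rintro _ ⟨a, rfl⟩ _ ⟨b, rfl⟩ hab
    exact congrArg L (hφL hab)
  have hπid : ∀ x ∈ C, π₀ x = x := fun x hx => huniq _ (hπC x) _ hx (hφπ x)
  have hπT : Commute T π₀ := LinearMap.ext fun x => by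
    rw [Module.End.mul_apply, Module.End.mul_apply]
    refine huniq _ (hCT _ (hπC x)) _ (hπC _) (funext fun j => ?_)
    rw [hφπ, hφ, hφ]
    show f (((T ^ (j : ℕ)) * T) (π₀ x)) = f (((T ^ (j : ℕ)) * T) x)
    rw [← pow_succ]
    rcases Nat.lt_or_ge ((j : ℕ) + 1) s with hj | hj
    · exact congrFun (hφπ x) ⟨(j : ℕ) + 1, hj⟩
    · rw [pow_add_apply_zero hj (by rw [hTs, LinearMap.zero_apply]),
        pow_add_apply_zero hj (by rw [hTs, LinearMap.zero_apply])]
  have hπU : ∀ k : ℕ, Commute (ρ u ^ k) π₀ := fun k => by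
    refine Commute.pow_left ?_ k
    rw [show ρ u = T + 1 by rw [hTdef, sub_add_cancel]]
    exact hπT.add_left (Commute.one_left _)
  -- averaging
  let K : ℕ → End κ M := fun i => ρ (h ^ i) * π₀ * ρ (h ^ i)⁻¹
  set π : End κ M := (n : κ)⁻¹ • ∑ i ∈ Finset.range n, K i with hπ
  have hinvpow : ∀ g : ℕ, (h ^ g)⁻¹ = h ^ ((n - 1) * g) := fun g => by
    rw [inv_eq_iff_mul_eq_one, ← pow_add, show g + (n - 1) * g = n * g by
      have := orderOf_pos h
      obtain ⟨t, ht⟩ : ∃ t, n = t + 1 := ⟨n - 1, by omega⟩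
      rw [ht, Nat.add_sub_cancel]; ring, pow_mul, pow_orderOf_eq_one, one_pow]
  have hKC : ∀ i x, K i x ∈ C := fun i x => by
    simp only [K, Module.End.mul_apply, map_pow]
    exact hCh _ _ (hπC _)
  have hKid : ∀ i, ∀ x ∈ C, K i x = x := fun i x hx => by
    simp only [K, Module.End.mul_apply]
    rw [hπid _ (by rw [hinvpow, map_pow]; exact hCh _ _ hx), ← Module.End.mul_apply, ← map_mul,
      mul_inv_cancel, map_one, Module.End.one_apply]
  have hπid' : ∀ x ∈ C, π x = x := fun x hx => by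
    rw [hπ, LinearMap.smul_apply, LinearMap.sum_apply, Finset.sum_congr rfl fun i _ => hKid i x hx,
      Finset.sum_const, Finset.card_range, ← Nat.cast_smul_eq_nsmul κ, inv_smul_smul₀ hnκ]
  have hhpow : ∀ i : ℕ, (h ^ i) * u * (h ^ i)⁻¹ = u ^ (m ^ i) := by
    intro i
    induction i with
    | zero => simp
    | succ i ih =>
      calc h ^ (i + 1) * u * (h ^ (i + 1))⁻¹ = h * (h ^ i * u * (h ^ i)⁻¹) * h⁻¹ := by
            rw [pow_succ', mul_inv_rev]; simp only [mul_assoc]
        _ = (h * u * h⁻¹) ^ (m ^ i) := by rw [ih, conj_pow]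
        _ = u ^ (m ^ (i + 1)) := by rw [hh, ← pow_mul, ← pow_succ']
  have hKU : ∀ i, Commute (ρ u) (K i) := fun i => by
    obtain ⟨k, hk⟩ : ∃ k : ℕ, (h ^ i)⁻¹ * u * h ^ i = u ^ k := by
      refine ⟨m ^ ((n - 1) * i), ?_⟩
      have := hhpow ((n - 1) * i)
      rwa [← hinvpow, inv_inv] at this
    show ρ u * (ρ (h ^ i) * π₀ * ρ (h ^ i)⁻¹) = ρ (h ^ i) * π₀ * ρ (h ^ i)⁻¹ * ρ u
    have e1 : u * h ^ i = h ^ i * u ^ k := by rw [← hk, ← mul_assoc, ← mul_assoc, mul_inv_cancel, one_mul]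
    have e2 : (h ^ i)⁻¹ * u = u ^ k * (h ^ i)⁻¹ := by rw [← hk, mul_inv_cancel_right]
    rw [← mul_assoc, ← mul_assoc, ← map_mul, e1, mul_assoc (ρ (h ^ i) * π₀), ← map_mul, e2, map_mul,
      map_mul, map_pow ρ u, mul_assoc (ρ (h ^ i)) (ρ u ^ k), (hπU k).eq]
    simp only [mul_assoc]
  have hshift : ρ h * (∑ i ∈ Finset.range n, K i) * ρ h⁻¹ = ∑ i ∈ Finset.range n, K i := by
    have e1 : ∀ i, ρ h * K i * ρ h⁻¹ = K (i + 1) := fun i => by
      simp only [K, pow_succ', mul_inv_rev, map_mul]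
      simp only [mul_assoc]
    rw [Finset.mul_sum, Finset.sum_mul, Finset.sum_congr rfl fun i _ => e1 i]
    have h1 := Finset.sum_range_succ' K n
    have h2 := Finset.sum_range_succ K n
    have h3 : K n = K 0 := by
      simp only [K, hn, pow_orderOf_eq_one, pow_zero]
    rw [h1, h3] at h2
    exact add_right_cancel h2
  have hπh : Commute (ρ h) π := by
    refine Commute.smul_right ?_ _
    show ρ h * _ = _ * ρ h
    conv_rhs => rw [← hshift, mul_assoc, ← map_mul, inv_mul_cancel, map_one, mul_one]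
  have hπu : Commute (ρ u) π := (Commute.sum_right _ _ _ fun i _ => hKU i).smul_right _
  have hπN : ∀ g ∈ Subgroup.normalizer ((Subgroup.zpowers u : Subgroup X) : Set X), Commute (ρ g) π := by
    intro g hg
    obtain ⟨z, hz, i, c, rfl⟩ := hN g hg
    obtain ⟨b, hb⟩ := exists_smul_one_of_commute ρ hirr (f := ρ z) fun x => by
      show ρ x * ρ z = ρ z * ρ x
      rw [← map_mul, ← map_mul, Subgroup.mem_center_iff.1 hz x]
    rw [map_mul, map_mul, map_pow, map_pow]
    refine (Commute.mul_left ?_ (hπu.pow_left i)).mul_left (hπh.pow_left c)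
    rw [hb]
    exact (Commute.one_left π).smul_left b
  have hsd : s ≤ Module.finrank κ M := by
    have := LinearMap.finrank_le_finrank_of_injective hLinj
    rwa [Module.finrank_fin_fun] at this
  obtain ⟨E, hE, hlow, -, -⟩ := exists_transfer ρ hu hidx hTs (by omega) hπN
  obtain ⟨c, hc⟩ := exists_smul_one_of_commute ρ hirr hE
  have hπC' : ∀ x, π x ∈ C := fun x => by
    rw [hπ, LinearMap.smul_apply, LinearMap.sum_apply]
    exact Submodule.smul_mem _ _ (Submodule.sum_mem _ fun i _ => hKC i x)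
  have hπidem : IsIdempotentElem π := LinearMap.ext fun x => hπid' _ (hπC' x)
  obtain ⟨k, hk⟩ := hlow.isNilpotent hTs
  have hc1 : c = 1 := by
    have h1 := hπid' v (by simpa using hmemC 0)
    have h2 : ∀ j : ℕ, ((E - π) ^ j) v = (c - 1) ^ j • v := by
      intro j
      induction j with
      | zero => simp
      | succ j ih =>
        rw [pow_succ', Module.End.mul_apply, ih, map_smul, LinearMap.sub_apply, hc, LinearMap.smul_apply,
          Module.End.one_apply, h1, pow_succ, mul_smul, sub_smul, one_smul]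
    have h3 := h2 k
    rw [hk, LinearMap.zero_apply] at h3
    exact sub_eq_zero.1 (pow_eq_zero_iff'.1 ((smul_eq_zero.1 h3.symm).resolve_right hv0)).1
  have hπ1 : π = 1 := by
    have h : IsNilpotent (1 - π) := ⟨k, by rw [hc, hc1, one_smul] at hk; exact hk⟩
    exact (sub_eq_zero.1 (h.eq_zero_of_isIdempotentElem hπidem.one_sub)).symm
  have htop : ∀ x : M, x ∈ C := fun x => by
    have h1 : π x = x := by rw [hπ1, Module.End.one_apply]
    exact h1 ▸ hπC' x
  have hLsurj : Function.Surjective L := fun x => htop x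
  have hsd' : s = Module.finrank κ M := by
    refine le_antisymm hsd ?_
    have := LinearMap.finrank_le_finrank_of_surjective hLsurj
    rwa [Module.finrank_fin_fun] at this
  -- the model
  set d := Module.finrank κ M with hdim
  refine ⟨by omega, ?_⟩
  set U' : End κ (Fin d → κ) := Matrix.toLinAlgEquiv' (Model.U (κ := κ) (d := d)) with hU'
  set T' := U' - 1 with hT'
  have hT'd : T' ^ d = 0 := by
    rw [hT', hU', ← map_one (Matrix.toLinAlgEquiv' (R := κ) (n := Fin d)), ← map_sub, ← map_pow,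
      Model.U_sub_one_pow, map_zero]
  set w : Fin d → κ := Pi.single ⟨d - 1, by omega⟩ 1 with hw
  have hT'w : (T' ^ (d - 1)) w ≠ 0 := by
    intro h0
    have h1 := congrFun h0 ⟨0, by omega⟩
    rw [hT', hU', ← map_one (Matrix.toLinAlgEquiv' (R := κ) (n := Fin d)), ← map_sub, ← map_pow,
      Matrix.toLinAlgEquiv'_apply, hw, Matrix.mulVec_single_one, Matrix.col_apply,
      Model.superdiag_pow (d - 1) _ _ (by simp), Pi.zero_apply, Finset.prod_eq_zero_iff] at h1
    obtain ⟨l, hl, hl0⟩ := h1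
    rw [Finset.mem_range] at hl
    have := Nat.le_of_dvd (by omega) ((CharP.cast_eq_zero_iff κ p _).1 hl0)
    simp only at this
    omega
  let L' : (Fin d → κ) →ₗ[κ] (Fin d → κ) := Fintype.linearCombination κ fun i : Fin d => (T' ^ (i : ℕ)) w
  have hL' : ∀ c, L' c = ∑ i, c i • (T' ^ (i : ℕ)) w := fun c => Fintype.linearCombination_apply _ _ _
  let eM : (Fin d → κ) ≃ₗ[κ] M := (LinearEquiv.funCongrLeft κ κ (finCongr hsd')).trans
    (LinearEquiv.ofBijective L ⟨hLinj, hLsurj⟩)
  have heM : ∀ c, eM c = ∑ i : Fin d, c i • (T ^ (i : ℕ)) v := fun c => by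
    show L _ = _
    rw [hL]
    exact Fintype.sum_equiv (finCongr hsd') _ _ fun i => rfl
  let eW : (Fin d → κ) ≃ₗ[κ] (Fin d → κ) := LinearEquiv.ofInjectiveEndo L'
    ((injective_iff_map_eq_zero L').2 fun c hc => combination_injective hT'd hT'w c (by rw [← hL', hc]))
  let Φ : M ≃ₗ[κ] (Fin d → κ) := eM.symm.trans eW
  have hΦ : ∀ i : ℕ, Φ ((T ^ i) v) = (T' ^ i) w := by
    intro i
    rcases Nat.lt_or_ge i d with hi | hi
    · have e1 : eM (Pi.single (⟨i, hi⟩ : Fin d) 1) = (T ^ i) v := by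
        rw [heM, Finset.sum_eq_single (⟨i, hi⟩ : Fin d)] <;> simp +contextual
      show eW (eM.symm _) = _
      rw [← e1, eM.symm_apply_apply]
      show L' _ = _
      simp [L']
    · rw [pow_add_apply_zero (a := s) (by omega) (by rw [hTs, LinearMap.zero_apply]), map_zero,
        pow_add_apply_zero hi (by rw [hT'd, LinearMap.zero_apply])]
  have hext : ∀ f g : M →ₗ[κ] (Fin d → κ), (∀ i : ℕ, f ((T ^ i) v) = g ((T ^ i) v)) → ∀ x, f x = g x :=
    fun f g hfg x => hCgen (LinearMap.eqLocus f g) hfg (htop x)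
  have hΦT : ∀ x, Φ (T x) = T' (Φ x) := hext (Φ.toLinearMap ∘ₗ T) (T' ∘ₗ Φ.toLinearMap) fun i => by
    show Φ (T ((T ^ i) v)) = T' (Φ ((T ^ i) v))
    rw [← Module.End.mul_apply, ← pow_succ', hΦ, hΦ, ← Module.End.mul_apply, ← pow_succ']
  have hΦU : ∀ x, Φ (ρ u x) = U' (Φ x) := fun x => by
    have := hΦT x
    simp only [hTdef, hT', LinearMap.sub_apply, Module.End.one_apply, map_sub] at this
    exact sub_left_injective this
  have hΦP : ∀ (i : ℕ) (x : M), Φ (((ρ u ^ m - 1) ^ i : End κ M) x) = ((U' ^ m - 1) ^ i : End κ (Fin d → κ)) (Φ x) :=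
    intertwine_pow (Φ := Φ.toLinearMap) fun x => by
      show Φ ((ρ u ^ m) x - x) = (U' ^ m) (Φ x) - Φ x
      rw [map_sub]
      exact congrArg (· - Φ x) (intertwine_pow (Φ := Φ.toLinearMap) hΦU m x)
  set D' : End κ (Fin d → κ) := Matrix.toLinAlgEquiv' (Model.D (d := d) (m : κ)) with hD'
  have hDU : D' * U' = U' ^ m * D' := by
    rw [hD', hU', ← map_mul, Model.D_mul_U, map_mul, map_pow]
  have hDT : ∀ i : ℕ, D' * T' ^ i = (U' ^ m - 1) ^ i * D' := by
    intro i
    induction i with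
    | zero => simp
    | succ i ih =>
      rw [pow_succ, ← mul_assoc, ih, mul_assoc, hT', mul_sub, mul_one, hDU, pow_succ,
        mul_assoc ((U' ^ m - 1) ^ i) (U' ^ m - 1), sub_mul, one_mul]
  have hDw : D' w = w := by
    rw [hD', Matrix.toLinAlgEquiv'_apply, hw, Matrix.mulVec_single_one]
    ext i
    rw [Matrix.col_apply, Model.D, Matrix.diagonal_apply]
    by_cases hi : i = ⟨d - 1, by omega⟩
    · subst hi
      simp
    · rw [if_neg hi, Pi.single_eq_of_ne hi]
  let τ : X →* Matrix (Fin d) (Fin d) κ := (LinearMap.toMatrixAlgEquiv' (R := κ) (n := Fin d)).toMonoidHom.comp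
    ((LinearEquiv.conjAlgEquiv κ Φ).toMonoidHom.comp ρ)
  have hτ : ∀ g, τ g = LinearMap.toMatrixAlgEquiv' (LinearEquiv.conjAlgEquiv κ Φ (ρ g)) := fun g => rfl
  refine ⟨τ, ?_, ⟨μ, hμ0, ?_⟩, fun z hz => ?_⟩
  · rw [hτ, show LinearEquiv.conjAlgEquiv κ Φ (ρ u) = U' from LinearMap.ext fun x => by
      rw [LinearEquiv.conjAlgEquiv_apply_apply, hΦU, Φ.apply_symm_apply],
      hU', LinearMap.toMatrixAlgEquiv'_toLinAlgEquiv']
  · rw [hτ, show LinearEquiv.conjAlgEquiv κ Φ (ρ h) = μ • D' from LinearMap.ext fun x => by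
      rw [LinearEquiv.conjAlgEquiv_apply_apply]
      have := hext (Φ.toLinearMap ∘ₗ ρ h) ((μ • D') ∘ₗ Φ.toLinearMap) (fun i => by
        show Φ (ρ h ((T ^ i) v)) = μ • D' (Φ ((T ^ i) v))
        rw [← Module.End.mul_apply, hhT, Module.End.mul_apply, hμv, map_smul, map_smul, hΦP,
          show Φ v = w by simpa using hΦ 0, hΦ, ← Module.End.mul_apply D', hDT, Module.End.mul_apply,
          hDw]) (Φ.symm x)
      simpa using this, map_smul, hD', LinearMap.toMatrixAlgEquiv'_toLinAlgEquiv']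
  · obtain ⟨b, hb⟩ := exists_smul_one_of_commute ρ hirr (f := ρ z) fun x => by
      show ρ x * ρ z = ρ z * ρ x
      rw [← map_mul, ← map_mul, Subgroup.mem_center_iff.1 hz x]
    exact ⟨b, by rw [hτ, hb, map_smul, map_one, map_smul, map_one]⟩

end CfsgLib.HalfDegree
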