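import Mathlib
import Cfsg.Agent.Lib.SL2.Dickson.Generation

/-!
# A group with a Sylow subgroup of order `p` on a three dimensional orthogonal space
-/

set_option autoImplicit false
set_option linter.style.haveILetI false
set_option linter.unusedSectionVars false

namespace CfsgLib.HalfDegree

open Module (End)
open Matrix
open CfsgLib.ClassicalLinear (upS upS_coe upS_add upS_injective)
open CfsgLib.SL2.Dickson (lowS lowS_coe)

variable {κ : Type*} [Field κ]

/-- The underlying matrix, as a homomorphism. -/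
def coeSL : SpecialLinearGroup (Fin 2) κ →* Matrix (Fin 2) (Fin 2) κ where
  toFun g := (g : Matrix (Fin 2) (Fin 2) κ)
  map_one' := rfl
  map_mul' _ _ := rfl

theorem coeSL_apply (g : SpecialLinearGroup (Fin 2) κ) : coeSL g = (g : Matrix (Fin 2) (Fin 2) κ) := rfl

section Prime

variable {p : ℕ} [hp : Fact p.Prime] [CharP κ p] [IsAlgClosed κ]

/-- Finitely many elements only: the parameter lies in the prime field. -/
theorem mem_prime_field (hp5 : 5 ≤ p) {lam : κ} (hlam : lam ≠ 0)
    (J : Subgroup (SpecialLinearGroup (Fin 2) κ)) [Finite J] (hu : upS lam ∈ J) (hl : lowS 1 ∈ J)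
    (hsq : ¬ p ^ 2 ∣ Nat.card J) : lam ∈ (ZMod.castHom (dvd_refl p) κ).fieldRange := by
  classical
  letI : Algebra (ZMod p) κ := ZMod.algebra κ p
  -- `lam` is integral
  have hint : IsIntegral (ZMod p) lam := by
    obtain ⟨ζ, hζ⟩ := IsAlgClosed.exists_root
      (Polynomial.X ^ 2 - Polynomial.C (2 + lam) * Polynomial.X + Polynomial.C 1 : Polynomial κ) (by
        have : (Polynomial.X ^ 2 - Polynomial.C (2 + lam) * Polynomial.X + Polynomial.C 1 : Polynomial κ).degree = 2 := by
          compute_degree!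
        rw [this]; decide)
    simp only [Polynomial.IsRoot, Polynomial.eval_add, Polynomial.eval_sub, Polynomial.eval_pow,
      Polynomial.eval_X, Polynomial.eval_mul, Polynomial.eval_C] at hζ
    set g : J := ⟨upS lam * lowS 1, J.mul_mem hu hl⟩ with hg
    set n := orderOf g with hn
    have hn0 : 0 < n := orderOf_pos g
    set v : Fin 2 → κ := ![ζ - 1, 1] with hv
    have hgv : (coeSL (upS lam * lowS 1)) *ᵥ v = ζ • v := by
      rw [map_mul, coeSL_apply, coeSL_apply, upS_coe, lowS_coe, hv]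
      ext i
      fin_cases i <;> simp [Matrix.mulVec, dotProduct, Fin.sum_univ_two, Matrix.mul_apply] <;>
        linear_combination -hζ
    have hpow : ∀ k : ℕ, (coeSL ((upS lam * lowS 1) ^ k)) *ᵥ v = ζ ^ k • v := by
      intro k
      induction k with
      | zero => simp
      | succ k ih =>
        rw [pow_succ, map_mul coeSL, ← Matrix.mulVec_mulVec, hgv, Matrix.mulVec_smul, ih, smul_smul,
          pow_succ', mul_comm]
    have hζn : ζ ^ n = 1 := by
      have h1 : (upS lam * lowS 1) ^ n = 1 := congrArg Subtype.val (pow_orderOf_eq_one g)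
      have h2 := hpow n
      rw [h1, map_one coeSL, Matrix.one_mulVec] at h2
      have := congrFun h2 1
      simpa [hv] using this.symm
    have hζi : IsIntegral (ZMod p) ζ := IsIntegral.of_pow hn0 (hζn ▸ isIntegral_one)
    have e : lam = ζ + ζ ^ (n - 1) - (algebraMap (ZMod p) κ 2) := by
      have h1 : ζ * ζ ^ (n - 1) = 1 := by rw [← pow_succ', Nat.sub_add_cancel hn0, hζn]
      have hz : ζ ≠ 0 := fun h0 => by rw [h0, zero_mul] at h1; exact zero_ne_one h1
      rw [map_ofNat]
      refine mul_left_cancel₀ hz ?_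
      linear_combination -hζ - h1
    rw [e]
    exact (hζi.add (hζi.pow _)).sub isIntegral_algebraMap
  -- the field generated by `lam`
  set F : Subfield κ := Subfield.closure {lam} with hF
  haveI := IntermediateField.adjoin.finiteDimensional hint
  haveI : Finite ↥(IntermediateField.adjoin (ZMod p) ({lam} : Set κ)) := Module.finite_of_finite (ZMod p)
  have hFle : F ≤ (IntermediateField.adjoin (ZMod p) ({lam} : Set κ)).toSubfield :=
    Subfield.closure_le.2 (Set.singleton_subset_iff.2 (IntermediateField.mem_adjoin_simple_self _ lam))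
  haveI : Finite F := Finite.of_injective
    (fun x : F => (⟨(x : κ), hFle x.2⟩ : ↥(IntermediateField.adjoin (ZMod p) ({lam} : Set κ))))
    fun a b h => Subtype.ext (congrArg (fun y : ↥(IntermediateField.adjoin (ZMod p) ({lam} : Set κ)) => (y : κ)) h)
  haveI : CharP F p := (RingHom.charP_iff F.subtype Subtype.val_injective p).2 inferInstance
  set lam' : F := ⟨lam, Subfield.subset_closure rfl⟩ with hlam'
  have hgen : Subfield.closure ({lam'} : Set F) = ⊤ := by
    rw [eq_top_iff]
    intro x _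
    have h1 : F ≤ (Subfield.closure ({lam'} : Set F)).map F.subtype :=
      Subfield.closure_le.2 (Set.singleton_subset_iff.2 ⟨lam', Subfield.subset_closure rfl, rfl⟩)
    obtain ⟨y, hy, hyx⟩ := h1 x.2
    rwa [show y = x from Subtype.ext hyx] at hy
  set φ : SpecialLinearGroup (Fin 2) F →* SpecialLinearGroup (Fin 2) κ := SpecialLinearGroup.map F.subtype
    with hφ
  have hφu : ∀ a : F, φ (upS a) = upS (a : κ) := fun a => by
    ext i j
    rw [hφ, SpecialLinearGroup.map_apply_coe, upS_coe, upS_coe]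
    fin_cases i <;> fin_cases j <;> simp
  have hφl : ∀ a : F, φ (lowS a) = lowS (a : κ) := fun a => by
    ext i j
    rw [hφ, SpecialLinearGroup.map_apply_coe, lowS_coe, lowS_coe]
    fin_cases i <;> fin_cases j <;> simp
  have hφinj : Function.Injective φ := fun a b h => by
    ext i j
    have := congrArg (fun g : SpecialLinearGroup (Fin 2) κ => (g : Matrix (Fin 2) (Fin 2) κ) i j) h
    simpa [hφ] using this
  have h2 : (2 : F) ≠ 0 := fun h => by
    have h' : ((2 : ℕ) : F) = 0 := by exact_mod_cast h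
    have := Nat.le_of_dvd two_pos ((CharP.cast_eq_zero_iff F p 2).1 h')
    omega
  have hG := CfsgLib.SL2.Dickson.generation h2 (lam := lam') (fun h => hlam (congrArg Subtype.val h)) hgen
    (G := J.comap φ) (by rw [Subgroup.mem_comap, hφl]; exact hl) (by rw [Subgroup.mem_comap, hφu]; exact hu)
  letI := Fintype.ofFinite F
  obtain ⟨k, -, hk⟩ := FiniteField.card F p
  rw [← Nat.card_eq_fintype_card] at hk
  rcases hG with hG | ⟨h9, -, -⟩
  · let ψ : Multiplicative F →* J :=
      { toFun := fun a => ⟨φ (upS a.toAdd), Subgroup.mem_comap.1 (hG ▸ Subgroup.mem_top _)⟩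
        map_one' := Subtype.ext (by
          show φ (upS 0) = 1
          rw [show upS (0 : F) = 1 from by ext i j; rw [upS_coe]; fin_cases i <;> fin_cases j <;> simp, map_one])
        map_mul' := fun a b => Subtype.ext (by
          show φ (upS (a.toAdd + b.toAdd)) = φ (upS a.toAdd) * φ (upS b.toAdd)
          rw [upS_add, map_mul]) }
    have hψ : Function.Injective ψ := fun a b h =>
      Multiplicative.toAdd.injective (upS_injective (hφinj (congrArg Subtype.val h)))
    have hd := Subgroup.card_dvd_of_injective ψ hψ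
    rw [Nat.card_congr Multiplicative.toAdd, hk] at hd
    have hk1 : (k : ℕ) = 1 := by
      by_contra hne
      exact hsq ((pow_dvd_pow p (show 2 ≤ (k : ℕ) by have := k.pos; omega)).trans hd)
    have hsurj : Function.Surjective (ZMod.castHom (dvd_refl p) F) := by
      haveI := Fintype.ofFinite F
      refine ((Fintype.bijective_iff_injective_and_card _).2 ⟨RingHom.injective _, ?_⟩).2
      rw [ZMod.card, ← Nat.card_eq_fintype_card (α := F), hk, hk1, pow_one]
    obtain ⟨z, hz⟩ := hsurj lam'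
    refine ⟨z, ?_⟩
    have := congrArg F.subtype hz
    rw [← RingHom.comp_apply] at this
    rwa [Subsingleton.elim (F.subtype.comp (ZMod.castHom (dvd_refl p) F)) (ZMod.castHom (dvd_refl p) κ)] at this
  · exfalso
    rw [hk] at h9
    have h3 : p ∣ 9 := h9 ▸ dvd_pow_self p k.2.ne'
    have := Nat.le_of_dvd (by omega) (hp.out.dvd_of_dvd_pow (show p ∣ 3 ^ 2 by simpa using h3))
    omega

end Prime

/-- The symmetric square of a matrix. -/
def sym2 : Matrix (Fin 2) (Fin 2) κ →* Matrix (Fin 3) (Fin 3) κ where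
  toFun g := !![g 0 0 ^ 2, g 0 0 * g 0 1, g 0 1 ^ 2;
    2 * g 0 0 * g 1 0, g 0 0 * g 1 1 + g 0 1 * g 1 0, 2 * g 0 1 * g 1 1;
    g 1 0 ^ 2, g 1 0 * g 1 1, g 1 1 ^ 2]
  map_one' := by ext i j; fin_cases i <;> fin_cases j <;> simp
  map_mul' g h := by
    ext i j
    fin_cases i <;> fin_cases j <;> simp [Matrix.mul_apply, Fin.sum_univ_two, Fin.sum_univ_three] <;> ring

variable {W : Type*} [AddCommGroup W] [Module κ W] (Q : LinearMap.BilinForm κ W)

/-- A frame of two isotropic vectors and a vector orthogonal to both. -/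
structure Frame where
  /-- the basis -/
  b : Module.Basis (Fin 3) κ W
  /-- the value of the form -/
  β : κ
  β_ne : β ≠ 0
  q00 : Q (b 0) (b 0) = 0
  q01 : Q (b 0) (b 1) = 0
  q02 : Q (b 0) (b 2) = -2 * β
  q11 : Q (b 1) (b 1) = β
  q12 : Q (b 1) (b 2) = 0
  q22 : Q (b 2) (b 2) = 0

variable {Q}

/-- The adjoint representation attached to a frame. -/
noncomputable def Frame.rep (F : Frame Q) : SpecialLinearGroup (Fin 2) κ →* End κ W :=
  (Matrix.toLinAlgEquiv F.b).toMonoidHom.comp (sym2.comp coeSL)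

theorem Frame.rep_apply (F : Frame Q) (g : SpecialLinearGroup (Fin 2) κ) (i : Fin 3) :
    F.rep g (F.b i) = ∑ j, sym2 (g : Matrix (Fin 2) (Fin 2) κ) j i • F.b j :=
  Matrix.toLinAlgEquiv_self _ _ _

theorem Frame.up_zero (F : Frame Q) (s : κ) : F.rep (upS s) (F.b 0) = F.b 0 := by
  rw [F.rep_apply, upS_coe]; simp [sym2, Fin.sum_univ_three]

theorem Frame.up_one (F : Frame Q) (s : κ) : F.rep (upS s) (F.b 1) = F.b 1 + s • F.b 0 := by
  rw [F.rep_apply, upS_coe]; simp [sym2, Fin.sum_univ_three]; abel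

theorem Frame.up_two (F : Frame Q) (s : κ) :
    F.rep (upS s) (F.b 2) = F.b 2 + (2 * s) • F.b 1 + s ^ 2 • F.b 0 := by
  rw [F.rep_apply, upS_coe]; simp [sym2, Fin.sum_univ_three]; abel

theorem Frame.low_zero (F : Frame Q) (t : κ) :
    F.rep (lowS t) (F.b 0) = F.b 0 + (2 * t) • F.b 1 + t ^ 2 • F.b 2 := by
  rw [F.rep_apply, lowS_coe]; simp [sym2, Fin.sum_univ_three]

theorem Frame.low_one (F : Frame Q) (t : κ) : F.rep (lowS t) (F.b 1) = F.b 1 + t • F.b 2 := by
  rw [F.rep_apply, lowS_coe]; simp [sym2, Fin.sum_univ_three]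

theorem Frame.low_two (F : Frame Q) (t : κ) : F.rep (lowS t) (F.b 2) = F.b 2 := by
  rw [F.rep_apply, lowS_coe]; simp [sym2, Fin.sum_univ_three]

theorem Frame.ext_end (F : Frame Q) {f g : End κ W} (h0 : f (F.b 0) = g (F.b 0))
    (h1 : f (F.b 1) = g (F.b 1)) (h2 : f (F.b 2) = g (F.b 2)) : f = g :=
  F.b.ext fun i => by fin_cases i; exacts [h0, h1, h2]

theorem Frame.expand (F : Frame Q) (x : W) :
    x = F.b.repr x 0 • F.b 0 + F.b.repr x 1 • F.b 1 + F.b.repr x 2 • F.b 2 := by
  conv_lhs => rw [← F.b.sum_repr x]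
  rw [Fin.sum_univ_three]

/-- A frame from vectors with the Gram matrix of a frame. -/
theorem Frame.exists_of_gram [FiniteDimensional κ W] (h3 : Module.finrank κ W = 3)
    (hsymm : ∀ x y, Q x y = Q y x) {a b c : W} {β : κ} (hβ : β ≠ 0) (h2 : (2 : κ) ≠ 0)
    (h00 : Q a a = 0) (h01 : Q a b = 0) (h02 : Q a c = -2 * β) (h11 : Q b b = β) (h12 : Q b c = 0)
    (h22 : Q c c = 0) : ∃ F : Frame Q, F.b 0 = a ∧ F.b 1 = b ∧ F.b 2 = c := by
  have hli : LinearIndependent κ ![a, b, c] := by
    rw [Fintype.linearIndependent_iff]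
    intro x hx i
    have e : ∀ v, Q v (∑ j, x j • ![a, b, c] j) = 0 := fun v => by rw [hx, map_zero]
    have ea := e a
    have eb := e b
    have ec := e c
    simp only [Fin.sum_univ_three, Matrix.cons_val_zero, Matrix.cons_val_one, Matrix.cons_val_two,
      Matrix.tail_cons, Matrix.head_cons, map_add, map_smul, smul_eq_mul, h00, h01, h02, h11, h12, h22,
      hsymm b a, hsymm c a, hsymm c b, mul_zero, add_zero, zero_add, mul_eq_zero, neg_eq_zero, h2, hβ,
      or_false] at ea eb ec
    fin_cases i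
    exacts [ec, eb, ea]
  let B := basisOfLinearIndependentOfCardEqFinrank hli (by rw [h3, Fintype.card_fin])
  have hB : (B : Fin 3 → W) = ![a, b, c] := coe_basisOfLinearIndependentOfCardEqFinrank _ _
  refine ⟨⟨B, β, hβ, ?_, ?_, ?_, ?_, ?_, ?_⟩, ?_, ?_, ?_⟩ <;> simp only [hB] <;>
    simp [h00, h01, h02, h11, h12, h22]

variable (h2 : (2 : κ) ≠ 0) (hsymm : ∀ x y, Q x y = Q y x)

include h2 hsymm

/-- A unipotent isometry fixing the first isotropic vector. -/
theorem Frame.eq_up (F : Frame Q) {U : End κ W} (hU : ∀ x y, Q (U x) (U y) = Q x y)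
    (hnil : (U - 1) ^ 3 = 0) (h0 : U (F.b 0) = F.b 0) : ∃ s, U = F.rep (upS s) := by
  have hb : -2 * F.β ≠ 0 := mul_ne_zero (neg_ne_zero.2 h2) F.β_ne
  set x₀ := F.b.repr (U (F.b 1)) 0 with hx₀
  set x₁ := F.b.repr (U (F.b 1)) 1 with hx₁
  set x₂ := F.b.repr (U (F.b 1)) 2 with hx₂
  have e1 : U (F.b 1) = x₀ • F.b 0 + x₁ • F.b 1 + x₂ • F.b 2 := F.expand _
  have hx2 : x₂ = 0 := by
    have h := hU (F.b 0) (F.b 1)
    rw [h0, e1] at h
    simp only [map_add, map_smul, smul_eq_mul, F.q00, F.q01, F.q02, mul_zero, zero_add] at h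
    exact (mul_eq_zero.1 h).resolve_right hb
  rw [hx2, zero_smul, add_zero] at e1
  have hx1 : x₁ = 1 := by
    have hT1 : (U - 1) (F.b 1) = x₀ • F.b 0 + (x₁ - 1) • F.b 1 := by
      rw [LinearMap.sub_apply, Module.End.one_apply, e1, sub_smul, one_smul, add_sub_assoc]
    have hT0 : (U - 1) (F.b 0) = 0 := by rw [LinearMap.sub_apply, Module.End.one_apply, h0, sub_self]
    have h := LinearMap.congr_fun hnil (F.b 1)
    simp only [pow_succ, pow_zero, one_mul, Module.End.mul_apply, hT1, map_add, map_smul, hT0, smul_zero,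
      zero_add, LinearMap.zero_apply, smul_add, smul_smul] at h
    have h' := congrArg (fun v => F.b.repr v 1) h
    simp at h'
    exact sub_eq_zero.1 h'
  rw [hx1, one_smul] at e1
  set y₀ := F.b.repr (U (F.b 2)) 0 with hy₀
  set y₁ := F.b.repr (U (F.b 2)) 1 with hy₁
  set y₂ := F.b.repr (U (F.b 2)) 2 with hy₂
  have e2 : U (F.b 2) = y₀ • F.b 0 + y₁ • F.b 1 + y₂ • F.b 2 := F.expand _
  have hy2 : y₂ = 1 := by
    have h := hU (F.b 0) (F.b 2)
    rw [h0, e2] at h
    simp only [map_add, map_smul, smul_eq_mul, F.q00, F.q01, F.q02, mul_zero, zero_add] at h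
    exact mul_right_cancel₀ hb (by rw [one_mul]; exact h)
  rw [hy2, one_smul] at e2
  have hy1 : y₁ = 2 * x₀ := by
    have h := hU (F.b 1) (F.b 2)
    rw [e1, e2] at h
    simp only [map_add, map_smul, LinearMap.add_apply, LinearMap.smul_apply, smul_eq_mul, F.q00, F.q01, F.q02,
      F.q11, F.q12, hsymm (F.b 1) (F.b 0), mul_zero, add_zero, zero_add] at h
    refine mul_right_cancel₀ F.β_ne ?_
    linear_combination h
  have hy0 : y₀ = x₀ ^ 2 := by
    have h := hU (F.b 2) (F.b 2)
    rw [e2] at h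
    simp only [map_add, map_smul, LinearMap.add_apply, LinearMap.smul_apply, smul_eq_mul, F.q00, F.q01, F.q02,
      F.q11, F.q12, F.q22, hsymm (F.b 1) (F.b 0), hsymm (F.b 2) (F.b 0), hsymm (F.b 2) (F.b 1), mul_zero,
      add_zero, zero_add, hy1] at h
    refine mul_right_cancel₀ (mul_ne_zero (mul_ne_zero h2 h2) F.β_ne) ?_
    linear_combination -h
  refine ⟨x₀, F.ext_end ?_ ?_ ?_⟩
  · rw [h0, F.up_zero]
  · rw [e1, F.up_one]; abel
  · rw [e2, F.up_two, hy0, hy1]; abel

/-- The frame with the two isotropic vectors exchanged. -/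
theorem Frame.exists_swap [FiniteDimensional κ W] (F : Frame Q) (h3 : Module.finrank κ W = 3) :
    ∃ G : Frame Q, G.b 0 = F.b 2 ∧ G.b 1 = F.b 1 ∧ G.b 2 = F.b 0 :=
  Frame.exists_of_gram h3 hsymm F.β_ne h2 F.q22 (by rw [hsymm, F.q12]) (by rw [hsymm, F.q02]) F.q11
    (by rw [hsymm, F.q01]) F.q00

/-- A unipotent isometry fixing the second isotropic vector. -/
theorem Frame.eq_low [FiniteDimensional κ W] (F : Frame Q) (h3 : Module.finrank κ W = 3) {U : End κ W}
    (hU : ∀ x y, Q (U x) (U y) = Q x y) (hnil : (U - 1) ^ 3 = 0) (h0 : U (F.b 2) = F.b 2) :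
    ∃ t, U = F.rep (lowS t) := by
  obtain ⟨G, g0, g1, g2⟩ := Frame.exists_swap h2 hsymm F h3
  obtain ⟨t, ht⟩ := G.eq_up h2 hsymm hU hnil (by rw [g0, h0])
  refine ⟨t, F.ext_end ?_ ?_ ?_⟩
  · rw [ht, ← g2, G.up_two, g0, g1, g2, F.low_zero]
  · rw [ht, ← g1, G.up_one, g0, g1, F.low_one]
  · rw [ht, ← g0, G.up_zero, g0, F.low_two]

omit hsymm in
theorem Frame.rep_eq_one (F : Frame Q) {g : SpecialLinearGroup (Fin 2) κ} (hg : F.rep g = 1) :
    g = 1 ∨ g = -1 := by
  have e : ∀ i j, sym2 (g : Matrix (Fin 2) (Fin 2) κ) j i = if j = i then 1 else 0 := fun i j => by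
    have h := congrArg (fun v => F.b.repr v j) (F.rep_apply g i)
    simp only [hg, Module.End.one_apply, map_sum, map_smul, Module.Basis.repr_self,
      Finsupp.coe_finsetSum, Finset.sum_apply, Finsupp.coe_smul, Pi.smul_apply, Finsupp.single_apply,
      smul_eq_mul, mul_ite, mul_one, mul_zero, Finset.sum_ite_eq', Finset.mem_univ, if_true] at h
    rw [← h]
    exact if_congr ⟨fun h => h.symm, fun h => h.symm⟩ rfl rfl
  have h00 := e 0 0
  have h20 := e 0 2
  have h02 := e 2 0
  have h11 := e 1 1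
  simp [sym2] at h00 h20 h02 h11
  rw [h02, h20, mul_zero, add_zero] at h11
  rcases h00 with h | h
  · left
    ext i j
    rw [h, one_mul] at h11
    fin_cases i <;> fin_cases j <;> simp [h, h20, h02, h11]
  · right
    ext i j
    rw [h, neg_one_mul, neg_eq_iff_eq_neg] at h11
    fin_cases i <;> fin_cases j <;> simp [h, h20, h02, h11]

variable {p : ℕ} [hp : Fact p.Prime] [CharP κ p] [IsAlgClosed κ]
  {X : Type*} [Group X] [Finite X] (σ : X →* End κ W)

/-- Two elements of the group with parameters `1` and `t`. -/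
theorem mem_prime_of_pair (hp5 : 5 ≤ p) (hsq : ¬ p ^ 2 ∣ Nat.card X) (F : Frame Q) {g k : X} {t : κ}
    (ht : t ≠ 0) (hg : σ g = F.rep (upS t)) (hk : σ k = F.rep (lowS 1)) :
    t ∈ (ZMod.castHom (dvd_refl p) κ).fieldRange := by
  classical
  set J : Subgroup (SpecialLinearGroup (Fin 2) κ) := (σ.toHomUnits.range).comap F.rep.toHomUnits with hJ
  have hmem : ∀ (a : SpecialLinearGroup (Fin 2) κ) (x : X), σ x = F.rep a → a ∈ J := fun a x h =>
    ⟨x, Units.ext h⟩
  set θ : J →* σ.toHomUnits.range := (F.rep.toHomUnits.comp J.subtype).codRestrict _ fun a => a.2 with hθ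
  have hker : ∀ a : θ.ker, ((a : J) : SpecialLinearGroup (Fin 2) κ) = 1 ∨
      ((a : J) : SpecialLinearGroup (Fin 2) κ) = -1 := fun a => by
    have h := congrArg (fun y : σ.toHomUnits.range => ((y : (End κ W)ˣ) : End κ W)) (θ.mem_ker.1 a.2)
    exact F.rep_eq_one h2 h
  let f : θ.ker → Fin 2 := fun a => if ((a : J) : SpecialLinearGroup (Fin 2) κ) = 1 then 0 else 1
  have hf : Function.Injective f := fun a b h => by
    refine Subtype.ext (Subtype.ext ?_)
    by_cases ha : ((a : J) : SpecialLinearGroup (Fin 2) κ) = 1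
    · by_cases hb : ((b : J) : SpecialLinearGroup (Fin 2) κ) = 1
      · exact ha.trans hb.symm
      · exact absurd h (by simp only [f, if_pos ha, if_neg hb]; exact zero_ne_one)
    · by_cases hb : ((b : J) : SpecialLinearGroup (Fin 2) κ) = 1
      · exact absurd h (by simp only [f, if_neg ha, if_pos hb]; exact zero_ne_one.symm)
      · exact ((hker a).resolve_left ha).trans ((hker b).resolve_left hb).symm
  haveI : Finite θ.ker := Finite.of_injective f hf
  have hk2 : Nat.card θ.ker ∣ 2 := by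
    have h1 := Nat.card_le_card_of_injective f hf
    have h2' : 0 < Nat.card θ.ker := Nat.card_pos
    rw [Nat.card_fin] at h1
    interval_cases Nat.card θ.ker <;> norm_num
  have hi : θ.ker.index ∣ Nat.card X := by
    rw [Subgroup.index_ker]
    exact (Subgroup.card_subgroup_dvd_card θ.range).trans
      (Subgroup.card_range_dvd σ.toHomUnits)
  have hcard : Nat.card J ∣ 2 * Nat.card X := by
    rw [← θ.ker.card_mul_index]
    exact mul_dvd_mul hk2 hi
  haveI : Finite J := Nat.finite_of_card_ne_zero fun h0 => by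
    rw [h0, zero_dvd_iff] at hcard
    have := Nat.card_pos (α := X)
    omega
  refine mem_prime_field hp5 ht J (hmem _ g hg) (hmem _ k hk) fun h => hsq ?_
  refine (Nat.Coprime.pow_left 2 ((hp.out.coprime_iff_not_dvd).2 fun h' => ?_)).dvd_of_dvd_mul_left (h.trans hcard)
  have := Nat.le_of_dvd two_pos h'
  omega

end CfsgLib.HalfDegree
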