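import Cfsg.Agent.Lib.HalfDegree.Block
import Cfsg.Agent.Lib.HalfDegree.Conic

/-!
# At most `p + 1` Sylow subgroups on a three dimensional orthogonal space
-/

set_option autoImplicit false
set_option linter.style.haveILetI false
set_option linter.unusedSectionVars false

namespace CfsgLib.HalfDegree

open Module (End)
open CfsgLib.ClassicalLinear (upS upS_add)
open CfsgLib.SL2.Dickson (lowS)

variable {κ : Type*} [Field κ] {W : Type*} [AddCommGroup W] [Module κ W] [FiniteDimensional κ W]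
  {Q : LinearMap.BilinForm κ W} (h3 : Module.finrank κ W = 3) (hsymm : ∀ x y, Q x y = Q y x)
  (hnd : ∀ x, (∀ y, Q x y = 0) → x = 0) (h2 : (2 : κ) ≠ 0)

include h3 hsymm hnd h2

theorem eq_zero_of_orth_basis {a b c x : W} (hli : LinearIndependent κ ![a, b, c]) (ha : Q x a = 0)
    (hb : Q x b = 0) (hc : Q x c = 0) : x = 0 := by
  let B := basisOfLinearIndependentOfCardEqFinrank hli (by rw [h3, Fintype.card_fin])
  have hB : (B : Fin 3 → W) = ![a, b, c] := coe_basisOfLinearIndependentOfCardEqFinrank _ _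
  refine hnd x fun y => LinearMap.congr_fun (B.ext (f₁ := Q x) (f₂ := 0) fun i => ?_) y
  rw [hB, LinearMap.zero_apply]
  fin_cases i <;> simpa

/-- Orthogonal isotropic vectors are dependent. -/
theorem exists_eq_smul_of_orth {a c : W} (ha : a ≠ 0) (haa : Q a a = 0) (hcc : Q c c = 0) (hac : Q a c = 0) :
    ∃ k : κ, c = k • a := by
  obtain ⟨z, hz⟩ : ∃ z, Q a z ≠ 0 := by
    by_contra hall
    push Not at hall
    exact ha (hnd a hall)
  by_contra hne
  push Not at hne
  have hli : LinearIndependent κ ![a, c, z] := by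
    rw [Fintype.linearIndependent_iff]
    intro x hx i
    have e : Q a (∑ j, x j • ![a, c, z] j) = 0 := by rw [hx, map_zero]
    simp [Fin.sum_univ_three, haa, hac, hz] at e
    have e1 : x 1 = 0 := by
      by_contra h1
      refine hne (-(x 1)⁻¹ * x 0) ?_
      simp [Fin.sum_univ_three, e] at hx
      have h' : x 1 • c = -(x 0 • a) := by
        rw [add_comm] at hx
        exact eq_neg_of_add_eq_zero_left hx
      rw [← inv_smul_smul₀ h1 c, h', smul_neg, neg_mul, neg_smul, mul_smul]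
    have e0 : x 0 = 0 := by
      simp [Fin.sum_univ_three, e, e1] at hx
      exact hx.resolve_right ha
    fin_cases i
    exacts [e0, e1, e]
  have h0 := eq_zero_of_orth_basis h3 hsymm hnd h2 hli (x := Q c z • a - Q a z • c)
    (by simp [haa, hsymm c a, hac]) (by simp [hac, hcc])
    (by simp [mul_comm])
  refine hne ((Q a z)⁻¹ * Q c z) ?_
  rw [mul_smul, sub_eq_zero.1 h0, inv_smul_smul₀ hz]

/-- A frame through two isotropic vectors. -/
theorem exists_frame_pair {a c : W} (haa : Q a a = 0) (hcc : Q c c = 0) (hac : Q a c ≠ 0) :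
    ∃ (F : Frame Q) (k : κ), F.b 0 = a ∧ F.b 2 = k • c := by
  have hker : LinearMap.ker ((Q a).prod (Q c)) ≠ ⊥ := LinearMap.ker_ne_bot_of_finrank_lt (by
    rw [Module.finrank_prod, Module.finrank_self, h3]; norm_num)
  obtain ⟨b, hb, hb0⟩ := Submodule.exists_mem_ne_zero_of_ne_bot hker
  replace hb : Q a b = 0 ∧ Q c b = 0 := Prod.mk_eq_zero.1 (LinearMap.mem_ker.1 hb)
  have hli : LinearIndependent κ ![a, b, c] := by
    rw [Fintype.linearIndependent_iff]
    intro x hx i
    have e : ∀ v, Q v (∑ j, x j • ![a, b, c] j) = 0 := fun v => by rw [hx, map_zero]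
    have e2 := e a
    have e0 := e c
    simp [Fin.sum_univ_three, haa, hb.1, hac] at e2
    simp [Fin.sum_univ_three, hcc, hb.2, hsymm c a, hac] at e0
    have e1 : x 1 = 0 := by
      simp [Fin.sum_univ_three, e0, e2] at hx
      exact hx.resolve_right hb0
    fin_cases i
    exacts [e0, e1, e2]
  have hbb : Q b b ≠ 0 := fun h => hb0 (eq_zero_of_orth_basis h3 hsymm hnd h2 hli
    (by rw [hsymm, hb.1]) h (by rw [hsymm, hb.2]))
  obtain ⟨F, f0, -, f2⟩ := Frame.exists_of_gram (Q := Q) h3 hsymm (a := a) (b := b)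
    (c := (-2 * Q b b / Q a c) • c) hbb h2 haa hb.1
    (by rw [map_smul, smul_eq_mul, div_mul_cancel₀ _ hac]) rfl
    (by rw [map_smul, hsymm b c, hb.2, smul_zero]) (by simp [hcc])
  exact ⟨F, _, f0, f2⟩

/-- A frame through one isotropic vector. -/
theorem exists_frame_single {a : W} (ha : a ≠ 0) (haa : Q a a = 0) : ∃ F : Frame Q, F.b 0 = a := by
  obtain ⟨z, hz⟩ : ∃ z, Q a z ≠ 0 := by
    by_contra hall
    push Not at hall
    exact ha (hnd a hall)
  obtain ⟨F, -, h, -⟩ := exists_frame_pair h3 hsymm hnd h2 (a := a)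
    (c := z - (Q z z / (2 * Q a z)) • a) haa
    (by simp only [map_sub, map_smul, LinearMap.sub_apply, LinearMap.smul_apply, smul_eq_mul, haa,
          hsymm z a]
        field_simp
        ring)
    (by simp [haa, hz])
  exact ⟨F, h⟩

/-- A rescaled frame. -/
theorem exists_scale (F : Frame Q) {l : κ} (hl : l ≠ 0) :
    ∃ G : Frame Q, G.b 0 = l • F.b 0 ∧ G.b 1 = F.b 1 ∧ G.b 2 = l⁻¹ • F.b 2 :=
  Frame.exists_of_gram h3 hsymm F.β_ne h2 (by simp [F.q00]) (by simp [F.q01])
    (by simp only [map_smul, LinearMap.smul_apply, smul_eq_mul, F.q02]; field_simp)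
    F.q11 (by simp [F.q12]) (by simp [F.q22])

/-- A translated frame. -/
theorem exists_shift (F : Frame Q) (x : κ) :
    ∃ G : Frame Q, G.b 0 = F.b 0 ∧ G.b 1 = F.b 1 + x • F.b 0 ∧
      G.b 2 = F.b 2 + (2 * x) • F.b 1 + x ^ 2 • F.b 0 := by
  refine Frame.exists_of_gram h3 hsymm F.β_ne h2 F.q00 ?_ ?_ ?_ ?_ ?_ <;>
    simp only [map_add, map_smul, LinearMap.add_apply, LinearMap.smul_apply, smul_eq_mul, F.q00, F.q01, F.q02,
      F.q11, F.q12, F.q22, hsymm (F.b 1) (F.b 0), hsymm (F.b 2) (F.b 0), hsymm (F.b 2) (F.b 1)] <;> ring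

omit hnd in
theorem up_param (F : Frame Q) {U : End κ W} (hU : ∀ x y, Q (U x) (U y) = Q x y) (hnil : (U - 1) ^ 3 = 0)
    (h0 : U (F.b 0) = F.b 0) {s : κ} (h1 : U (F.b 1) = F.b 1 + s • F.b 0) : U = F.rep (upS s) := by
  obtain ⟨s', rfl⟩ := F.eq_up h2 hsymm hU hnil h0
  rw [F.up_one, add_right_inj] at h1
  rw [smul_left_injective κ (F.b.ne_zero 0) h1]

omit hnd in
theorem low_param (F : Frame Q) {U : End κ W} (hU : ∀ x y, Q (U x) (U y) = Q x y) (hnil : (U - 1) ^ 3 = 0)
    (h0 : U (F.b 2) = F.b 2) {t : κ} (h1 : U (F.b 1) = F.b 1 + t • F.b 2) : U = F.rep (lowS t) := by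
  obtain ⟨t', rfl⟩ := F.eq_low h2 hsymm h3 hU hnil h0
  rw [F.low_one, add_right_inj] at h1
  rw [smul_left_injective κ (F.b.ne_zero 2) h1]

/-- The fixed line of a regular unipotent isometry. -/
theorem exists_fixed_line {U : End κ W} (hU : ∀ x y, Q (U x) (U y) = Q x y) (hnil : (U - 1) ^ 3 = 0)
    (hne : (U - 1) ^ 2 ≠ 0) :
    ∃ a : W, a ≠ 0 ∧ U a = a ∧ Q a a = 0 ∧ ∀ y, U y = y → ∃ c : κ, y = c • a := by
  obtain ⟨w, hw⟩ : ∃ w, ((U - 1) ^ 2 : End κ W) w ≠ 0 := by
    by_contra hall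
    push Not at hall
    exact hne (LinearMap.ext hall)
  set T := U - 1 with hT
  have hTU : ∀ y, U y = T y + y := fun y => by simp [hT]
  set a := (T ^ 2) w with ha
  have hTa : T a = 0 := by
    rw [ha, ← Module.End.mul_apply, ← pow_succ', hnil, LinearMap.zero_apply]
  have hUa : U a = a := by rw [hTU, hTa, zero_add]
  have hperp : ∀ z, Q a (T z) = 0 := fun z => by
    have h := hU a z
    rw [hUa, hTU, map_add] at h
    exact add_eq_right.1 h
  refine ⟨a, hw, hUa, ?_, fun y hy => ?_⟩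
  · have e : a = T (T w) := by rw [ha, pow_two, Module.End.mul_apply]
    conv_lhs => arg 2; rw [e]
    exact hperp _
  · let L : (Fin 3 → κ) →ₗ[κ] W := Fintype.linearCombination κ fun i : Fin 3 => (T ^ (i : ℕ)) w
    have hL : ∀ c, L c = ∑ i, c i • (T ^ (i : ℕ)) w := fun c => Fintype.linearCombination_apply _ _ _
    have hinj : Function.Injective L := (injective_iff_map_eq_zero L).2 fun c hc =>
      combination_injective hnil hw c (by rw [← hL, hc])
    have hsurj : Function.Surjective L :=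
      (LinearMap.injective_iff_surjective_of_finrank_eq_finrank (by rw [Module.finrank_fin_fun, h3])).1 hinj
    obtain ⟨c, rfl⟩ := hsurj y
    have hT0 : T (L c) = 0 := by rw [hT, LinearMap.sub_apply, Module.End.one_apply, hy, sub_self]
    have hL0 : L ![0, c 0, c 1] = 0 := by
      rw [← hT0, hL, hL, map_sum, Fin.sum_univ_three, Fin.sum_univ_three]
      have h3' : T ((T ^ 2) w) = 0 := hTa
      simp [pow_two, Module.End.mul_apply] at h3' ⊢
      exact Or.inr h3'
    have hz := hinj (hL0.trans (map_zero L).symm)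
    have h00 : c 0 = 0 := by simpa using congrFun hz 1
    have h01 : c 1 = 0 := by simpa using congrFun hz 2
    exact ⟨c 2, by rw [hL, Fin.sum_univ_three, h00, h01]; simp [ha]⟩

variable {p : ℕ} [hp : Fact p.Prime] [CharP κ p] [IsAlgClosed κ] {X : Type*} [Group X] [Finite X]

set_option maxHeartbeats 1000000 in
/-- There are at most `p + 1` Sylow subgroups. -/
theorem card_sylow_le (hp5 : 5 ≤ p) (hsq : ¬ p ^ 2 ∣ Nat.card X) {u : X} (hu : orderOf u = p)
    (σ : X →* End κ W) (hinv : ∀ g x y, Q (σ g x) (σ g y) = Q x y) (hT3 : (σ u - 1) ^ 3 = 0)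
    (hT2 : (σ u - 1) ^ 2 ≠ 0) (hker : ∀ r, σ r = 1 → Commute r u) :
    Nat.card (Sylow p X) ≤ p + 1 := by
  classical
  have hfac : (Nat.card X).factorization p = 1 := by
    refine le_antisymm ?_ (hp.out.factorization_pos_of_dvd Nat.card_pos.ne' (hu ▸ orderOf_dvd_natCard u))
    by_contra h
    push Not at h
    exact hsq ((hp.out.pow_dvd_iff_le_factorization Nat.card_pos.ne').2 h)
  let P₀ : Sylow p X := Sylow.ofCard (Subgroup.zpowers u) (by rw [Nat.card_zpowers, hu, hfac, pow_one])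
  -- generators of the Sylow subgroups
  have hgen : ∀ S : Sylow p X, ∃ v : X, orderOf v = p ∧ Subgroup.zpowers v = (S : Subgroup X) ∧
      (σ v - 1) ^ 3 = 0 ∧ (σ v - 1) ^ 2 ≠ 0 ∧ ∀ r, σ r = 1 → Commute r v := by
    intro S
    obtain ⟨g, hg⟩ := MulAction.exists_smul_eq X P₀ S
    have hc1 : σ g * σ g⁻¹ = 1 := by rw [← map_mul, mul_inv_cancel, map_one]
    have hc2 : σ g⁻¹ * σ g = 1 := by rw [← map_mul, inv_mul_cancel, map_one]
    have hconj : ∀ k, (σ (g * u * g⁻¹) - 1) ^ k = σ g * (σ u - 1) ^ k * σ g⁻¹ := by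
      intro k
      induction k with
      | zero => rw [pow_zero, pow_zero, mul_one, hc1]
      | succ k ih =>
        have e : σ (g * u * g⁻¹) - 1 = σ g * (σ u - 1) * σ g⁻¹ := by
          rw [mul_sub, sub_mul, mul_one, hc1, map_mul, map_mul]
        rw [pow_succ, ih, e, pow_succ (σ u - 1)]
        simp only [mul_assoc]
        rw [← mul_assoc (σ g⁻¹), hc2, one_mul]
    refine ⟨g * u * g⁻¹, ?_, ?_, by rw [hconj, hT3, mul_zero, zero_mul], fun h => hT2 ?_, fun r hr => ?_⟩
    · rw [← hu]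
      exact orderOf_injective (MulAut.conj g).toMonoidHom (MulAut.conj g).injective u
    · have h1 : (g • P₀ : Sylow p X).1 = (Subgroup.zpowers u).map (MulAut.conj g).toMonoidHom := rfl
      rw [← hg]
      show _ = (g • P₀ : Sylow p X).1
      rw [h1, MonoidHom.map_zpowers]
      rfl
    · rw [hconj] at h
      have := congrArg (fun f => σ g⁻¹ * f * σ g) h
      simpa [mul_assoc, hc2, ← mul_assoc (σ g⁻¹)] using this
    · have hr' : σ (g⁻¹ * r * g) = 1 := by rw [map_mul, map_mul, hr, mul_one, hc2]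
      have h := (hker _ hr').map (MulAut.conj g).toMonoidHom
      simpa [mul_assoc] using h
  choose v hvo hvS hv3 hv2 hvker using hgen
  choose a ha0 haf haa hauniq using fun S => exists_fixed_line h3 hsymm hnd h2 (hinv (v S)) (hv3 S) (hv2 S)
  have hfixmem : ∀ (S : Sylow p X) (x : W), σ (v S) x = x → ∀ r ∈ (S : Subgroup X), σ r x = x := by
    intro S x hx r hr
    rw [← hvS S] at hr
    obtain ⟨i, rfl⟩ := mem_powers_iff_mem_zpowers.2 hr
    induction i with
    | zero => simp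
    | succ i ih =>
      show σ (v S ^ (i + 1)) x = x
      rw [pow_succ, map_mul, Module.End.mul_apply, hx]
      exact ih (mem_powers_iff_mem_zpowers.1 ⟨i, rfl⟩)
  -- the line determines the subgroup
  have hline : ∀ S T : Sylow p X, σ (v T) (a S) = a S → S = T := by
    intro S T hT
    obtain ⟨F, hF⟩ := exists_frame_single h3 hsymm hnd h2 (ha0 S) (haa S)
    obtain ⟨s, hs⟩ := F.eq_up h2 hsymm (hinv (v S)) (hv3 S) (by rw [hF, haf])
    obtain ⟨t, ht⟩ := F.eq_up h2 hsymm (hinv (v T)) (hv3 T) (by rw [hF, hT])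
    set x := v S
    set y := v T
    have hxy : σ (x * y) = σ (y * x) := by
      rw [map_mul, map_mul, hs, ht, ← map_mul, ← map_mul, ← upS_add, ← upS_add, add_comm]
    set c := y * x * y⁻¹ * x⁻¹ with hc
    have hc1 : σ c = 1 := by
      rw [hc, mul_assoc, map_mul, ← hxy, ← map_mul,
        show x * y * (y⁻¹ * x⁻¹) = 1 by group, map_one]
    have hcp : c ^ p = 1 := by
      have e : c * x = y * x * y⁻¹ := by rw [hc, inv_mul_cancel_right]
      have h1 : (c * x) ^ p = 1 := by
        rw [e, conj_pow, ← hvo S, pow_orderOf_eq_one, mul_one, mul_inv_cancel]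
      have hx1 : x ^ p = 1 := by rw [← hvo S, pow_orderOf_eq_one]
      rwa [(hvker S c hc1).mul_pow, hx1, mul_one] at h1
    have hc0 : c = 1 := by
      by_contra hne
      have hco : orderOf c = p := orderOf_eq_prime hcp hne
      let R : Sylow p X := Sylow.ofCard (Subgroup.zpowers c) (by rw [Nat.card_zpowers, hco, hfac, pow_one])
      have hvR : v R ∈ Subgroup.zpowers c := by
        show v R ∈ (R : Subgroup X)
        rw [← hvS R]; exact Subgroup.mem_zpowers _
      obtain ⟨i, hi⟩ := mem_powers_iff_mem_zpowers.2 hvR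
      refine hv2 R ?_
      have : σ (v R) = 1 := by rw [← show c ^ i = v R from hi, map_pow, hc1, one_pow]
      rw [this, sub_self, zero_pow two_ne_zero]
    have hyx : y * x * y⁻¹ = x := by
      rw [hc, mul_inv_eq_one] at hc0; exact hc0
    have hnorm : (T : Subgroup X) ≤ Subgroup.normalizer ((S : Subgroup X) : Set X) := by
      rw [← hvS T, Subgroup.zpowers_le, ← hvS S]
      refine Subgroup.mem_normalizer_fintype fun n hn => ?_
      obtain ⟨i, rfl⟩ := Subgroup.mem_zpowers_iff.1 hn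
      rw [← conj_zpow, hyx]
      exact Subgroup.zpow_mem _ (Subgroup.mem_zpowers x) i
    have hsup : IsPGroup p ↥((T : Subgroup X) ⊔ (S : Subgroup X)) := T.2.to_sup_of_normal_right' S.2 hnorm
    have h1 := S.3 hsup le_sup_right
    exact Sylow.ext (T.3 S.2 (le_sup_left.trans_eq h1))
  have hline' : ∀ S T : Sylow p X, (∃ k : κ, a S = k • a T) → S = T := by
    rintro S T ⟨k, hk⟩
    exact hline S T (by rw [hk, map_smul, haf])
  by_cases hone : ∀ S : Sylow p X, S = P₀
  · haveI : Subsingleton (Sylow p X) := ⟨fun A B => (hone A).trans (hone B).symm⟩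
    rw [Nat.card_of_subsingleton P₀]
    omega
  push Not at hone
  obtain ⟨R, hR⟩ := hone
  have huP : σ u (a P₀) = a P₀ := hfixmem P₀ _ (haf P₀) u (Subgroup.mem_zpowers u)
  -- the normalised frame
  obtain ⟨F, k, hF0, hF2, hFu⟩ : ∃ (F : Frame Q) (k : κ), (∃ l : κ, F.b 0 = l • a P₀) ∧
      F.b 2 = k • a R ∧ σ u = F.rep (upS 1) := by
    have hac : Q (a P₀) (a R) ≠ 0 := fun h => hR
      (hline' R P₀ (exists_eq_smul_of_orth h3 hsymm hnd h2 (ha0 P₀) (haa P₀) (haa R) h))
    obtain ⟨F, k, f0, f2⟩ := exists_frame_pair h3 hsymm hnd h2 (haa P₀) (haa R) hac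
    obtain ⟨s, hs⟩ := F.eq_up h2 hsymm (hinv u) hT3 (by rw [f0, huP])
    have hs0 : s ≠ 0 := by
      intro h0
      refine hT2 ?_
      rw [hs, h0, show upS (0 : κ) = 1 from by
        ext i j; rw [CfsgLib.ClassicalLinear.upS_coe]; fin_cases i <;> fin_cases j <;> simp,
        map_one, sub_self, zero_pow two_ne_zero]
    obtain ⟨G, g0, g1, g2⟩ := exists_scale h3 hsymm hnd h2 F hs0
    refine ⟨G, s⁻¹ * k, ⟨s, by rw [g0, f0]⟩, by rw [g2, f2, smul_smul], ?_⟩
    refine up_param h3 hsymm h2 G (hinv u) hT3 (by rw [g0, map_smul, f0, huP]) ?_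
    rw [g1, g0, one_smul, hs, F.up_one]
  obtain ⟨l, hl⟩ := hF0
  have hne0 : ∀ {r : κ} {y : W} {i : Fin 3}, F.b i = r • y → r ≠ 0 := fun h h0 =>
    F.b.ne_zero _ (by rw [h, h0, zero_smul])
  have hl0 := hne0 hl
  have hk0 := hne0 hF2
  have hcoord : ∀ (x y : κ) (k : κ), F.b 2 + (2 * x) • F.b 1 + x ^ 2 • F.b 0 =
      k • (F.b 2 + (2 * y) • F.b 1 + y ^ 2 • F.b 0) → x = y := by
    intro x y k h
    have h2c := congrArg (fun z => F.b.repr z 2) h
    have h1c := congrArg (fun z => F.b.repr z 1) h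
    simp at h2c h1c
    rw [← h2c, one_mul] at h1c
    exact mul_left_cancel₀ h2 h1c
  have hdata : ∀ S : Sylow p X, S ≠ P₀ → ∃ (x τ : κ) (G : Frame Q), G.b 0 = F.b 0 ∧
      G.b 1 = F.b 1 + x • F.b 0 ∧ G.b 2 = F.b 2 + (2 * x) • F.b 1 + x ^ 2 • F.b 0 ∧
      (∃ r : κ, r ≠ 0 ∧ a S = r • G.b 2) ∧ τ ≠ 0 ∧ σ (v S) = G.rep (lowS τ) ∧
      τ ∈ (ZMod.castHom (dvd_refl p) κ).fieldRange := by
    intro S hS
    set x₀ := F.b.repr (a S) 0 with hx₀
    set x₁ := F.b.repr (a S) 1 with hx₁
    set x₂ := F.b.repr (a S) 2 with hx₂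
    have e : a S = x₀ • F.b 0 + x₁ • F.b 1 + x₂ • F.b 2 := F.expand _
    have hiso : x₁ ^ 2 * F.β - 4 * F.β * (x₀ * x₂) = 0 := by
      have h := haa S
      rw [e] at h
      simp only [map_add, map_smul, LinearMap.add_apply, LinearMap.smul_apply, smul_eq_mul, F.q00, F.q01, F.q02,
        F.q11, F.q12, F.q22, hsymm (F.b 1) (F.b 0), hsymm (F.b 2) (F.b 0), hsymm (F.b 2) (F.b 1)] at h
      linear_combination h
    have hx2 : x₂ ≠ 0 := by
      intro h0
      rw [h0, mul_zero, mul_zero, sub_zero, mul_eq_zero] at hiso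
      have h1 := sq_eq_zero_iff.1 (hiso.resolve_right F.β_ne)
      refine hS (hline' S P₀ ⟨x₀ * l, ?_⟩)
      rw [e, h0, h1, zero_smul, zero_smul, add_zero, add_zero, hl, smul_smul]
    set x := x₁ / (2 * x₂) with hx
    obtain ⟨G, g0, g1, g2⟩ := exists_shift h3 hsymm hnd h2 F x
    have hxx : x₀ = x₂ * x ^ 2 := by
      refine mul_left_cancel₀ (mul_ne_zero (mul_ne_zero (mul_ne_zero h2 h2) hx2) F.β_ne) ?_
      rw [hx]
      field_simp
      linear_combination -hiso
    have haS : a S = x₂ • G.b 2 := by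
      rw [e, g2, smul_add, smul_add, smul_smul, smul_smul, ← hxx,
        show x₂ * (2 * x) = x₁ by rw [hx]; field_simp]
      abel
    have hfixG : σ (v S) (G.b 2) = G.b 2 := by
      have h := haf S
      rw [haS, map_smul] at h
      exact smul_right_injective W hx2 h
    obtain ⟨τ, hτ⟩ := G.eq_low h2 hsymm h3 (hinv (v S)) (hv3 S) hfixG
    have hτ0 : τ ≠ 0 := by
      intro h0
      refine hv2 S ?_
      rw [hτ, h0, CfsgLib.SL2.Dickson.lowS_zero, map_one, sub_self, zero_pow two_ne_zero]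
    obtain ⟨H, i0, i1, i2⟩ := exists_scale h3 hsymm hnd h2 G (inv_ne_zero hτ0)
    have hHu : σ u = H.rep (upS τ) := by
      refine up_param h3 hsymm h2 H (hinv u) hT3 (by rw [i0, g0, map_smul, hFu, F.up_zero]) ?_
      rw [i1, i0, smul_inv_smul₀ hτ0, g1, g0, map_add, map_smul, hFu, F.up_one, F.up_zero, one_smul]
      abel
    have hHv : σ (v S) = H.rep (lowS 1) := by
      refine low_param h3 hsymm h2 H (hinv (v S)) (hv3 S) (by rw [i2, map_smul, hfixG]) ?_
      rw [i1, i2, inv_inv, one_smul, hτ, G.low_one]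
    exact ⟨x, τ, G, g0, g1, g2, ⟨x₂, hx2, haS⟩, hτ0, hτ, mem_prime_of_pair h2 hsymm σ hp5 hsq H hτ0 hHu hHv⟩
  choose x τ G hG0 hG1 hG2 haG hτ0 hτ hτp using hdata
  set InP := (ZMod.castHom (dvd_refl p) κ).fieldRange with hInP
  have hinj : ∀ S T (hS : S ≠ P₀) (hT : T ≠ P₀), x S hS = x T hT → S = T := by
    intro S T hS hT h
    obtain ⟨r, -, hr⟩ := haG S hS
    obtain ⟨r', hr'0, hr'⟩ := haG T hT
    have e : (G S hS).b 2 = (G T hT).b 2 := by rw [hG2, hG2, h]
    exact hline' S T ⟨r * r'⁻¹, by rw [hr, e, hr', smul_smul, mul_assoc, inv_mul_cancel₀ hr'0, mul_one]⟩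
  have hpair : ∀ S T (hS : S ≠ P₀) (hT : T ≠ P₀), (x S hS - x T hT) ^ 2 ∈ InP := by
    intro S T hS hT
    set z := x S hS - x T hT with hz
    by_cases hz0 : z = 0
    · rw [hz0, zero_pow two_ne_zero]; exact InP.zero_mem
    set A := G S hS
    set B := G T hT
    have hA2 : A.b 2 = B.b 2 + (2 * z) • B.b 1 + z ^ 2 • B.b 0 := by
      rw [hG2, hG2, hG1, hG0, hz]; module
    have hA1 : A.b 1 = B.b 1 + z • B.b 0 := by
      rw [hG1, hG1, hG0, hz]; module
    set t := τ T hT with ht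
    have ht0 : t ≠ 0 := hτ0 T hT
    obtain ⟨K, k0, k1, k2⟩ := Frame.exists_of_gram (Q := Q) h3 hsymm (a := (t * z ^ 2)⁻¹ • A.b 2)
      (b := B.b 1 + z⁻¹ • B.b 2) (c := t • B.b 2) (β := B.β) B.β_ne h2
      (by simp [A.q22])
      (by
        rw [hA2]
        simp only [map_add, map_smul, LinearMap.add_apply, LinearMap.smul_apply, smul_eq_mul, B.q01, B.q02,
          B.q11, B.q12, B.q22, hsymm (B.b 2) (B.b 1)]
        field_simp
        ring)
      (by
        rw [hA2]
        simp only [map_add, map_smul, LinearMap.add_apply, LinearMap.smul_apply, smul_eq_mul, B.q02, B.q12,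
          B.q22]
        field_simp
        ring)
      (by simp [B.q11, B.q12, B.q22, hsymm (B.b 2) (B.b 1)])
      (by simp [B.q12, B.q22]) (by simp [B.q22])
    have hKT : σ (v T) = K.rep (lowS 1) := by
      refine low_param h3 hsymm h2 K (hinv (v T)) (hv3 T) (by rw [k2, map_smul, hτ T hT, B.low_two]) ?_
      rw [k1, k2, one_smul, map_add, map_smul, hτ T hT, B.low_one, B.low_two]
      abel
    have hKS : σ (v S) = K.rep (upS (-(τ S hS) * (t * z ^ 2))) := by
      refine up_param h3 hsymm h2 K (hinv (v S)) (hv3 S) (by rw [k0, map_smul, hτ S hS, A.low_two]) ?_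
      have e : B.b 1 + z⁻¹ • B.b 2 = -A.b 1 + z⁻¹ • A.b 2 := by
        rw [hA2, hA1, smul_add, smul_add, smul_smul, smul_smul,
          show z⁻¹ * (2 * z) = 2 by field_simp, show z⁻¹ * z ^ 2 = z by field_simp]
        module
      rw [k1, k0, smul_smul, mul_assoc, mul_inv_cancel₀ (mul_ne_zero ht0 (pow_ne_zero 2 hz0)), mul_one, e,
        map_add, map_neg, map_smul, hτ S hS, A.low_one, A.low_two]
      module
    have hprod := mem_prime_of_pair h2 hsymm σ hp5 hsq K
      (mul_ne_zero (neg_ne_zero.2 (hτ0 S hS)) (mul_ne_zero ht0 (pow_ne_zero 2 hz0))) hKS hKT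
    have hd : -(τ S hS) * t ∈ InP := InP.mul_mem (InP.neg_mem (hτp S hS)) (hτp T hT)
    have e : z ^ 2 = (-(τ S hS) * t)⁻¹ * (-(τ S hS) * (t * z ^ 2)) := by
      rw [← mul_assoc (-(τ S hS)), inv_mul_cancel_left₀ (mul_ne_zero (neg_ne_zero.2 (hτ0 S hS)) ht0)]
    rw [e]
    exact InP.mul_mem (InP.inv_mem hd) hprod
  have hxR : x R hR = 0 := by
    obtain ⟨r, hr0, hr⟩ := haG R hR
    refine hcoord _ _ (r * k)⁻¹ ?_
    have e : F.b 2 = (k * r) • (G R hR).b 2 := by rw [hF2, hr, smul_smul]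
    rw [mul_zero, zero_smul, zero_pow two_ne_zero, zero_smul, add_zero, add_zero]
    conv_rhs => rw [e, smul_smul, mul_comm r k, inv_mul_cancel₀ (mul_ne_zero hk0 hr0), one_smul, hG2]
  set R' := u • R with hR'
  have hR'0 : R' ≠ P₀ := by
    intro h
    refine hR (MulAction.injective u (h.trans (Sylow.ext ?_).symm))
    show ((u • P₀ : Sylow p X) : Subgroup X) = P₀
    rw [Sylow.smul_eq_iff_mem_normalizer.2 (Subgroup.le_normalizer (Subgroup.mem_zpowers u))]
  have hxR' : x R' hR'0 = 1 := by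
    obtain ⟨r, hr0, hr⟩ := haG R' hR'0
    have hfix : σ (v R') (σ u (a R)) = σ u (a R) := by
      have hmem : v R' ∈ ((R : Subgroup X)).map (MulAut.conj u).toMonoidHom := by
        show v R' ∈ (R' : Subgroup X)
        rw [← hvS R']; exact Subgroup.mem_zpowers _
      obtain ⟨b, hb, hbv⟩ := hmem
      rw [← hbv, show (MulAut.conj u).toMonoidHom b = u * b * u⁻¹ from rfl, map_mul, map_mul, Module.End.mul_apply,
        Module.End.mul_apply, ← Module.End.mul_apply (σ u⁻¹), ← map_mul, inv_mul_cancel, map_one,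
        Module.End.one_apply, hfixmem R _ (haf R) b hb]
    obtain ⟨c, hc⟩ := hauniq R' _ hfix
    have h1 : F.b 2 + (2 * (1 : κ)) • F.b 1 + (1 : κ) ^ 2 • F.b 0 = (k * c * r) • (G R' hR'0).b 2 := by
      rw [← F.up_two, ← hFu, hF2, map_smul, hc, hr, smul_smul, smul_smul]
    rw [hG2] at h1
    exact (hcoord _ _ _ h1).symm
  have hxP : ∀ S (hS : S ≠ P₀), x S hS ∈ InP := by
    intro S hS
    have h0 := hpair S R hS hR
    have h1 := hpair S R' hS hR'0
    rw [hxR, sub_zero] at h0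
    rw [hxR'] at h1
    have h2P : (2 : κ) ∈ InP := by
      rw [show (2 : κ) = 1 + 1 by norm_num]; exact InP.add_mem InP.one_mem InP.one_mem
    have e : x S hS = (x S hS ^ 2 - (x S hS - 1) ^ 2 + 1) / 2 := by field_simp; ring
    rw [e]
    exact InP.div_mem (InP.add_mem (InP.sub_mem h0 h1) InP.one_mem) h2P
  choose z hz using fun S hS => RingHom.mem_fieldRange.1 (hxP S hS)
  let f : Sylow p X → Option (ZMod p) := fun S => if h : S = P₀ then none else some (z S h)
  have hf : Function.Injective f := by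
    intro S T h
    by_cases hS : S = P₀ <;> by_cases hT : T = P₀
    · rw [hS, hT]
    · simp [f, hS, hT] at h
    · simp [f, hS, hT] at h
    · simp only [f, hS, hT, dif_neg, not_false_iff, Option.some.injEq] at h
      exact hinj S T hS hT (by rw [← hz S hS, ← hz T hT, h])
  refine (Nat.card_le_card_of_injective f hf).trans_eq ?_
  haveI : NeZero p := ⟨hp.out.ne_zero⟩
  rw [Finite.card_option, Nat.card_zmod]

end CfsgLib.HalfDegree
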