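import Cfsg.Agent.Lib.HalfDegree.Model

/-!
# The invariant form of the binomial matrix and the skew symmetric matrices
-/

set_option autoImplicit false
set_option linter.unusedSectionVars false

namespace CfsgLib.HalfDegree.Model

open Matrix

variable {κ : Type*} [Field κ] {d : ℕ}

/-- The Gram matrix of the form fixed by the binomial matrix. -/
def B : Matrix (Fin d) (Fin d) κ :=
  of fun i j => if j = i.rev then (-1) ^ (i : ℕ) * ((d - 1).choose i : κ) else 0

/-- The inverse of `B`. -/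
def Binv : Matrix (Fin d) (Fin d) κ :=
  of fun i j => if j = i.rev then (-1) ^ (j : ℕ) * ((d - 1).choose j : κ)⁻¹ else 0

theorem B_mul_apply (M : Matrix (Fin d) (Fin d) κ) (i k : Fin d) :
    ((B : Matrix (Fin d) (Fin d) κ) * M : Matrix (Fin d) (Fin d) κ) i k = (-1) ^ (i : ℕ) * ((d - 1).choose i : κ) * M i.rev k := by
  simp [Matrix.mul_apply, B, of_apply, ite_mul]

theorem mul_B_apply (M : Matrix (Fin d) (Fin d) κ) (i k : Fin d) :
    (M * (B : Matrix (Fin d) (Fin d) κ) : Matrix (Fin d) (Fin d) κ) i k = M i k.rev * ((-1) ^ (k.rev : ℕ) * ((d - 1).choose k.rev : κ)) := by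
  rw [Matrix.mul_apply, Finset.sum_eq_single k.rev]
  · simp [B]
  · intro l _ hl
    rw [B, of_apply, if_neg, mul_zero]
    intro e
    exact hl (by rw [e, Fin.rev_rev])
  · exact fun h => absurd (Finset.mem_univ _) h

theorem choose_rev (k : Fin d) : (d - 1).choose (k.rev : ℕ) = (d - 1).choose k := by
  rw [Fin.val_rev, show d - ((k : ℕ) + 1) = d - 1 - k by omega, Nat.choose_symm (by omega)]

section Invertible

variable {p : ℕ} [hp : Fact p.Prime] [CharP κ p]

theorem choose_ne_zero (hd : d ≤ p) (i : Fin d) : (((d - 1).choose i : ℕ) : κ) ≠ 0 := by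
  intro h0
  have h1 : p ∣ (d - 1).choose i := (CharP.cast_eq_zero_iff κ p _).1 h0
  have h2 : p ∣ (d - 1).factorial := by
    rw [← Nat.choose_mul_factorial_mul_factorial (show (i : ℕ) ≤ d - 1 by omega)]
    exact Dvd.dvd.mul_right (Dvd.dvd.mul_right h1 _) _
  have := (Nat.Prime.dvd_factorial hp.out).1 h2
  have := i.2
  omega

theorem B_mul_Binv (hd : d ≤ p) : (B : Matrix (Fin d) (Fin d) κ) * Binv = 1 := by
  ext i k
  rw [B_mul_apply, Binv, of_apply, Fin.rev_rev, Matrix.one_apply]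
  by_cases h : i = k
  · subst h
    rw [if_pos rfl, if_pos rfl, mul_mul_mul_comm, ← pow_add, ← two_mul, pow_mul, neg_one_sq, one_pow,
      one_mul, mul_inv_cancel₀ (choose_ne_zero hd i)]
  · rw [if_neg (fun e => h e.symm), if_neg h, mul_zero]

theorem Binv_mul_B (hd : d ≤ p) : (Binv : Matrix (Fin d) (Fin d) κ) * B = 1 :=
  mul_eq_one_comm.1 (B_mul_Binv hd)

end Invertible

theorem B_mul_U_transpose : (B : Matrix (Fin d) (Fin d) κ) * (U : Matrix (Fin d) (Fin d) κ)ᵀ = UT (-1) * B := by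
  ext i k
  rw [B_mul_apply, mul_B_apply, transpose_apply, U, of_apply, UT, of_apply, choose_rev, Fin.val_rev,
    Fin.val_rev]
  rw [show d - ((i : ℕ) + 1) = d - 1 - i by omega, show d - ((k : ℕ) + 1) = d - 1 - k by omega]
  have hi : (i : ℕ) ≤ d - 1 := by omega
  have hk : (k : ℕ) ≤ d - 1 := by omega
  generalize d - 1 = n at hi hk ⊢
  rcases Nat.lt_or_ge n ((i : ℕ) + k) with h | h
  · rw [Nat.choose_eq_zero_of_lt (show n - i < (k : ℕ) by omega),
      Nat.choose_eq_zero_of_lt (show n - k < (i : ℕ) by omega)]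
    simp
  · have h1 := Nat.choose_mul (n := n) (k := (i : ℕ) + k) (s := i) (by omega)
    have h2 := Nat.choose_mul (n := n) (k := (i : ℕ) + k) (s := k) (by omega)
    rw [Nat.add_sub_cancel_left] at h1
    rw [Nat.add_sub_cancel, ← Nat.choose_symm_add, h1] at h2
    have h3 : (n.choose i : κ) * ((n - i).choose k : κ) = (n.choose k : κ) * ((n - k).choose i : κ) := by
      rw [← Nat.cast_mul, h2, Nat.cast_mul]
    have hs : (-1 : κ) ^ (n - (k : ℕ) - i) * (-1) ^ (n - (k : ℕ)) = (-1) ^ (i : ℕ) := by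
      rw [← pow_add, show n - (k : ℕ) - i + (n - k) = 2 * (n - k - i) + i by omega, pow_add, pow_mul,
        neg_one_sq, one_pow, one_mul]
    linear_combination (-1 : κ) ^ (i : ℕ) * h3 - (n.choose k : κ) * ((n - k).choose i : κ) * hs

theorem U_mul_UT_neg : (U : Matrix (Fin d) (Fin d) κ) * UT (-1) = 1 := by
  rw [← UT_one, UT_mul, add_neg_cancel, UT_zero]

theorem UT_neg_mul_U : (UT (-1) : Matrix (Fin d) (Fin d) κ) * U = 1 := by
  rw [← UT_one, UT_mul, neg_add_cancel, UT_zero]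

theorem U_mul_mul_B_mul_transpose (M : Matrix (Fin d) (Fin d) κ) :
    (U : Matrix (Fin d) (Fin d) κ) * (M * B) * (U : Matrix (Fin d) (Fin d) κ)ᵀ = U * M * UT (-1) * B := by
  rw [mul_assoc, mul_assoc M, B_mul_U_transpose]
  simp only [mul_assoc]

theorem U_transpose_mul_Binv_mul_U {p : ℕ} [Fact p.Prime] [CharP κ p] (hd : d ≤ p) :
    (U : Matrix (Fin d) (Fin d) κ)ᵀ * Binv * U = Binv := by
  have h : (B : Matrix (Fin d) (Fin d) κ) * ((U : Matrix (Fin d) (Fin d) κ)ᵀ * Binv * U) = 1 := by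
    rw [← mul_assoc, ← mul_assoc, B_mul_U_transpose, mul_assoc (UT (-1)), B_mul_Binv hd, mul_one,
      UT_neg_mul_U]
  exact (left_inv_eq_right_inv (Binv_mul_B hd) h).symm

theorem D_mul_B_mul_D (r : κ) : D r * (B : Matrix (Fin d) (Fin d) κ) * D r = r ^ (d - 1) • B := by
  ext i j
  simp only [D, B, diagonal_mul, mul_diagonal, Matrix.smul_apply, of_apply, smul_eq_mul]
  split_ifs with h
  · subst h
    have e : r ^ (d - 1 - (i : ℕ)) * r ^ (d - 1 - (i.rev : ℕ)) = r ^ (d - 1) := by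
      rw [← pow_add, Fin.val_rev]
      congr 1
      omega
    linear_combination ((-1) ^ (i : ℕ) * ((d - 1).choose i : κ)) * e
  · ring

theorem D_mul_Binv_mul_D (r : κ) : D r * (Binv : Matrix (Fin d) (Fin d) κ) * D r = r ^ (d - 1) • Binv := by
  ext i j
  simp only [D, Binv, diagonal_mul, mul_diagonal, Matrix.smul_apply, of_apply, smul_eq_mul]
  split_ifs with h
  · subst h
    have e : r ^ (d - 1 - (i : ℕ)) * r ^ (d - 1 - (i.rev : ℕ)) = r ^ (d - 1) := by
      rw [← pow_add, Fin.val_rev]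
      congr 1
      omega
    linear_combination ((-1) ^ (i.rev : ℕ) * ((d - 1).choose i.rev : κ)⁻¹) * e
  · ring

theorem B_transpose : (B : Matrix (Fin d) (Fin d) κ)ᵀ = (-1 : κ) ^ (d - 1) • B := by
  ext i j
  simp only [B, transpose_apply, Matrix.smul_apply, of_apply, smul_eq_mul]
  by_cases h : j = i.rev
  · subst h
    rw [if_pos (Fin.rev_rev i).symm, if_pos rfl, choose_rev, ← mul_assoc, ← pow_add, Fin.val_rev]
    congr 1
    have := i.2
    rw [show d - 1 + (i : ℕ) = 2 * i + (d - ((i : ℕ) + 1)) by omega, pow_add, pow_mul, neg_one_sq, one_pow,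
      one_mul]
  · rw [if_neg (fun e => h (by rw [e, Fin.rev_rev])), if_neg h, mul_zero]

theorem B_mul_Ym_transpose :
    (B : Matrix (Fin d) (Fin d) κ) * (Ym : Matrix (Fin d) (Fin d) κ)ᵀ = -(Ym * B) := by
  ext i k
  rw [B_mul_apply, Matrix.neg_apply, mul_B_apply, transpose_apply]
  simp only [Ym, of_apply]
  have hd1 : (d : κ) - 1 = ((d - 1 : ℕ) : κ) := by
    rw [Nat.cast_sub (by have := i.2; omega), Nat.cast_one]
  rw [choose_rev, Fin.val_rev, Fin.val_rev]
  by_cases h : (k : ℕ) + i = d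
  · rw [if_pos (by omega), if_pos (by omega), hd1,
      show d - ((i : ℕ) + 1) = d - 1 - i by omega, show d - ((k : ℕ) + 1) = (i : ℕ) - 1 by omega,
      Nat.cast_sub (show (i : ℕ) ≤ d - 1 by omega)]
    have hi : 1 ≤ (i : ℕ) := by have := k.2; omega
    obtain ⟨l, hl⟩ : ∃ l, (i : ℕ) = l + 1 := ⟨(i : ℕ) - 1, by omega⟩
    have hk : (d - 1).choose (k : ℕ) = (d - 1).choose l := by
      rw [show (k : ℕ) = d - 1 - l by omega, Nat.choose_symm (by omega)]
    rw [hk, hl, Nat.add_sub_cancel, pow_succ, Nat.cast_succ]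
    linear_combination (-((-1 : κ) ^ l)) * choose_step (κ := κ) (d - 1) l
  · rw [if_neg (by omega), if_neg (by omega), mul_zero, zero_mul, neg_zero]

/-- The point `a` of the orbit of `Ym` under the conjugation by the binomial matrix. -/
def ptY (a : κ) : Matrix (Fin d) (Fin d) κ := Ym + a • Hm - (a * a) • Xm

theorem ptY_zero : (ptY (0 : κ) : Matrix (Fin d) (Fin d) κ) = Ym := by simp [ptY]

theorem conj_Xm : (U : Matrix (Fin d) (Fin d) κ) * Xm * UT (-1) = Xm := by
  rw [U_mul_Xm, mul_assoc, U_mul_UT_neg, mul_one]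

theorem conj_ptY (a : κ) : (U : Matrix (Fin d) (Fin d) κ) * ptY a * UT (-1) = ptY (a + 1) := by
  have hY : (U : Matrix (Fin d) (Fin d) κ) * Ym * UT (-1) = Ym + Hm - Xm := by
    rw [U_mul_Ym, mul_assoc, U_mul_UT_neg, mul_one]
  have hH : (U : Matrix (Fin d) (Fin d) κ) * Hm * UT (-1) = Hm - Xm - Xm := by
    rw [U_mul_Hm, mul_assoc, U_mul_UT_neg, mul_one]
  simp only [ptY, mul_add, mul_sub, add_mul, sub_mul, mul_smul_comm, smul_mul_assoc, hY, hH, conj_Xm]
  module

theorem conj_mul (M N : Matrix (Fin d) (Fin d) κ) :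
    (U : Matrix (Fin d) (Fin d) κ) * (M * N) * UT (-1) = (U * M * UT (-1)) * (U * N * UT (-1)) := by
  simp only [mul_assoc]
  rw [← mul_assoc (UT (-1)) U, UT_neg_mul_U, one_mul]

theorem ptY_mul_self (a : κ) : (ptY a : Matrix (Fin d) (Fin d) κ) * ptY a =
    Ym * Ym + a • (Ym * Hm + Hm * Ym) + (a * a) • (Hm * Hm - Ym * Xm - Xm * Ym)
      - (a * a * a) • (Hm * Xm + Xm * Hm) + (a * a * a * a) • (Xm * Xm) := by
  simp only [ptY, mul_add, mul_sub, add_mul, sub_mul, mul_smul_comm, smul_mul_assoc, smul_smul]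
  module

theorem ptY_second :
    (ptY 2 : Matrix (Fin d) (Fin d) κ) - (2 : κ) • ptY 1 + ptY 0 = (-2 : κ) • Xm := by
  simp only [ptY]
  module

theorem ptY_sq_fourth :
    (ptY 4 : Matrix (Fin d) (Fin d) κ) * ptY 4 - (4 : κ) • (ptY 3 * ptY 3) + (6 : κ) • (ptY 2 * ptY 2)
      - (4 : κ) • (ptY 1 * ptY 1) + ptY 0 * ptY 0 = (24 : κ) • (Xm * Xm) := by
  simp only [ptY_mul_self]
  module

theorem Ym_mul_Ym_apply (i j : Fin d) : ((Ym : Matrix (Fin d) (Fin d) κ) * Ym : Matrix (Fin d) (Fin d) κ) i j =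
    if (i : ℕ) = j + 2 then ((d : κ) - 1 - ((j : ℕ) : κ)) * ((d : κ) - 2 - ((j : ℕ) : κ)) else 0 := by
  rw [Matrix.mul_apply]
  simp only [Ym, of_apply]
  rw [sum_sel]
  have := i.2
  split_ifs <;> first | omega | (push_cast; ring)

theorem Xm_mul_Xm_apply (i j : Fin d) : ((Xm : Matrix (Fin d) (Fin d) κ) * Xm : Matrix (Fin d) (Fin d) κ) i j =
    if (i : ℕ) + 2 = j then (((i : ℕ) : κ) + 1) * (((i : ℕ) : κ) + 2) else 0 := by
  rw [Matrix.mul_apply]
  simp only [Xm, of_apply]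
  rw [Finset.sum_congr rfl (g := fun l : Fin d => (if (l : ℕ) + 1 = j then ((l : ℕ) : κ) + 1 else 0) *
    (if (l : ℕ) = i + 1 then ((i : ℕ) : κ) + 1 else 0)) (fun l _ => by
      rw [mul_comm]; simp only [eq_comm]), sum_sel]
  have := j.2
  split_ifs <;> first | omega | (push_cast; ring)

theorem sum_three (a : κ) : ∀ n : ℕ,
    30 * ∑ i ∈ Finset.range n, ((i : κ) + 1) * ((i : κ) + 2) * ((a - i) * (a - i - 1)) =
      (n : κ) * ((n : κ) + 1) * ((n : κ) + 2) * (6 * ((n : κ) + 3) * ((n : κ) + 4)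
        - 15 * (a + 3) * ((n : κ) + 3) + 10 * (a + 2) * (a + 3))
  | 0 => by simp
  | n + 1 => by
    rw [Finset.sum_range_succ, mul_add, sum_three a n]
    push_cast
    ring

theorem trace_Ym_sq_Xm_sq :
    30 * (((Ym : Matrix (Fin d) (Fin d) κ) * Ym) * (Xm * Xm)).trace =
      ((d : κ) - 2) * ((d : κ) - 1) * d * ((d : κ) + 1) * ((d : κ) + 2) := by
  rw [Matrix.trace_mul_comm, Matrix.trace]
  simp only [Matrix.diag_apply, Matrix.mul_apply (M := (Xm : Matrix (Fin d) (Fin d) κ) * Xm), Xm_mul_Xm_apply,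
    Ym_mul_Ym_apply]
  have h : ∀ i : Fin d, (∑ l : Fin d,
      (if (i : ℕ) + 2 = l then (((i : ℕ) : κ) + 1) * (((i : ℕ) : κ) + 2) else 0) *
      (if (l : ℕ) = i + 2 then ((d : κ) - 1 - ((i : ℕ) : κ)) * ((d : κ) - 2 - ((i : ℕ) : κ)) else 0)) =
      (((i : ℕ) : κ) + 1) * (((i : ℕ) : κ) + 2) *
        (((d : κ) - 1 - ((i : ℕ) : κ)) * (((d : κ) - 1 - ((i : ℕ) : κ)) - 1)) := by
    intro i
    rw [sum_sel]
    split_ifs with h h'
    · ring
    · exact absurd rfl h'
    · rcases (show d = (i : ℕ) + 1 ∨ d = (i : ℕ) + 2 by have := i.2; omega) with e | e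
      · rw [show (d : κ) = ((i : ℕ) : κ) + 1 by rw [← Nat.cast_succ]; exact congrArg Nat.cast e]; ring
      · rw [show (d : κ) = ((i : ℕ) : κ) + 2 by exact_mod_cast congrArg (Nat.cast (R := κ)) e]; ring
  rw [Finset.sum_congr rfl fun i _ => h i,
    Fin.sum_univ_eq_sum_range (fun i => ((i : κ) + 1) * ((i : κ) + 2) *
      (((d : κ) - 1 - i) * ((d : κ) - 1 - i - 1))), sum_three]
  ring

/-- Congruence by the binomial matrix raises the band. -/
theorem congr_sub_apply {k : ℕ} {W : Matrix (Fin d) (Fin d) κ}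
    (hW : ∀ a b : Fin d, 2 * (d - 1) < (a : ℕ) + b + k → W a b = 0) (a b : Fin d)
    (hab : 2 * (d - 1) < (a : ℕ) + b + (k + 1)) :
    ((U : Matrix (Fin d) (Fin d) κ) * W * (U : Matrix (Fin d) (Fin d) κ)ᵀ - W) a b = 0 := by
  have hU : ∀ x y : Fin d, (y : ℕ) < x → (U : Matrix (Fin d) (Fin d) κ) x y = 0 := fun x y h => by
    rw [U, of_apply, Nat.choose_eq_zero_of_lt h, Nat.cast_zero]
  have hU1 : ∀ x : Fin d, (U : Matrix (Fin d) (Fin d) κ) x x = 1 := fun x => by
    rw [U, of_apply, Nat.choose_self, Nat.cast_one]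
  have hterm : ∀ c e : Fin d, (c ≠ a ∨ e ≠ b) →
      (U : Matrix (Fin d) (Fin d) κ) a c * W c e * (U : Matrix (Fin d) (Fin d) κ) b e = 0 := by
    intro c e hce
    rcases Nat.lt_or_ge (c : ℕ) a with h1 | h1
    · rw [hU a c h1, zero_mul, zero_mul]
    rcases Nat.lt_or_ge (e : ℕ) b with h2 | h2
    · rw [hU b e h2, mul_zero]
    have : (c : ℕ) + e ≠ (a : ℕ) + b := fun h => hce.elim (fun hc => hc (Fin.ext (by omega)))
      fun he => he (Fin.ext (by omega))
    rw [hW c e (by omega), mul_zero, zero_mul]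
  rw [Matrix.sub_apply, Matrix.mul_apply, Finset.sum_eq_single b, Matrix.mul_apply,
    Finset.sum_eq_single a, transpose_apply, hU1, hU1, one_mul, mul_one, sub_self]
  · intro c _ hc
    have h := hterm c b (Or.inl hc)
    rwa [hU1, mul_one] at h
  · exact fun h => absurd (Finset.mem_univ _) h
  · intro e _ he
    rw [Matrix.mul_apply, Finset.sum_mul]
    exact Finset.sum_eq_zero fun c _ => by rw [transpose_apply]; exact hterm c e (Or.inr he)
  · exact fun h => absurd (Finset.mem_univ _) h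

end CfsgLib.HalfDegree.Model
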