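import Cfsg.Agent.Lib.HalfDegree.Summand
import Cfsg.Agent.Lib.HalfDegree.SkewModel

/-!
# A module of dimension at most five inside the alternating forms
-/

set_option autoImplicit false
set_option linter.style.haveILetI false
set_option linter.unusedSectionVars false

namespace CfsgLib.HalfDegree

open Module (End)
open Matrix

variable {κ : Type*} [Field κ] {d : ℕ}

variable (κ d) in
/-- The skew symmetric matrices. -/
def skew : Submodule κ (Matrix (Fin d) (Fin d) κ) where
  carrier := {Z | Zᵀ = -Z}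
  add_mem' {a b} ha hb := by
    simp only [Set.mem_setOf_eq] at ha hb ⊢
    rw [Matrix.transpose_add, ha, hb, neg_add]
  zero_mem' := by simp
  smul_mem' r a ha := by
    simp only [Set.mem_setOf_eq] at ha ⊢
    rw [Matrix.transpose_smul, ha, smul_neg]

theorem mem_skew {Z : Matrix (Fin d) (Fin d) κ} : Z ∈ skew κ d ↔ Zᵀ = -Z := Iff.rfl

theorem congr_mem_skew (g : Matrix (Fin d) (Fin d) κ) {Z : Matrix (Fin d) (Fin d) κ} (hZ : Z ∈ skew κ d) :
    g * Z * gᵀ ∈ skew κ d := by
  rw [mem_skew] at hZ ⊢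
  rw [Matrix.transpose_mul, Matrix.transpose_mul, Matrix.transpose_transpose, hZ, neg_mul, mul_neg,
    mul_assoc]

variable {X : Type*} [Group X]

/-- The action on the skew symmetric matrices. -/
def skewRep (τ : X →* Matrix (Fin d) (Fin d) κ) : X →* End κ (skew κ d) where
  toFun g := (LinearMap.mulLeft κ (τ g) * LinearMap.mulRight κ (τ g)ᵀ).restrict fun Z hZ => by
    rw [Module.End.mul_apply, LinearMap.mulLeft_apply, LinearMap.mulRight_apply, ← mul_assoc]
    exact congr_mem_skew _ hZ
  map_one' := LinearMap.ext fun Z => Subtype.ext (by simp [Module.End.mul_apply])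
  map_mul' g k := LinearMap.ext fun Z => Subtype.ext (by
    simp [Module.End.mul_apply, LinearMap.restrict_apply, Matrix.transpose_mul, mul_assoc])

theorem skewRep_coe (τ : X →* Matrix (Fin d) (Fin d) κ) (g : X) (Z : skew κ d) :
    ((skewRep τ g Z : skew κ d) : Matrix (Fin d) (Fin d) κ) = τ g * Z * (τ g)ᵀ := by
  simp [skewRep, Module.End.mul_apply, LinearMap.restrict_apply, mul_assoc]

variable (κ d) in
/-- The form on the skew symmetric matrices. -/
noncomputable def skewForm : LinearMap.BilinForm κ (skew κ d) :=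
  (LinearMap.mk₂ κ (fun Z W : Matrix (Fin d) (Fin d) κ => (Z * (Model.Binv : Matrix (Fin d) (Fin d) κ) * (W * Model.Binv)).trace)
    (fun a b c => by simp [add_mul]) (fun r a b => by simp) (fun a b c => by simp [add_mul, mul_add])
    (fun r a b => by simp)).compl₁₂ (skew κ d).subtype (skew κ d).subtype

theorem skewForm_apply (Z W : skew κ d) : skewForm κ d Z W =
    ((Z : Matrix (Fin d) (Fin d) κ) * Model.Binv * ((W : Matrix (Fin d) (Fin d) κ) * Model.Binv)).trace := rfl

theorem skewForm_scale (τ : X →* Matrix (Fin d) (Fin d) κ) {g : X} {g' : Matrix (Fin d) (Fin d) κ} {b c : κ}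
    (hg : τ g = b • g') (hg' : g'ᵀ * Model.Binv * g' = c • Model.Binv) (Z W : skew κ d) :
    skewForm κ d (skewRep τ g Z) (skewRep τ g W) = (b * b * c) * (b * b * c) * skewForm κ d Z W := by
  rw [skewForm_apply, skewForm_apply, skewRep_coe, skewRep_coe, hg]
  simp only [Matrix.transpose_smul, smul_mul_assoc, mul_smul_comm, smul_smul, Matrix.trace_smul, smul_eq_mul]
  generalize (Z : Matrix (Fin d) (Fin d) κ) = Z'
  generalize (W : Matrix (Fin d) (Fin d) κ) = W'
  have e : (g' * Z' * g'ᵀ * Model.Binv * (g' * W' * g'ᵀ * Model.Binv)).trace =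
      c * c * (Z' * Model.Binv * (W' * Model.Binv)).trace := by
    calc (g' * Z' * g'ᵀ * Model.Binv * (g' * W' * g'ᵀ * Model.Binv)).trace
        = (g' * (Z' * (g'ᵀ * Model.Binv * g') * (W' * (g'ᵀ * Model.Binv)))).trace := by simp only [mul_assoc]
      _ = (Z' * (g'ᵀ * Model.Binv * g') * (W' * (g'ᵀ * Model.Binv)) * g').trace := Matrix.trace_mul_comm _ _
      _ = (Z' * (g'ᵀ * Model.Binv * g') * (W' * (g'ᵀ * Model.Binv * g'))).trace := by simp only [mul_assoc]
      _ = _ := by
        simp only [hg', smul_mul_assoc, mul_smul_comm, smul_smul, Matrix.trace_smul, smul_eq_mul]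
  rw [e]
  ring

variable {p : ℕ} [hp : Fact p.Prime] [CharP κ p]

/-- Congruence by the binomial matrix is unipotent of index at most `2 (d - 1)`. -/
theorem skewRep_sub_one_pow (τ : X →* Matrix (Fin d) (Fin d) κ) {u : X} (hτu : τ u = Model.U) (hp2 : 2 < p) :
    (skewRep τ u - 1) ^ (2 * (d - 1)) = 0 := by
  have hband : ∀ (k : ℕ) (Z : skew κ d) (a b : Fin d), 2 * (d - 1) < (a : ℕ) + b + k →
      ((((skewRep τ u - 1) ^ k) Z : skew κ d) : Matrix (Fin d) (Fin d) κ) a b = 0 := by
    intro k
    induction k with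
    | zero => intro Z a b h; exfalso; have := a.2; have := b.2; omega
    | succ k ih =>
      intro Z a b hab
      rw [pow_succ', Module.End.mul_apply, LinearMap.sub_apply, Module.End.one_apply, Submodule.coe_sub,
        skewRep_coe, hτu]
      exact Model.congr_sub_apply (ih Z) a b hab
  refine LinearMap.ext fun Z => Subtype.ext ?_
  ext a b
  rw [LinearMap.zero_apply, Submodule.coe_zero, Matrix.zero_apply]
  by_cases hab : (a : ℕ) + b = 0
  · have hba : a = b := Fin.ext (by omega)
    subst hba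
    set M := ((((skewRep τ u - 1) ^ (2 * (d - 1))) Z : skew κ d) : Matrix (Fin d) (Fin d) κ) with hM
    have h1 : M a a = -M a a := congrFun (congrFun (mem_skew.1 (((skewRep τ u - 1) ^ (2 * (d - 1))) Z).2) a) a
    have h2 : (2 : κ) ≠ 0 := fun h0 => by
      have := Nat.le_of_dvd two_pos ((CharP.cast_eq_zero_iff κ p 2).1 (by exact_mod_cast h0))
      omega
    refine (mul_eq_zero.1 ?_).resolve_left h2
    linear_combination h1
  · exact hband _ Z a b (by omega)

set_option maxHeartbeats 1000000 in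
/-- A module of dimension at most five on which `u` is not trivial. -/
theorem exists_small_skew [Finite X] {u h : X} (hu : orderOf u = p) (hidx : ¬ p ∣ (Subgroup.zpowers u).index)
    {m : ℕ} (hm : ¬ p ∣ m) (hh : h * u * h⁻¹ = u ^ m)
    (hN : ∀ n ∈ Subgroup.normalizer ((Subgroup.zpowers u : Subgroup X) : Set X),
      ∃ z ∈ Subgroup.center X, ∃ i c : ℕ, n = z * u ^ i * h ^ c)
    (τ : X →* Matrix (Fin d) (Fin d) κ) (hτu : τ u = Model.U)
    (hτh : ∃ μ : κ, μ ≠ 0 ∧ τ h = μ • Model.D (m : κ))
    (hτz : ∀ z ∈ Subgroup.center X, ∃ c : κ, τ z = c • 1) (hd4 : 4 ≤ d) (hdp : 2 * d ≤ p + 1) :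
    ∃ (W : Submodule κ (skew κ d)) (ψ : X →* End κ W), Module.finrank κ W ≤ 5 ∧ ψ u ≠ 1 := by
  classical
  have hdp' : d ≤ p := by omega
  have hsmall : ∀ k : ℕ, k ≠ 0 → k < p → (k : κ) ≠ 0 := fun k hk hkp h0 => by
    have := Nat.le_of_dvd (Nat.pos_of_ne_zero hk) ((CharP.cast_eq_zero_iff κ p k).1 h0)
    omega
  have hr0 : (m : κ) ≠ 0 := fun h0 => hm ((CharP.cast_eq_zero_iff κ p m).1 h0)
  have hBB : (Model.B : Matrix (Fin d) (Fin d) κ) * Model.Binv = 1 := Model.B_mul_Binv hdp'
  obtain ⟨μ, hμ, hh'⟩ := hτh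
  set σ := skewRep τ with hσ
  have hTs := skewRep_sub_one_pow τ hτu (show 2 < p by omega)
  have hQu : ∀ x y, skewForm κ d (σ u x) (σ u y) = skewForm κ d x y := fun x y => by
    rw [hσ, skewForm_scale τ (b := 1) (c := 1) (g' := Model.U) (by rw [hτu, one_smul])
      (by rw [Model.U_transpose_mul_Binv_mul_U hdp', one_smul])]
    ring
  have hQh : ∃ c : κ, ∀ x y, skewForm κ d (σ h x) (σ h y) = c * skewForm κ d x y :=
    ⟨_, fun x y => skewForm_scale τ (c := (m : κ) ^ (d - 1)) hh'
      (by rw [Model.D, Matrix.diagonal_transpose, ← Model.D, Model.D_mul_Binv_mul_D]) x y⟩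
  have hz : ∀ z ∈ Subgroup.center X, ∃ c : κ, σ z = c • 1 := fun z hzc => by
    obtain ⟨c, hc⟩ := hτz z hzc
    refine ⟨c * c, LinearMap.ext fun Z => Subtype.ext ?_⟩
    rw [hσ, skewRep_coe, hc]
    simp [smul_smul]
  have hσu : ∀ (M : Matrix (Fin d) (Fin d) κ) (hM : M * Model.B ∈ skew κ d),
      ((σ u ⟨M * Model.B, hM⟩ : skew κ d) : Matrix (Fin d) (Fin d) κ) =
        Model.U * M * Model.UT (-1) * Model.B := fun M hM => by
    rw [hσ, skewRep_coe, hτu, Model.U_mul_mul_B_mul_transpose]
  -- membership along the orbit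
  have hmem_step : ∀ (M : Matrix (Fin d) (Fin d) κ), M * Model.B ∈ skew κ d →
      Model.U * M * Model.UT (-1) * Model.B ∈ skew κ d := fun M hM => by
    rw [← Model.U_mul_mul_B_mul_transpose]
    exact congr_mem_skew _ hM
  rcases Nat.even_or_odd (d - 1) with hpar | hpar
  · -- height three
    have hY : Model.ptY (0 : κ) * Model.B ∈ skew κ d := by
      rw [mem_skew, Model.ptY_zero, Matrix.transpose_mul, Model.B_transpose, smul_mul_assoc,
        Model.B_mul_Ym_transpose, hpar.neg_one_pow, one_smul]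
    have hmem : ∀ i : ℕ, Model.ptY (i : κ) * Model.B ∈ skew κ d := by
      intro i
      induction i with
      | zero => simpa using hY
      | succ i ih =>
        rw [Nat.cast_succ, ← Model.conj_ptY]
        exact hmem_step _ ih
    let w : ℕ → skew κ d := fun i => ⟨_, hmem i⟩
    have hw : ∀ i, σ u (w i) = w (i + 1) := fun i => Subtype.ext (by
      rw [hσu]
      show _ = Model.ptY ((i + 1 : ℕ) : κ) * Model.B
      rw [Nat.cast_succ, ← Model.conj_ptY])
    have hT2 : ((((σ u - 1) ^ 2 : End κ (skew κ d)) (w 0) : skew κ d) : Matrix (Fin d) (Fin d) κ) =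
        (-2 : κ) • (Model.Xm * Model.B) := by
      rw [← smul_mul_assoc, ← Model.ptY_second]
      simp only [pow_two, Module.End.mul_apply, LinearMap.sub_apply, Module.End.one_apply, map_sub, hw,
        Submodule.coe_sub]
      show _ = (_ - _ + _) * _
      simp only [w, Nat.cast_zero, Nat.cast_one, Nat.cast_ofNat, Nat.reduceAdd, zero_add, sub_mul, add_mul,
        smul_mul_assoc]
      module
    have hT3 : ((σ u - 1) ^ 3 : End κ (skew κ d)) (w 0) = 0 := by
      refine Subtype.ext ?_
      rw [pow_succ', Module.End.mul_apply, LinearMap.sub_apply, Module.End.one_apply, Submodule.coe_sub, hσ,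
        skewRep_coe, ← hσ, hT2, hτu, mul_smul_comm, smul_mul_assoc, Model.U_mul_mul_B_mul_transpose,
        Model.conj_Xm, sub_self, Submodule.coe_zero]
    have hQv : skewForm κ d (w 0) (((σ u - 1) ^ (3 - 1) : End κ (skew κ d)) (w 0)) ≠ 0 := by
      rw [show 3 - 1 = 2 from rfl, skewForm_apply, hT2]
      simp only [w, Nat.cast_zero, Model.ptY_zero, smul_mul_assoc, mul_smul_comm, Matrix.trace_smul, smul_eq_mul]
      rw [mul_assoc Model.Ym, hBB, mul_one, mul_assoc Model.Xm, hBB, mul_one]
      refine mul_ne_zero (neg_ne_zero.2 (by exact_mod_cast hsmall 2 (by omega) (by omega))) fun h0 => ?_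
      rw [Matrix.trace_mul_comm] at h0
      have hXY := Model.trace_Xm_Ym (κ := κ) (d := d)
      rw [h0, mul_zero, show (d : κ) - 1 = ((d - 1 : ℕ) : κ) by rw [Nat.cast_sub (by omega), Nat.cast_one],
        show (d : κ) + 1 = ((d + 1 : ℕ) : κ) by push_cast; ring] at hXY
      exact mul_ne_zero (mul_ne_zero (hsmall (d - 1) (by omega) (by omega)) (hsmall d (by omega) (by omega)))
        (hsmall (d + 1) (by omega) (by omega)) hXY.symm
    have hμv : σ h (w 0) = (μ * μ * ((m : κ) ^ (d - 1) * ((m : κ)⁻¹))) • w 0 := by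
      refine Subtype.ext ?_
      rw [hσ, skewRep_coe, hh', Matrix.transpose_smul, Submodule.coe_smul, Model.D, Matrix.diagonal_transpose,
        ← Model.D]
      simp only [w, Nat.cast_zero, Model.ptY_zero, smul_mul_assoc, mul_smul_comm, smul_smul]
      have e : Model.D (d := d) (m : κ) * Model.Ym = (m : κ)⁻¹ • (Model.Ym * Model.D (m : κ)) := by
        rw [← Model.D_mul_Ym, inv_smul_smul₀ hr0]
      rw [← mul_assoc (Model.D (d := d) (m : κ)), e, smul_mul_assoc, smul_mul_assoc,
        mul_assoc Model.Ym, mul_assoc Model.Ym, Model.D_mul_B_mul_D, mul_smul_comm, smul_smul, smul_smul]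
      congr 1
      ring
    obtain ⟨W, ψ, hW, hψ⟩ := exists_small σ hu hidx hh hN hTs (by omega) (skewForm κ d) hQu hQh hz
      (r := 3) (by norm_num) hT3 hQv hμv
    exact ⟨W, ψ, hW ▸ by norm_num, hψ⟩
  · -- height five
    have hY : Model.ptY (0 : κ) * Model.ptY (0 : κ) * Model.B ∈ skew κ d := by
      rw [mem_skew, Model.ptY_zero, Matrix.transpose_mul, Matrix.transpose_mul, Model.B_transpose, smul_mul_assoc,
        ← mul_assoc Model.B, Model.B_mul_Ym_transpose, neg_mul, mul_assoc Model.Ym, Model.B_mul_Ym_transpose,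
        mul_neg, neg_neg, hpar.neg_one_pow, neg_one_smul, mul_assoc]
    have hconj : ∀ a : κ, Model.U * (Model.ptY a * Model.ptY a) * Model.UT (-1) =
        (Model.ptY (a + 1) * Model.ptY (a + 1) : Matrix (Fin d) (Fin d) κ) := fun a => by
      rw [Model.conj_mul, Model.conj_ptY]
    have hmem : ∀ i : ℕ, Model.ptY (i : κ) * Model.ptY (i : κ) * Model.B ∈ skew κ d := by
      intro i
      induction i with
      | zero => simpa using hY
      | succ i ih =>
        rw [Nat.cast_succ, ← hconj]
        exact hmem_step _ ih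
    let w : ℕ → skew κ d := fun i => ⟨_, hmem i⟩
    have hw : ∀ i, σ u (w i) = w (i + 1) := fun i => Subtype.ext (by
      rw [hσu]
      show _ = Model.ptY ((i + 1 : ℕ) : κ) * Model.ptY ((i + 1 : ℕ) : κ) * Model.B
      rw [Nat.cast_succ, ← hconj])
    have hT4 : ((((σ u - 1) ^ 4 : End κ (skew κ d)) (w 0) : skew κ d) : Matrix (Fin d) (Fin d) κ) =
        (24 : κ) • (Model.Xm * Model.Xm * Model.B) := by
      rw [← smul_mul_assoc, ← Model.ptY_sq_fourth]
      simp only [pow_succ, pow_zero, one_mul, Module.End.mul_apply, LinearMap.sub_apply, Module.End.one_apply,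
        map_sub, hw, Submodule.coe_sub]
      show _ = (_ - _ + _ - _ + _) * _
      simp only [w, Nat.cast_zero, Nat.cast_one, Nat.cast_ofNat, Nat.reduceAdd, zero_add, sub_mul, add_mul,
        smul_mul_assoc]
      module
    have hT5 : ((σ u - 1) ^ 5 : End κ (skew κ d)) (w 0) = 0 := by
      refine Subtype.ext ?_
      rw [pow_succ', Module.End.mul_apply, LinearMap.sub_apply, Module.End.one_apply, Submodule.coe_sub, hσ,
        skewRep_coe, ← hσ, hT4, hτu, mul_smul_comm, smul_mul_assoc, Model.U_mul_mul_B_mul_transpose,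
        Model.conj_mul, Model.conj_Xm, sub_self, Submodule.coe_zero]
    have hQv : skewForm κ d (w 0) (((σ u - 1) ^ (5 - 1) : End κ (skew κ d)) (w 0)) ≠ 0 := by
      rw [show 5 - 1 = 4 from rfl, skewForm_apply, hT4]
      simp only [w, Nat.cast_zero, Model.ptY_zero, smul_mul_assoc, mul_smul_comm, Matrix.trace_smul, smul_eq_mul]
      rw [mul_assoc (Model.Ym * Model.Ym), hBB, mul_one, mul_assoc (Model.Xm * Model.Xm), hBB, mul_one]
      refine mul_ne_zero (fun h0 => ?_) fun h0 => ?_
      · have h2 : (2 : κ) ≠ 0 := by exact_mod_cast hsmall 2 (by omega) (by omega)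
        have h3 : (3 : κ) ≠ 0 := by exact_mod_cast hsmall 3 (by omega) (by omega)
        exact mul_ne_zero (pow_ne_zero 3 h2) h3 (by rw [← h0]; norm_num)
      have hXY := Model.trace_Ym_sq_Xm_sq (κ := κ) (d := d)
      rw [h0, mul_zero, show (d : κ) - 1 = ((d - 1 : ℕ) : κ) by rw [Nat.cast_sub (by omega), Nat.cast_one],
        show (d : κ) - 2 = ((d - 2 : ℕ) : κ) by rw [Nat.cast_sub (by omega)]; norm_num,
        show (d : κ) + 1 = ((d + 1 : ℕ) : κ) by push_cast; ring,
        show (d : κ) + 2 = ((d + 2 : ℕ) : κ) by push_cast; ring] at hXY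
      exact mul_ne_zero (mul_ne_zero (mul_ne_zero (mul_ne_zero (hsmall (d - 2) (by omega) (by omega))
        (hsmall (d - 1) (by omega) (by omega))) (hsmall d (by omega) (by omega)))
        (hsmall (d + 1) (by omega) (by omega))) (hsmall (d + 2) (by omega) (by omega)) hXY.symm
    have hμv : σ h (w 0) = (μ * μ * ((m : κ) ^ (d - 1) * ((m : κ)⁻¹ * (m : κ)⁻¹))) • w 0 := by
      refine Subtype.ext ?_
      rw [hσ, skewRep_coe, hh', Matrix.transpose_smul, Submodule.coe_smul, Model.D, Matrix.diagonal_transpose,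
        ← Model.D]
      simp only [w, Nat.cast_zero, Model.ptY_zero, smul_mul_assoc, mul_smul_comm, smul_smul]
      have e : Model.D (d := d) (m : κ) * Model.Ym = (m : κ)⁻¹ • (Model.Ym * Model.D (m : κ)) := by
        rw [← Model.D_mul_Ym, inv_smul_smul₀ hr0]
      rw [← mul_assoc (Model.D (d := d) (m : κ)), ← mul_assoc (Model.D (d := d) (m : κ)), e, smul_mul_assoc,
        mul_assoc Model.Ym, e, mul_smul_comm, smul_smul, smul_mul_assoc, smul_mul_assoc, ← mul_assoc Model.Ym,
        mul_assoc (Model.Ym * Model.Ym), mul_assoc (Model.Ym * Model.Ym), Model.D_mul_B_mul_D, mul_smul_comm,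
        smul_smul, smul_smul]
      congr 1
      ring
    obtain ⟨W, ψ, hW, hψ⟩ := exists_small σ hu hidx hh hN hTs (by omega) (skewForm κ d) hQu hQh hz
      (r := 5) (by norm_num) hT5 hQv hμv
    exact ⟨W, ψ, hW.le, hψ⟩

end CfsgLib.HalfDegree
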