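import Cfsg.Agent.Lib.HalfDegree.Facts
import Cfsg.Agent.Lib.HalfDegree.Adjoint
import Cfsg.Agent.Lib.HalfDegree.ConicCount
import Cfsg.Agent.Lib.HalfDegree.Skew
import Cfsg.Agent.Lib.SmallGroups.QuasiSimpleBasic

/-!
# At most `p + 1` Sylow subgroups

The group has a faithful character of degree at most `(p + 1) / 2`.
-/

set_option autoImplicit false
set_option linter.style.haveILetI false
set_option linter.unusedSectionVars false

open Cfsg CfsgLib.Blocks CfsgLib.CharTheory CfsgLib.DefectOne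
open Module (End)

namespace CfsgLib.HalfDegree

variable {G : Type*} [Group G] [Fintype G] {p : ℕ} [hp : Fact p.Prime] (hG : ExactPrime G p)

include hG

omit hp in
theorem factorization_eq_one : (Nat.card G).factorization p = 1 := by
  refine le_antisymm ?_ (hG.prime.factorization_pos_of_dvd Nat.card_pos.ne' hG.dvd)
  by_contra h
  push Not at h
  exact hG.sq ((hG.prime.pow_dvd_iff_le_factorization Nat.card_pos.ne').2 h)

/-- Elements of order `p` are in every normal subgroup containing one of them. -/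
theorem mem_of_orderOf {L : Subgroup G} (hL : L.Normal) {u x : G} (hu : orderOf u = p)
    (hx : orderOf x = p) (huL : u ∈ L) : x ∈ L := by
  let P : Sylow p G := Sylow.ofCard (Subgroup.zpowers u)
    (by rw [Nat.card_zpowers, hu, factorization_eq_one hG, pow_one])
  let Q : Sylow p G := Sylow.ofCard (Subgroup.zpowers x)
    (by rw [Nat.card_zpowers, hx, factorization_eq_one hG, pow_one])
  obtain ⟨c, hc⟩ := MulAction.exists_smul_eq G Q P
  have h : c * x * c⁻¹ ∈ ((c • Q : Sylow p G) : Subgroup G) :=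
    Subgroup.mem_map.2 ⟨x, Subgroup.mem_zpowers x, rfl⟩
  rw [hc] at h
  have h' := hL.conj_mem _ (Subgroup.zpowers_le.2 huL h) c⁻¹
  simpa [mul_assoc] using h'

/-- The subgroup generated by the elements of order `p` inherits the hypotheses. -/
theorem exists_setup (hnn : ∀ H : Subgroup G, H.Normal → Nat.card H ≠ p) {χ : G → ℂ} (hχ : IsCharacter G χ)
    (hfaith : ∀ g : G, χ g = χ 1 → g = 1) {u : G} (hu : orderOf u = p) :
    ∀ (_ : Fintype (Subgroup.closure {x : G | orderOf x = p})),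
    ExactPrime (Subgroup.closure {x : G | orderOf x = p}) p ∧
      ∃ S : Sect (Subgroup.closure {x : G | orderOf x = p}) p, (S.u : G) = u ∧
        (∀ L : Subgroup (Subgroup.closure {x : G | orderOf x = p}), L.Normal → S.u ∈ L → L = ⊤) ∧
        (∀ H : Subgroup (Subgroup.closure {x : G | orderOf x = p}), H.Normal → Nat.card H ≠ p) ∧
        IsCharacter (Subgroup.closure {x : G | orderOf x = p}) (fun k => χ k) ∧
        (∀ k : Subgroup.closure {x : G | orderOf x = p}, χ k = χ ((1 : Subgroup.closure {x : G | orderOf x = p}) : G) → k = 1) := by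
  intro _
  set A : Set G := {x | orderOf x = p} with hA
  set K := Subgroup.closure A with hK
  have hKG : ExactPrime K p := by
    refine ⟨hG.prime, ?_, fun h => hG.sq (h.trans (Subgroup.card_subgroup_dvd_card K))⟩
    have h : orderOf (⟨u, Subgroup.subset_closure hu⟩ : K) = p := by rw [Subgroup.orderOf_mk, hu]
    exact h ▸ orderOf_dvd_natCard _
  obtain ⟨S, hS⟩ := exists_sect hKG (u := (⟨u, Subgroup.subset_closure hu⟩ : K))
    (by rw [Subgroup.orderOf_mk, hu])
  obtain ⟨n, ρ, hρ⟩ := hχ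
  refine ⟨hKG, S, by rw [hS], ?_, ?_, ⟨n, ρ.comp K.subtype, funext fun k => congrFun hρ k⟩,
    fun k hk => Subtype.ext (hfaith k hk)⟩
  · intro L hL huL
    have hsub : A ⊆ (L.map K.subtype : Set G) := fun x hx => by
      refine Subgroup.mem_map.2 ⟨⟨x, Subgroup.subset_closure hx⟩, ?_, rfl⟩
      exact mem_of_orderOf hKG hL S.ord (by rw [Subgroup.orderOf_mk]; exact hx) huL
    refine eq_top_iff.2 fun k _ => ?_
    obtain ⟨l, hl, hlk⟩ := Subgroup.mem_map.1 ((Subgroup.closure_le _).2 hsub k.2)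
    rwa [← show l = k from Subtype.ext hlk]
  · intro H hH hcard
    obtain ⟨⟨h, hhH⟩, ho⟩ := exists_prime_orderOf_dvd_card' (G := H) p (dvd_of_eq hcard.symm)
    rw [Subgroup.orderOf_mk] at ho
    have hall : ∀ x : G, orderOf x = p → x ∈ H.map K.subtype := fun x hx =>
      Subgroup.mem_map.2 ⟨⟨x, Subgroup.subset_closure hx⟩,
        mem_of_orderOf hKG hH ho (by rw [Subgroup.orderOf_mk]; exact hx) hhH, rfl⟩
    have hcm : Nat.card (H.map K.subtype) = p := by
      rw [Subgroup.card_map_of_injective K.subtype_injective, hcard]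
    refine hnn (H.map K.subtype) ⟨fun y hy g => ?_⟩ hcm
    by_cases hy1 : y = 1
    · rw [hy1, mul_one, mul_inv_cancel]; exact Subgroup.one_mem _
    refine hall _ ?_
    rw [show orderOf (g * y * g⁻¹) = orderOf y from
      orderOf_injective (MulAut.conj g).toMonoidHom (MulAut.conj g).injective y]
    rcases (Nat.dvd_prime hG.prime).1 (hcm ▸ Subgroup.orderOf_dvd_natCard _ hy) with h' | h'
    · exact absurd (orderOf_eq_one_iff.1 h') hy1
    · exact h'

theorem regular_pow_prime (g : G) : ¬ p ∣ orderOf (g ^ p) := by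
  intro hdvd
  rw [orderOf_pow] at hdvd
  by_cases hpg : p ∣ orderOf g
  · rw [Nat.gcd_eq_right hpg] at hdvd
    refine hG.sq ?_
    rw [pow_two]
    exact (Nat.mul_dvd_of_dvd_div hpg hdvd).trans (orderOf_dvd_natCard g)
  · rw [Nat.gcd_comm, Nat.Coprime.gcd_eq_one (hG.prime.coprime_iff_not_dvd.2 hpg), Nat.div_one] at hdvd
    exact hpg hdvd

omit hG in
/-- A unipotent element of order prime to `p` acts trivially. -/
theorem apply_eq_one_of_isNilpotent {κ : Type*} [Field κ] [CharP κ p] {V : Type*} [AddCommGroup V]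
    [Module κ V] {g : G} (hg : ¬ p ∣ orderOf g) (ψ : G →* End κ V) (hn : IsNilpotent (ψ g - 1)) :
    ψ g = 1 := by
  obtain ⟨j, hj⟩ := hn
  have hgj : ψ (g ^ p ^ j) = 1 := by
    rw [map_pow, ← sub_eq_zero]
    rcases subsingleton_or_nontrivial (End κ V) with hs | hnt
    · exact Subsingleton.elim _ _
    haveI : CharP (End κ V) p := charP_of_injective_algebraMap' κ p
    have h' := sub_pow_char_pow_of_commute (p := p) (n := j) (x := ψ g) (y := 1) (Commute.one_right _)
    rw [one_pow] at h'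
    rw [← h']
    exact pow_eq_zero_of_le (Nat.lt_pow_self hp.out.one_lt).le hj
  obtain ⟨b, hb⟩ := exists_pow_eq_self_of_coprime (x := g)
    (Nat.Coprime.pow_left j (hp.out.coprime_iff_not_dvd.2 hg))
  rw [← hb, map_pow, hgj, one_pow]

omit hG in
/-- An irreducible section in which `u` is not trivial. -/
theorem exists_irred {κ : Type} [Field κ] (u : G) (hgen : ∀ K : Subgroup G, K.Normal → u ∈ K → K = ⊤) :
    ∀ (n : ℕ) (U : Type) [AddCommGroup U] [Module κ U] [FiniteDimensional κ U],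
      Module.finrank κ U = n → ∀ (ρ : G →* End κ U),
      (∃ (M : Type) (_ : AddCommGroup M) (_ : Module κ M) (_ : FiniteDimensional κ M) (τ : G →* End κ M),
        Module.finrank κ M ≤ n ∧ τ u ≠ 1 ∧
          ∀ W : Submodule κ M, (∀ g, ∀ z ∈ W, τ g z ∈ W) → W = ⊥ ∨ W = ⊤) ∨
      ∀ g, IsNilpotent (ρ g - 1) := by
  intro n
  induction n using Nat.strong_induction_on with
  | _ n ih =>
    intro U _ _ _ hn ρ
    by_cases hirr : ∀ U₁ : Submodule κ U, (∀ g, ∀ z ∈ U₁, ρ g z ∈ U₁) → U₁ = ⊥ ∨ U₁ = ⊤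
    · by_cases hu : ρ u = 1
      · refine Or.inr fun g => ?_
        have h : g ∈ ρ.ker := (hgen ρ.ker inferInstance hu) ▸ Subgroup.mem_top g
        rw [ρ.mem_ker.1 h, sub_self]
        exact IsNilpotent.zero
      · exact Or.inl ⟨U, inferInstance, inferInstance, inferInstance, ρ, hn.le, hu, hirr⟩
    push Not at hirr
    obtain ⟨U₁, hinv, hne, hne'⟩ := hirr
    let σ₁ : G →* End κ U₁ :=
      { toFun := fun g => (ρ g).restrict (hinv g)
        map_one' := LinearMap.ext fun x => Subtype.ext (by simp)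
        map_mul' := fun g h => LinearMap.ext fun x => Subtype.ext (by simp [LinearMap.restrict_apply]) }
    let σ₂ : G →* End κ (U ⧸ U₁) :=
      { toFun := fun g => U₁.mapQ U₁ (ρ g) (fun z hz => hinv g z hz)
        map_one' := Submodule.linearMap_qext _ (LinearMap.ext fun x => by simp)
        map_mul' := fun g h => Submodule.linearMap_qext _ (LinearMap.ext fun x => by simp) }
    have h1lt : Module.finrank κ U₁ < n := hn ▸ Submodule.finrank_lt hne'
    have h2lt : Module.finrank κ (U ⧸ U₁) < n := by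
      have h := Submodule.finrank_quotient_add_finrank U₁
      have : 0 < Module.finrank κ U₁ := Nat.pos_of_ne_zero fun h0 => hne (Submodule.finrank_eq_zero.1 h0)
      omega
    rcases ih _ h1lt U₁ rfl σ₁ with ⟨M, i1, i2, i3, τ, hle, hτ⟩ | h1
    · exact Or.inl ⟨M, i1, i2, i3, τ, by omega, hτ⟩
    rcases ih _ h2lt (U ⧸ U₁) rfl σ₂ with ⟨M, i1, i2, i3, τ, hle, hτ⟩ | h2
    · exact Or.inl ⟨M, i1, i2, i3, τ, by omega, hτ⟩
    refine Or.inr fun g => ?_
    obtain ⟨a, ha⟩ := h1 g
    obtain ⟨b, hb⟩ := h2 g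
    have e1 : ∀ (i : ℕ) (x : U₁), ((((σ₁ g - 1) ^ i) x : U₁) : U) = ((ρ g - 1) ^ i) (x : U) := by
      intro i
      induction i with
      | zero => intro x; rfl
      | succ i hi =>
        intro x
        rw [pow_succ, pow_succ, Module.End.mul_apply, Module.End.mul_apply, hi]
        rfl
    have e2 : ∀ (i : ℕ) (x : U), ((σ₂ g - 1) ^ i) (U₁.mkQ x) = U₁.mkQ (((ρ g - 1) ^ i) x) := by
      intro i
      induction i with
      | zero => intro x; rfl
      | succ i hi =>
        intro x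
        rw [pow_succ, pow_succ, Module.End.mul_apply, Module.End.mul_apply, ← hi]
        rfl
    refine ⟨a + b, LinearMap.ext fun x => ?_⟩
    have hm : ((ρ g - 1) ^ b) x ∈ U₁ := by
      rw [← Submodule.Quotient.mk_eq_zero, ← Submodule.mkQ_apply, ← e2, hb, LinearMap.zero_apply]
    rw [pow_add, Module.End.mul_apply, ← e1 a ⟨_, hm⟩, ha]
    rfl

/-- With a faithful character of degree less than `p - 1` some element of the normaliser moves
`S.u`. -/
theorem eGroup_ne_bot (S : Sect G p) (hgen : ∀ K : Subgroup G, K.Normal → S.u ∈ K → K = ⊤)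
    (hnn : ∀ H : Subgroup G, H.Normal → Nat.card H ≠ p) {χ : G → ℂ} (hχ : IsCharacter G χ)
    (hfaith : ∀ g : G, χ g = χ 1 → g = 1) (hdeg : charDegree χ + 1 < p) :
    eGroup S (trivIrr S.V) ≠ ⊥ := by
  intro hbot
  haveI := Fintype.ofFinite (IrrCharacter G)
  have hcent := Below.central_of_lt hG S hgen hnn hχ hfaith (by omega)
  obtain ⟨m, hm⟩ := IsCharacter.exists_sum hχ
  have hab := SmallGroups.QuasiSimple.comm_of_linear hfaith hm fun x hx =>
    SmallGroups.QuasiSimple.degree_eq_one hG S hcent (fun y => by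
      obtain ⟨l, hl⟩ := S.exists_unit_conj y
      have hle : l ∈ eGroup S (trivIrr S.V) := ⟨y, smul_trivIrr S hG _, hl⟩
      rw [hbot, Subgroup.mem_bot] at hle
      rw [hl, hle, Units.val_one, ZMod.val_one, pow_one]) x
      (by have := SmallGroups.QuasiSimple.charDegree_le hm hx; omega)
  exact hnn (Subgroup.zpowers S.u) ⟨fun n hn g => by rw [hab g n, mul_inv_cancel_right]; exact hn⟩
    (by rw [Nat.card_zpowers, S.ord])

set_option maxHeartbeats 1000000 in
set_option maxSynthPendingDepth 8 in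
/-- At most `p + 1` Sylow subgroups. -/
theorem card_sylow_le_of_small (S : Sect G p) (hgen : ∀ K : Subgroup G, K.Normal → S.u ∈ K → K = ⊤)
    (hnn : ∀ H : Subgroup G, H.Normal → Nat.card H ≠ p) {χ : G → ℂ} (hχ : IsCharacter G χ)
    (hfaith : ∀ g : G, χ g = χ 1 → g = 1) (hdeg : 2 * charDegree χ ≤ p + 1) (hp5 : 5 ≤ p)
    (hp7 : 2 * charDegree χ + 1 ≤ p ∨ 7 < p) :
    Nat.card (Sylow p G) ≤ p + 1 := by
  classical
  have hcent := Below.central_of_lt hG S hgen hnn hχ hfaith (by omega)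
  have hbot := eGroup_ne_bot hG S hgen hnn hχ hfaith (by omega)
  set e := charDegree χ with hedef
  haveI : NeZero p := ⟨hG.prime.ne_zero⟩
  obtain ⟨⟨k, hk⟩, hkgen⟩ := IsCyclic.exists_generator (α := eGroup S (trivIrr S.V))
  have hk1 : k ≠ 1 := fun hk1 => hbot ((Subgroup.eq_bot_iff_forall _).2 fun l hl => by
    obtain ⟨c, hc⟩ := Subgroup.mem_zpowers_iff.1 (hkgen ⟨l, hl⟩)
    have h1 := congrArg Subtype.val hc
    rw [SubgroupClass.coe_zpow] at h1
    simpa [hk1] using h1.symm)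
  obtain ⟨y, -, hy⟩ := id hk
  set m := (k : ZMod p).val with hm
  have hpk : ∀ i : ℕ, (y : G) ^ i * S.u * ((y : G) ^ i)⁻¹ = S.u ^ (m ^ i) := by
    intro i
    induction i with
    | zero => simp
    | succ i ih =>
      calc (y : G) ^ (i + 1) * S.u * ((y : G) ^ (i + 1))⁻¹
          = y * ((y : G) ^ i * S.u * ((y : G) ^ i)⁻¹) * (y : G)⁻¹ := by
            rw [pow_succ', mul_inv_rev]; simp only [mul_assoc]
        _ = ((y : G) * S.u * (y : G)⁻¹) ^ (m ^ i) := by rw [ih, conj_pow]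
        _ = _ := by rw [hy, ← pow_mul, ← pow_succ']
  set h := (y : G) ^ p with hh
  have hmodp : m ^ p ≡ m [MOD p] := (ZMod.natCast_eq_natCast_iff _ _ _).1 (by rw [Nat.cast_pow, ZMod.pow_card])
  have hhu : h * S.u * h⁻¹ = S.u ^ m := by
    rw [hh, hpk, pow_eq_pow_iff_modEq, S.ord]
    exact hmodp
  obtain ⟨Mx, hMx⟩ := exists_isPModular_of_prime hG.prime
  haveI := isPrime_of_isPModular hMx
  have hN : ∀ g ∈ Subgroup.normalizer ((Subgroup.zpowers S.u : Subgroup G) : Set G),
      ∃ z ∈ Subgroup.center G, ∃ i c : ℕ, g = z * S.u ^ i * h ^ c := by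
    intro g hg
    obtain ⟨l, hl⟩ := S.exists_unit_conj (⟨g, hg⟩ : S.N)
    obtain ⟨c, hc⟩ : ∃ c : ℕ, k ^ c = l := by
      obtain ⟨c, hc⟩ := mem_powers_iff_mem_zpowers.2 (hkgen ⟨l, ⟨g, hg⟩, smul_trivIrr S hG _, hl⟩)
      exact ⟨c, congrArg Subtype.val hc⟩
    have hhc : h ^ c * S.u * (h ^ c)⁻¹ = S.u ^ (l : ZMod p).val := by
      rw [hh, ← pow_mul, hpk, pow_eq_pow_iff_modEq, S.ord, pow_mul]
      refine (hmodp.pow c).trans ((ZMod.natCast_eq_natCast_iff _ _ _).1 ?_)
      rw [Nat.cast_pow, hm, ZMod.natCast_zmod_val, ZMod.natCast_zmod_val, ← hc, Units.val_pow_eq_pow_val]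
    have hl' : g * S.u * g⁻¹ = h ^ c * S.u * (h ^ c)⁻¹ := hl.trans hhc.symm
    have hcu : (h ^ c)⁻¹ * g * S.u = S.u * ((h ^ c)⁻¹ * g) := by
      calc (h ^ c)⁻¹ * g * S.u = (h ^ c)⁻¹ * (g * S.u * g⁻¹) * g := by group
        _ = _ := by rw [hl']; group
    obtain ⟨x, hx, v, hv⟩ := exists_decomp S.ord hG.sq hMx S.V.subtype S.range_subtype hcu
    obtain ⟨i, rfl⟩ := mem_powers_iff_mem_zpowers.2 hx
    obtain ⟨i', hi'⟩ : ∃ i', h ^ c * S.u ^ i * (h ^ c)⁻¹ = S.u ^ i' :=
      ⟨_, by rw [← conj_pow, hhc, ← pow_mul]⟩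
    refine ⟨v, Subgroup.mem_center_iff.2 fun x => (hcent v x).symm, i', c, ?_⟩
    have e1 : g = h ^ c * (S.u ^ i * v) := by
      rw [← show (h ^ c)⁻¹ * g = S.u ^ i * v from hv, mul_inv_cancel_left]
    rw [e1, ← hi']
    calc h ^ c * (S.u ^ i * v) = h ^ c * S.u ^ i * (h ^ c)⁻¹ * (h ^ c * v) := by group
      _ = h ^ c * S.u ^ i * (h ^ c)⁻¹ * (v * h ^ c) := by rw [hcent v (h ^ c)]
      _ = h ^ c * S.u ^ i * (h ^ c)⁻¹ * v * h ^ c := by simp only [mul_assoc]
      _ = _ := by rw [← hcent v (h ^ c * S.u ^ i * (h ^ c)⁻¹)]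
  have hidx : ¬ p ∣ (Subgroup.zpowers S.u).index := fun hd => hG.sq (by
    rw [← Subgroup.card_mul_index (Subgroup.zpowers S.u), Nat.card_zpowers, S.ord, pow_two]
    exact mul_dvd_mul_left p hd)
  have hmp : ¬ p ∣ m := fun hd => by
    have h0 := Nat.eq_zero_of_dvd_of_lt hd (ZMod.val_lt _)
    exact k.ne_zero ((ZMod.val_eq_zero _).1 h0)
  -- reduction
  obtain ⟨d, ρ, hρ⟩ := hχ
  have hd : e = d := by
    rw [hedef, charDegree, ← hρ, Representation.char_one, Module.finrank_fin_fun, Complex.natCast_re,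
      Nat.floor_natCast]
  obtain ⟨κ, iκ, iκp, iκa, σ, hσ⟩ := exists_reduction (p := p) ρ fun g hg => hfaith g (by
    rw [← hρ]
    show LinearMap.trace ℂ _ (ρ g) = LinearMap.trace ℂ _ (ρ 1)
    rw [hg, ρ.map_one])
  rcases exists_irred (κ := κ) S.u hgen d (Fin d → κ) (Module.finrank_fin_fun κ) σ with
    ⟨M, i1, i2, i3, τ, hle, hτu, hirr⟩ | hnil
  swap
  · -- the group would be a `p`-group
    exfalso
    have hpg : IsPGroup p G := by
      intro g
      obtain ⟨j, hj⟩ := hnil g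
      refine ⟨j + 1, ?_⟩
      have hpow : σ (g ^ p ^ j) = 1 := by
        rw [map_pow, ← sub_eq_zero]
        rcases subsingleton_or_nontrivial (End κ (Fin d → κ)) with hs | hnt
        · exact Subsingleton.elim _ _
        haveI : CharP (End κ (Fin d → κ)) p := charP_of_injective_algebraMap' κ p
        have h := sub_pow_char_pow_of_commute (p := p) (n := j) (x := σ g) (y := 1) (Commute.one_right _)
        rw [one_pow] at h
        rw [← h]
        exact pow_eq_zero_of_le (Nat.lt_pow_self hG.prime.one_lt).le hj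
      rw [pow_succ, pow_mul]
      exact hσ _ (by rw [map_pow, hpow, one_pow]) (regular_pow_prime hG _)
    obtain ⟨i, hi⟩ := IsPGroup.iff_card.1 hpg
    have hi1 : i = 1 := by
      have := factorization_eq_one hG
      rwa [hi, hG.prime.factorization_pow, Finsupp.single_eq_same] at this
    exact hnn ⊤ inferInstance (by rw [Subgroup.card_top, hi, hi1, pow_one])
  obtain ⟨d', hd2, hdp, τ', hτu', hτh', hτz⟩ : ∃ d', 2 ≤ d' ∧ 2 * d' + 1 ≤ p ∧
      ∃ τ' : G →* Matrix (Fin d') (Fin d') κ, τ' S.u = Model.U ∧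
        (∃ μ : κ, μ ≠ 0 ∧ τ' h = μ • Model.D (m : κ)) ∧
        ∀ z ∈ Subgroup.center G, ∃ c : κ, τ' z = c • 1 := by
    obtain ⟨hd2, τ', h1, h2, h3⟩ := exists_matrix_model S.ord hidx hhu (regular_pow_prime hG _) hN τ hirr
      (by omega) hτu
    by_cases hsm : 2 * Module.finrank κ M + 1 ≤ p
    · exact ⟨_, hd2, hsm, τ', h1, h2, h3⟩
    have hp11 : 11 ≤ p := by
      by_contra hlt
      have h8 : 7 < p := by omega
      have h1 : p ≠ 8 := fun e => absurd (e ▸ hG.prime) (by norm_num)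
      have h2 : p ≠ 9 := fun e => absurd (e ▸ hG.prime) (by norm_num)
      have h3 : p ≠ 10 := fun e => absurd (e ▸ hG.prime) (by norm_num)
      omega
    obtain ⟨W₅, ψ₅, hW₅, hψ₅⟩ := exists_small_skew S.ord hidx hmp hhu hN τ' h1 h2 h3 (by omega) (by omega)
    rcases exists_irred (κ := κ) S.u hgen _ W₅ rfl ψ₅ with ⟨M', j1, j2, j3, τ₅, hle₅, hτu₅, hirr₅⟩ | hnil₅
    · obtain ⟨hd2', τ'', h1', h2', h3'⟩ := exists_matrix_model S.ord hidx hhu (regular_pow_prime hG _) hN τ₅
        hirr₅ (by omega) hτu₅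
      exact ⟨_, hd2', by omega, τ'', h1', h2', h3'⟩
    exfalso
    refine hψ₅ ?_
    have hh1 : ψ₅ h = 1 := apply_eq_one_of_isNilpotent (κ := κ) (g := h) (regular_pow_prime hG _) ψ₅ (hnil₅ h)
    have hum : ψ₅ S.u ^ m = ψ₅ S.u := by
      rw [← map_pow, ← hhu, map_mul, map_mul, hh1, one_mul]
      have hh1' : ψ₅ h⁻¹ = 1 := by
        have := map_mul ψ₅ h⁻¹ h
        rwa [inv_mul_cancel, map_one, hh1, mul_one, eq_comm] at this
      rw [hh1', mul_one]
    have hm1 : m ≠ 1 := fun e1 => hk1 (Units.ext (by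
      rw [← ZMod.natCast_zmod_val (k : ZMod p), ← hm, e1, Nat.cast_one, Units.val_one]))
    have hmpos : 0 < m := Nat.pos_of_ne_zero fun e0 => hmp (e0 ▸ dvd_zero p)
    have h2' : ψ₅ (S.u ^ (m - 1)) = 1 := by
      refine ((Group.isUnit S.u).map ψ₅).mul_left_cancel ?_
      rw [← map_mul, ← pow_succ', Nat.sub_add_cancel hmpos, map_pow, hum, mul_one]
    have hnd' : ¬ p ∣ m - 1 := fun hd' => by
      have := Nat.le_of_dvd (by omega) hd'
      have := ZMod.val_lt (k : ZMod p)
      omega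
    obtain ⟨i, hi⟩ := mem_powers_iff_mem_zpowers.2
      ((S.zpowers_pow hG hnd').symm ▸ Subgroup.mem_zpowers S.u : S.u ∈ Subgroup.zpowers (S.u ^ (m - 1)))
    rw [← show (S.u ^ (m - 1)) ^ i = S.u from hi, map_pow, h2', one_pow]
  obtain ⟨W, σW, Q, hW3, hsymm, hnd, hinv, hT3, hT2⟩ := exists_three S.ord hidx hmp hN τ' hτu' hτh' hτz hd2 hdp
  have h2 : (2 : κ) ≠ 0 := fun h0 => by
    have h0' : ((2 : ℕ) : κ) = 0 := by exact_mod_cast h0
    have := Nat.le_of_dvd two_pos ((CharP.cast_eq_zero_iff κ p 2).1 h0')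
    omega
  refine card_sylow_le hW3 hsymm hnd h2 hp5 hG.sq S.ord σW hinv hT3 hT2 ?_
  -- the kernel centralises `u`
  have huker : σW S.u ≠ 1 := fun h1 =>
    hT2 (pow_eq_zero_of_le one_le_two (by rw [pow_one]; exact sub_eq_zero.2 h1))
  have hkinv : ∀ r, σW r = 1 → σW r⁻¹ = 1 := fun r hr => by
    have := map_mul σW r⁻¹ r
    rw [inv_mul_cancel, map_one, hr, mul_one] at this
    exact this.symm
  set Y : Subgroup G := σW.ker ⊔ Subgroup.zpowers S.u with hY
  have huY : S.u ∈ Y := Subgroup.mem_sup_right (Subgroup.mem_zpowers _)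
  haveI := Fintype.ofFinite Y
  set u' : Y := ⟨S.u, huY⟩ with hu'
  have hu'o : orderOf u' = p := by rw [hu', Subgroup.orderOf_mk, S.ord]
  have hGY : ExactPrime Y p :=
    ⟨hG.prime, hu'o ▸ orderOf_dvd_natCard u', fun h => hG.sq (h.trans (Subgroup.card_subgroup_dvd_card Y))⟩
  by_cases hPn : ∃ H : Subgroup Y, H.Normal ∧ Nat.card H = p
  · obtain ⟨H, hHn, hH⟩ := hPn
    obtain ⟨⟨x, hxH⟩, hxo⟩ := exists_prime_orderOf_dvd_card' (G := H) p (dvd_of_eq hH.symm)
    rw [Subgroup.orderOf_mk] at hxo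
    have huH : u' ∈ H := mem_of_orderOf hGY hHn hxo hu'o hxH
    have hzH : Subgroup.zpowers u' = H := Subgroup.eq_of_le_of_card_ge (Subgroup.zpowers_le.2 huH)
      (by rw [hH, Nat.card_zpowers, hu'o])
    intro r hr
    replace hr : σW r = 1 := hr
    have h1 : (⟨r, Subgroup.mem_sup_left hr⟩ : Y) * u' * (⟨r, Subgroup.mem_sup_left hr⟩ : Y)⁻¹ ∈
        Subgroup.zpowers u' := by rw [hzH]; exact hHn.conj_mem _ huH _
    obtain ⟨j, hj⟩ := mem_powers_iff_mem_zpowers.2 h1
    have hj' : S.u ^ j = r * S.u * r⁻¹ := by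
      simpa [hu'] using congrArg Subtype.val hj
    have hσj : σW S.u ^ j = σW S.u := by
      rw [← map_pow, hj', map_mul, map_mul, hr, one_mul,
        hkinv r hr, mul_one]
    have hσu : IsUnit (σW S.u) := (Group.isUnit S.u).map σW
    have hu1 : S.u ^ j = S.u := by
      rcases Nat.eq_zero_or_pos j with rfl | hjpos
      · rw [pow_zero] at hσj; exact absurd hσj.symm huker
      · have h2' : σW (S.u ^ (j - 1)) = 1 := by
          refine hσu.mul_left_cancel ?_
          rw [← map_mul, ← pow_succ', Nat.sub_add_cancel hjpos, map_pow, hσj, mul_one]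
        have hdvd : p ∣ j - 1 := by
          by_contra hnd'
          obtain ⟨i, hi⟩ := mem_powers_iff_mem_zpowers.2
            ((S.zpowers_pow hG hnd').symm ▸ Subgroup.mem_zpowers S.u :
              S.u ∈ Subgroup.zpowers (S.u ^ (j - 1)))
          refine huker ?_
          rw [← show (S.u ^ (j - 1)) ^ i = S.u from hi, map_pow, h2', one_pow]
        rw [← Nat.sub_add_cancel hjpos, pow_succ, orderOf_dvd_iff_pow_eq_one.1 (S.ord.symm ▸ hdvd), one_mul]
    have := hu1.symm.trans hj'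
    exact (mul_inv_eq_iff_eq_mul.1 this.symm)
  · push Not at hPn
    exfalso
    have hχY : IsCharacter Y (fun k => χ k) := ⟨d, ρ.comp Y.subtype, funext fun k => congrFun hρ k⟩
    have hfY : ∀ k : Y, χ k = χ ((1 : Y) : G) → k = 1 := fun k hk => Subtype.ext (hfaith k hk)
    set K := Subgroup.closure {x : Y | orderOf x = p} with hK
    haveI : Fintype K := Fintype.ofFinite _
    obtain ⟨hKG, S', hS'u, hgen', hnn', hχ', hfaith'⟩ :=
      exists_setup hGY (fun H hH => hPn H hH) hχY hfY hu'o inferInstance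
    have hne := eGroup_ne_bot hKG S' hgen' hnn' hχ' hfaith' (show charDegree (fun k : K => χ ((k : Y) : G)) + 1 < p by
      have : charDegree (fun k : K => χ ((k : Y) : G)) = e := by simp [charDegree, hedef]
      omega)
    obtain ⟨l, ⟨w, -, hw⟩, hl1⟩ := (Subgroup.ne_bot_iff_exists_ne_one.1 hne).elim
      fun l hl => (⟨l.1, l.2, fun e => hl (Subtype.ext e)⟩ : ∃ l, l ∈ eGroup S' (trivIrr S'.V) ∧ l ≠ 1)
    have hwG : ((((w : K) : Y)) : G) * S.u * ((((w : K) : Y)) : G)⁻¹ = S.u ^ (l : ZMod p).val := by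
      have := congrArg (fun x : K => ((x : Y) : G)) hw
      simpa [hS'u, hu'] using this
    obtain ⟨r, hr, a, ha, hw'⟩ : ∃ r ∈ σW.ker, ∃ a ∈ Subgroup.zpowers S.u, r * a = (((w : K) : Y) : G) :=
      Subgroup.mem_sup_of_normal_left.1 ((w : K) : Y).2
    obtain ⟨i, rfl⟩ := mem_powers_iff_mem_zpowers.2 ha
    have hσ1 : σW S.u ^ (l : ZMod p).val = σW S.u := by
      rw [← map_pow, ← hwG, ← hw', mul_inv_rev]
      have hr' : σW r⁻¹ = 1 := hkinv r (σW.mem_ker.1 hr)
      simp only [map_mul, (σW.mem_ker.1 hr : σW r = 1), hr', one_mul, mul_one]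
      rw [← map_mul, ← map_mul]
      congr 1
      rw [show S.u ^ i * S.u = S.u * S.u ^ i from (Commute.self_pow S.u i).symm.eq, mul_inv_cancel_right]
    set j := (l : ZMod p).val with hj
    have hjlt : j < p := ZMod.val_lt _
    have hj1 : j ≠ 1 := fun e1 => hl1 (Units.ext (by
      rw [← ZMod.natCast_zmod_val (l : ZMod p), ← hj, e1, Nat.cast_one, Units.val_one]))
    rcases Nat.eq_zero_or_pos j with h0 | hjpos
    · rw [h0, pow_zero] at hσ1; exact huker hσ1.symm
    · have h2' : σW (S.u ^ (j - 1)) = 1 := by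
        refine ((Group.isUnit S.u).map σW).mul_left_cancel ?_
        rw [← map_mul, ← pow_succ', Nat.sub_add_cancel hjpos, map_pow, hσ1, mul_one]
      have hnd' : ¬ p ∣ j - 1 := fun hd => by have := Nat.le_of_dvd (by omega) hd; omega
      obtain ⟨i, hi⟩ := mem_powers_iff_mem_zpowers.2
        ((S.zpowers_pow hG hnd').symm ▸ Subgroup.mem_zpowers S.u :
          S.u ∈ Subgroup.zpowers (S.u ^ (j - 1)))
      refine huker ?_
      rw [← show (S.u ^ (j - 1)) ^ i = S.u from hi, map_pow, h2', one_pow]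

omit hp in
/-- At most `p + 1` Sylow subgroups with a faithful character of degree `(p - 1) / 2`. -/
theorem card_sylow_le_of_gen [Fact p.Prime] (S : Sect G p)
    (hgen : ∀ K : Subgroup G, K.Normal → S.u ∈ K → K = ⊤)
    (hnn : ∀ H : Subgroup G, H.Normal → Nat.card H ≠ p) {χ : G → ℂ} (hχ : IsCharacter G χ)
    (hfaith : ∀ g : G, χ g = χ 1 → g = 1) (hdeg : 2 * charDegree χ + 1 = p) :
    Nat.card (Sylow p G) ≤ p + 1 :=
  card_sylow_le_of_small hG S hgen hnn hχ hfaith (by omega)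
    (by obtain ⟨-, -, -, he2⟩ := facts hG S hgen hnn hχ hfaith hdeg; omega) (Or.inl hdeg.le)

end CfsgLib.HalfDegree
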