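import Cfsg.Agent.Lib.DefectOne.SmallDegree

/-!
# Facts on a faithful character of degree `(p - 1) / 2`
-/

set_option autoImplicit false
set_option linter.style.haveILetI false
set_option linter.unusedSectionVars false

open Cfsg CfsgLib.Blocks CfsgLib.CharTheory CfsgLib.DefectOne
open scoped ComplexConjugate

namespace CfsgLib.HalfDegree

variable {G : Type*} [Group G] [Fintype G] {p : ℕ} [Fact p.Prime] (hG : ExactPrime G p) (S : Sect G p)

include hG

/-- A character rational at `u` of degree less than `p - 1` has `u` in its kernel. -/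
theorem apply_eq_of_rational {χ : G → ℂ} (hχ : IsCharacter G χ)
    (hk : ∀ k : (ZMod p)ˣ, χ (S.u ^ (k : ZMod p).val) = χ S.u) (hdeg : charDegree χ < p - 1) :
    χ S.u = χ 1 := by
  have hχ' := hχ
  obtain ⟨n, ρ, hρ⟩ := hχ
  obtain ⟨ι, hι, b, μ, hcard, hμ, -, hchar⟩ := exists_eigenbasis ρ S.u
  rw [S.ord] at hμ
  haveI : NeZero p := ⟨hG.prime.ne_zero⟩
  have hζ := Complex.isPrimitiveRoot_exp p hG.prime.ne_zero
  set ζ := Complex.exp (2 * Real.pi * Complex.I / (p : ℕ)) with hζdef
  choose j hjlt hj using fun i => hζ.eq_pow_of_pow_eq_one (hμ i)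
  set nb := (Finset.univ.filter fun i => ¬ p ∣ j i).card with hnb
  set na := (Finset.univ.filter fun i => p ∣ j i).card with hna
  have hsum : ((p - 1 : ℕ) : ℂ) * χ S.u = (na : ℂ) * ((p : ℂ) - 1) - nb := by
    calc ((p - 1 : ℕ) : ℂ) * χ S.u
        = ∑ k : (ZMod p)ˣ, χ (S.u ^ (k : ZMod p).val) := by
          rw [Finset.sum_congr rfl fun k _ => hk k, Finset.sum_const, Finset.card_univ, ZMod.card_units,
            nsmul_eq_mul]
      _ = ∑ i, ∑ k : (ZMod p)ˣ, ζ ^ (j i * (k : ZMod p).val) := by
          rw [← hρ, Finset.sum_comm]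
          refine Finset.sum_congr rfl fun k _ => ?_
          rw [hchar]
          exact Finset.sum_congr rfl fun i _ => by rw [← hj i, ← pow_mul]
      _ = _ := by
          simp only [sum_units_pow hG hζ]
          rw [Finset.sum_ite, Finset.sum_const, Finset.sum_const, nsmul_eq_mul, nsmul_eq_mul]
          ring
  have hint : IsIntegral ℤ (χ S.u) := CharTheory.IsCharacter.isIntegral hχ' _
  have hp1 : ((p - 1 : ℕ) : ℂ) ≠ 0 := Nat.cast_ne_zero.2 (by have := hG.prime.two_le; omega)
  have hq : χ S.u = ((((na : ℚ) * ((p : ℚ) - 1) - nb) / ((p - 1 : ℕ) : ℚ) : ℚ) : ℂ) := by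
    push_cast
    rw [eq_div_iff hp1, mul_comm, hsum]
  rw [hq] at hint
  obtain ⟨z, hz⟩ := CharTheory.exists_int_of_isIntegral_ratCast hint
  have hzx : χ S.u = (z : ℂ) := by rw [hq, ← hz, Rat.cast_intCast]
  rw [hzx, Nat.cast_sub hG.prime.one_le, Nat.cast_one] at hsum
  have hzI : ((p : ℤ) - 1) * z = (na : ℤ) * ((p : ℤ) - 1) - nb := by exact_mod_cast hsum
  have hn : na + nb = n := by
    rw [hna, hnb, Finset.card_filter_add_card_filter_not, Finset.card_univ, hcard, Module.finrank_fin_fun]
  have hdn : charDegree χ = n := by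
    rw [charDegree, ← hρ, Representation.char_one, Module.finrank_fin_fun, Complex.natCast_re,
      Nat.floor_natCast]
  have hnb0 : nb = 0 := by
    by_contra h
    have hdvd : ((p : ℤ) - 1) ∣ (nb : ℤ) := ⟨(na : ℤ) - z, by linear_combination hzI⟩
    have := Int.le_of_dvd (by omega) hdvd
    omega
  have hz' : z = na := by
    have h1 : ((p : ℤ) - 1) * z = ((p : ℤ) - 1) * na := by rw [hzI, hnb0]; push_cast; ring
    exact mul_left_cancel₀ (by have := hG.prime.two_le; omega) h1
  rw [hzx, hz', ← hρ, Representation.char_one, Module.finrank_fin_fun, show na = n by omega, Int.cast_natCast]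

/-- The degree is the inertial index of the principal block. -/
theorem degree_eq_rowE (hgen : ∀ K : Subgroup G, K.Normal → S.u ∈ K → K = ⊤)
    (hcent : ∀ (v : S.V) (x : G), (v : G) * x = x * (v : G)) (ψ : IrrCharacter G)
    (hn2 : 2 ≤ charDegree (ψ : G → ℂ)) (hnp : 2 * charDegree (ψ : G → ℂ) + 1 ≤ p) :
    rowE S (trivIrr S.V) = charDegree (ψ : G → ℂ) := by
  classical
  obtain ⟨M, hM⟩ := exists_isPModular_of_prime hG.prime
  haveI := isPrime_of_isPModular hM
  haveI := Fintype.ofFinite (IrrCharacter G)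
  set n := charDegree (ψ : G → ℂ) with hn
  obtain ⟨φ, hφ⟩ := (not_dvd_degree_iff hG S hM ψ).1 fun h => by
    have := Nat.le_of_dvd (by omega) h
    omega
  have hsmul : ∀ (y : S.N) (φ' : IrrCharacter S.V), y • φ' = φ' := fun y φ' => (S.smul_eq_iff y _ _).2 fun v => by
    refine congrArg (φ' : S.V → ℂ) (Subtype.ext ?_)
    rw [Sect.conjV_apply, ← hcent v (y : G), mul_inv_cancel_right]
  have horb : MulAction.orbit S.N φ = {φ} := by
    ext η
    rw [MulAction.mem_orbit_iff, Set.mem_singleton_iff]
    exact ⟨fun ⟨y, hy⟩ => by rw [← hy, hsmul], fun h => ⟨1, by rw [h, hsmul]⟩⟩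
  have hφ1 : charDegree (φ : S.V → ℂ) = 1 := by
    obtain ⟨d, hd, hdvd⟩ := exists_degree_dvd_index_of_abelian φ.2 (⊤ : Subgroup S.V)
      fun a _ b _ => Subtype.ext (hcent a b)
    rw [Subgroup.index_top, Nat.dvd_one] at hdvd
    simp [charDegree, hd, hdvd]
  have hgroup : eGroup S φ = eGroup S (trivIrr S.V) := by
    ext k
    exact ⟨fun ⟨y, _, hy⟩ => ⟨y, hsmul y _, hy⟩, fun ⟨y, _, hy⟩ => ⟨y, hsmul y _, hy⟩⟩
  have hrowE : rowE S (trivIrr S.V) = rowE S φ := by rw [rowE, rowE, hgroup]
  rw [hrowE]
  set e := rowE S φ with he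
  have hnfix : galStab hG ψ ≠ p - 1 := fun h => by
    have h1 := eq_trivIrr_of_apply_eq S hgen (apply_eq_of_fixed_small hG S h (by omega))
    rw [hn, h1, show charDegree ((trivIrr G : IrrCharacter G) : G → ℂ) = 1 by
      simp [charDegree, trivIrr]] at hn2
    omega
  obtain ⟨-, θ, -, hθe, hdich, -⟩ := count hG S hM φ
  have hψe : galStab hG ψ = e := by
    rw [galStab_eq hG ((hdich ψ hφ).resolve_right hnfix), hθe]
  have hed : e ∣ p - 1 := rowE_dvd hG S φ
  have he2e : 2 * e ≤ p - 1 := by
    obtain ⟨t, ht⟩ := hed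
    rcases t with _ | _ | t
    · have := hG.prime.two_le; simp at ht; omega
    · exact absurd (hψe.trans (by simpa using ht.symm)) hnfix
    · rw [ht, mul_comm 2 e]; exact Nat.mul_le_mul_left e (by omega)
  obtain ⟨s, hs, hs3⟩ := (rowT_spec hG S hM ψ).1 φ
  have hs0 : s ≠ 0 := fun h0 => hφ (by rw [hs, h0, Int.cast_zero])
  have hd := degree_modEq hG S hM hs hs0
  rw [horb, Nat.card_coe_set_eq, Set.ncard_singleton, hφ1, hψe, ← hn, Nat.cast_one, one_mul, one_mul] at hd
  rcases hs3 with h | h | h
  · exact absurd h hs0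
  · exfalso
    rw [h, mul_one, Int.modEq_iff_dvd] at hd
    have h2 : (p : ℤ) ∣ ((n + e : ℕ) : ℤ) := by
      rw [← dvd_neg]
      refine hd.trans (dvd_of_eq ?_)
      push_cast
      ring
    have := Nat.le_of_dvd (by omega) (Int.natCast_dvd_natCast.1 h2)
    omega
  · rw [h, mul_neg, mul_one, neg_neg, Int.natCast_modEq_iff] at hd
    unfold Nat.ModEq at hd
    rw [Nat.mod_eq_of_lt (by omega), Nat.mod_eq_of_lt (by omega)] at hd
    exact hd.symm

/-- Irreducibility and the inertial index. -/
theorem facts (hgen : ∀ K : Subgroup G, K.Normal → S.u ∈ K → K = ⊤)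
    (hnn : ∀ H : Subgroup G, H.Normal → Nat.card H ≠ p) {χ : G → ℂ} (hχ : IsCharacter G χ)
    (hfaith : ∀ g : G, χ g = χ 1 → g = 1) (hdeg : 2 * charDegree χ + 1 = p) :
    (∀ (v : S.V) (x : G), (v : G) * x = x * (v : G)) ∧ IsIrrCharacter G χ ∧
      rowE S (trivIrr S.V) = charDegree χ ∧ 2 ≤ charDegree χ := by
  classical
  haveI := Fintype.ofFinite (IrrCharacter G)
  have hcent := central_of_small hG S hgen hnn hχ hfaith (by omega)
  obtain ⟨m, hm⟩ := IsCharacter.exists_sum hχ
  have hd : charDegree χ = ∑ x, m x * charDegree (x : G → ℂ) := by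
    have h1 : χ 1 = ((∑ x, m x * charDegree (x : G → ℂ) : ℕ) : ℂ) := by
      rw [congrFun hm 1]
      push_cast
      simp [Finset.sum_apply, charDegree_cast]
    rw [charDegree, h1, Complex.natCast_re, Nat.floor_natCast]
  by_cases hall : ∀ x : IrrCharacter G, m x ≠ 0 → charDegree (x : G → ℂ) = 1
  · exfalso
    have hab : ∀ a b : G, a * b = b * a := by
      intro a b
      have hc : χ (a * b * a⁻¹ * b⁻¹) = χ 1 := by
        rw [congrFun hm, congrFun hm]
        simp only [Finset.sum_apply, Pi.smul_apply, smul_eq_mul]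
        refine Finset.sum_congr rfl fun x _ => ?_
        by_cases hx : m x = 0
        · simp [hx]
        obtain ⟨nd, ρ, hρirr, hρ⟩ := x.2
        have hnd : nd = 1 := by
          rw [← hall x hx, charDegree, ← hρ, Representation.char_one, Module.finrank_fin_fun,
            Complex.natCast_re, Nat.floor_natCast]
        subst hnd
        have hcomm : ρ (a * b * a⁻¹ * b⁻¹) = 1 := by
          have hsc : ∀ f : Module.End ℂ (Fin 1 → ℂ), ∃ r : ℂ, f = r • 1 := fun f =>
            ⟨f 1 0, LinearMap.ext fun w => funext fun i => by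
              obtain rfl : i = 0 := Subsingleton.elim _ _
              have : w = w 0 • (1 : Fin 1 → ℂ) := funext fun i => by
                obtain rfl : i = 0 := Subsingleton.elim _ _
                simp
              conv_lhs => rw [this, map_smul]
              simp [mul_comm]⟩
          obtain ⟨ra, hra⟩ := hsc (ρ a)
          have h : ρ a * ρ b = ρ b * ρ a := by rw [hra, smul_mul_assoc, mul_smul_comm, one_mul, mul_one]
          rw [map_mul, map_mul, map_mul, h, mul_assoc (ρ b), ← map_mul ρ a, mul_inv_cancel, ρ.map_one, mul_one,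
            ← map_mul, mul_inv_cancel, ρ.map_one]
        refine congrArg _ ?_
        rw [← hρ]
        show LinearMap.trace ℂ _ (ρ _) = LinearMap.trace ℂ _ (ρ 1)
        rw [hcomm, ρ.map_one]
      have h1 := hfaith _ hc
      rw [mul_inv_eq_one, mul_inv_eq_iff_eq_mul] at h1
      exact h1
    exact hnn (Subgroup.zpowers S.u) ⟨fun n hn g => by rw [hab g n, mul_inv_cancel_right]; exact hn⟩
      (by rw [Nat.card_zpowers, S.ord])
  · push Not at hall
    obtain ⟨x, hx, hx1⟩ := hall
    have hx0 : charDegree (x : G → ℂ) ≠ 0 := charDegree_ne_zero' x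
    have hle : m x * charDegree (x : G → ℂ) ≤ charDegree χ := by
      rw [hd]
      exact Finset.single_le_sum (f := fun x => m x * charDegree (x : G → ℂ)) (fun _ _ => Nat.zero_le _)
        (Finset.mem_univ x)
    have hle' : charDegree (x : G → ℂ) ≤ charDegree χ :=
      (Nat.le_mul_of_pos_left _ (Nat.pos_of_ne_zero hx)).trans hle
    have heq : charDegree (x : G → ℂ) = charDegree χ := by
      by_contra hne
      exact false_of_small hG S hgen hcent x (by omega) (by omega)
    have hmx : m x = 1 := by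
      rcases Nat.lt_or_ge (m x) 2 with h | h
      · omega
      · have : 2 * charDegree (x : G → ℂ) ≤ charDegree χ := (Nat.mul_le_mul_right _ h).trans hle
        omega
    have hzero : ∀ y : IrrCharacter G, y ≠ x → m y = 0 := by
      intro y hy
      by_contra hmy
      have h2 : m x * charDegree (x : G → ℂ) + m y * charDegree (y : G → ℂ) ≤ charDegree χ := by
        rw [hd, ← Finset.sum_pair (f := fun z => m z * charDegree (z : G → ℂ)) (Ne.symm hy)]
        exact Finset.sum_le_sum_of_subset (Finset.subset_univ _)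
      have : 0 < m y * charDegree (y : G → ℂ) :=
        Nat.mul_pos (Nat.pos_of_ne_zero hmy) (Nat.pos_of_ne_zero (charDegree_ne_zero' y))
      rw [hmx, one_mul] at h2
      omega
    have hχx : χ = (x : G → ℂ) := by
      funext g
      rw [congrFun hm g]
      simp only [Finset.sum_apply, Pi.smul_apply, smul_eq_mul]
      rw [Finset.sum_eq_single x (fun y _ hy => by simp [hzero y hy]) (fun h => absurd (Finset.mem_univ _) h),
        hmx, Nat.cast_one, one_mul]
    exact ⟨hcent, hχx ▸ x.2, by rw [degree_eq_rowE hG S hgen hcent x (by omega) (by omega), heq], by omega⟩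

end CfsgLib.HalfDegree
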