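import Mathlib

/-!
# Relative traces from the normaliser of a subgroup of order `p`

For a subgroup `⟨u⟩` of prime order `p` whose normaliser has index prime to `p`, an endomorphism
commuting with the normaliser differs from an endomorphism commuting with the whole group by a
sum of traces from the trivial group, and such traces lower the filtration by the kernels of the
powers of `u - 1` when `(u - 1) ^ s = 0` with `s < p`.
-/

set_option autoImplicit false
set_option linter.style.haveILetI false
set_option linter.unusedSectionVars false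

namespace CfsgLib.HalfDegree

open Module (End)

variable {κ : Type*} [Field κ] {A : Type*} [AddCommGroup A] [Module κ A]

/-- `f` lowers the filtration by the kernels of the powers of `T`. -/
def Low (T f : End κ A) : Prop := ∀ (a : ℕ) (x : A), (T ^ a) x = 0 → (T ^ (a - 1)) (f x) = 0

theorem Low.zero (T : End κ A) : Low T 0 := fun a x _ => by simp

theorem Low.add {T f g : End κ A} (hf : Low T f) (hg : Low T g) : Low T (f + g) := fun a x h => by
  rw [LinearMap.add_apply, map_add, hf a x h, hg a x h, add_zero]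

theorem Low.neg {T f : End κ A} (hf : Low T f) : Low T (-f) := fun a x h => by
  rw [LinearMap.neg_apply, map_neg, hf a x h, neg_zero]

theorem Low.sub {T f g : End κ A} (hf : Low T f) (hg : Low T g) : Low T (f - g) := by
  rw [sub_eq_add_neg]; exact hf.add hg.neg

theorem Low.smul {T f : End κ A} (c : κ) (hf : Low T f) : Low T (c • f) := fun a x h => by
  rw [LinearMap.smul_apply, map_smul, hf a x h, smul_zero]

theorem Low.sum {ι : Type*} {T : End κ A} (s : Finset ι) (f : ι → End κ A)
    (hf : ∀ i ∈ s, Low T (f i)) : Low T (∑ i ∈ s, f i) := by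
  classical
  induction s using Finset.induction_on with
  | empty => simpa using Low.zero T
  | insert i s hi ih =>
    rw [Finset.sum_insert hi]
    exact (hf i (Finset.mem_insert_self i s)).add (ih fun j hj => hf j (Finset.mem_insert_of_mem hj))

theorem pow_apply_comm {T c : End κ A} (hc : Commute T c) (a : ℕ) (x : A) :
    (T ^ a) (c x) = c ((T ^ a) x) := by
  rw [← Module.End.mul_apply, (hc.pow_left a).eq, Module.End.mul_apply]

theorem Low.mul_left {T f c : End κ A} (hf : Low T f) (hc : Commute T c) : Low T (c * f) := fun a x h => by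
  rw [Module.End.mul_apply, pow_apply_comm hc, hf a x h, map_zero]

theorem Low.mul_right {T f c : End κ A} (hf : Low T f) (hc : Commute T c) : Low T (f * c) := fun a x h => by
  rw [Module.End.mul_apply]
  exact hf a (c x) (by rw [pow_apply_comm hc, h, map_zero])

theorem Low.pow_apply {T f : End κ A} (hf : Low T f) :
    ∀ (k a : ℕ) (x : A), (T ^ a) x = 0 → (T ^ (a - k)) ((f ^ k) x) = 0
  | 0, a, x, h => by simpa using h
  | k + 1, a, x, h => by
    rw [pow_succ', Module.End.mul_apply, ← Nat.sub_sub]
    exact hf _ _ (Low.pow_apply hf k a x h)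

theorem Low.isNilpotent {T f : End κ A} (hf : Low T f) {s : ℕ} (hT : T ^ s = 0) : IsNilpotent f := by
  refine ⟨s, LinearMap.ext fun x => ?_⟩
  have h := hf.pow_apply s s x (by rw [hT, LinearMap.zero_apply])
  simpa using h

/-- The iterated commutator with `T`. -/
def delta (T f : End κ A) : ℕ → End κ A
  | 0 => f
  | n + 1 => T * delta T f n - delta T f n * T

theorem pow_add_apply_zero {T : End κ A} {a b : ℕ} {x : A} (h : a ≤ b) (h0 : (T ^ a) x = 0) :
    (T ^ b) x = 0 := by
  obtain ⟨c, rfl⟩ := Nat.exists_eq_add_of_le h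
  rw [add_comm, pow_add, Module.End.mul_apply, h0, map_zero]

theorem delta_apply {T : End κ A} {s : ℕ} (hT : T ^ s = 0) (f : End κ A) :
    ∀ (n a : ℕ) (x : A), (T ^ a) x = 0 → (T ^ (a + s - 1 - n)) (delta T f n x) = 0 := by
  intro n
  induction n with
  | zero =>
    intro a x hx
    rcases Nat.eq_zero_or_pos a with rfl | ha
    · rw [pow_zero, Module.End.one_apply] at hx
      simp [hx]
    · exact pow_add_apply_zero (show s ≤ a + s - 1 - 0 by omega) (by rw [hT, LinearMap.zero_apply])
  | succ n ih =>
    intro a x hx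
    rcases Nat.eq_zero_or_pos a with rfl | ha
    · rw [pow_zero, Module.End.one_apply] at hx
      simp [hx]
    rw [delta, LinearMap.sub_apply, map_sub, Module.End.mul_apply, Module.End.mul_apply,
      ← Module.End.mul_apply (T ^ _) T, ← pow_succ]
    rw [pow_add_apply_zero (show a + s - 1 - n ≤ a + s - 1 - (n + 1) + 1 by omega) (ih a x hx),
      pow_add_apply_zero (show a - 1 + s - 1 - n ≤ a + s - 1 - (n + 1) by omega)
        (ih (a - 1) (T x) (by
          rw [← Module.End.mul_apply, ← pow_succ, Nat.sub_add_cancel ha]; exact hx)), sub_zero]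

variable {p : ℕ} [hp : Fact p.Prime] [CharP κ p]

theorem sum_pow_eq (B : Type*) [Ring B] [Algebra κ B] (b : B) :
    ∑ i ∈ Finset.range p, b ^ i = (b - 1) ^ (p - 1) := by
  open Polynomial in
  have h : (∑ i ∈ Finset.range p, (X : κ[X]) ^ i) = (X - 1) ^ (p - 1) := by
    refine mul_right_cancel₀ (X_sub_C_ne_zero (1 : κ)) ?_
    rw [map_one, geom_sum_mul, ← pow_succ, Nat.sub_add_cancel hp.out.one_le, sub_pow_char, one_pow]
  have := congrArg (Polynomial.aeval b) h
  simpa using this

/-- The trace from the trivial subgroup. -/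
theorem low_trace {U U' : End κ A} (h1 : U * U' = 1) (h2 : U' * U = 1) {s : ℕ}
    (hT : (U - 1) ^ s = 0) (hs : s < p) (f : End κ A) :
    Low (U - 1) (∑ i ∈ Finset.range p, U ^ i * f * U' ^ i) ∧
      (2 * s ≤ p → ∑ i ∈ Finset.range p, U ^ i * f * U' ^ i = 0) := by
  set T := U - 1 with hTdef
  set L : End κ (End κ A) := LinearMap.mulLeft κ U * LinearMap.mulRight κ U' with hL
  have hL1 : ∀ g, L g = U * g * U' := fun g => by
    simp [hL, Module.End.mul_apply, mul_assoc]
  have hLi : ∀ i, (L ^ i) f = U ^ i * f * U' ^ i := by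
    intro i
    induction i with
    | zero => simp
    | succ i ih =>
      rw [pow_succ', Module.End.mul_apply, ih, hL1, pow_succ' U, pow_succ U']
      simp only [mul_assoc]
  have hTU : Commute T U' := by
    show (U - 1) * U' = U' * (U - 1)
    rw [sub_mul, mul_sub, h1, h2, one_mul, mul_one]
  have hd : ∀ n, ((L - 1) ^ n) f = delta T f n * U' ^ n := by
    intro n
    induction n with
    | zero => simp [delta]
    | succ n ih =>
      rw [pow_succ' (L - 1), Module.End.mul_apply, ih, LinearMap.sub_apply, Module.End.one_apply, hL1,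
        delta, pow_succ' U']
      set D := delta T f n
      have e : U * (D * U' ^ n) * U' - D * U' ^ n = (U * D - D * U) * (U' * U' ^ n) := by
        rw [sub_mul, mul_assoc D U, ← mul_assoc U U', h1, one_mul, mul_assoc U, mul_assoc D,
          (Commute.self_pow U' n).symm.eq, mul_assoc U]
      rw [e, hTdef, sub_mul U, mul_sub D U, one_mul, mul_one]
      congr 1
      abel
  have key : ∑ i ∈ Finset.range p, U ^ i * f * U' ^ i = delta T f (p - 1) * U' ^ (p - 1) := by
    rw [← hd, ← sum_pow_eq (κ := κ), LinearMap.sum_apply]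
    exact Finset.sum_congr rfl fun i _ => (hLi i).symm
  have hk : ∀ (a : ℕ) (x : A), (T ^ a) x = 0 →
      (T ^ (a + s - 1 - (p - 1))) ((∑ i ∈ Finset.range p, U ^ i * f * U' ^ i) x) = 0 := fun a x h => by
    rw [key, Module.End.mul_apply]
    exact delta_apply hT f (p - 1) a _ (by rw [pow_apply_comm (hTU.pow_right _), h, map_zero])
  refine ⟨fun a x h => pow_add_apply_zero (by have := hp.out.one_le; omega) (hk a x h),
    fun h2s => LinearMap.ext fun x => ?_⟩
  have h := hk s x (by rw [hT, LinearMap.zero_apply])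
  rwa [show s + s - 1 - (p - 1) = 0 by have := hp.out.one_le; omega, pow_zero, Module.End.one_apply] at h

variable {X : Type*} [Group X] [Finite X]

/-- The transfer of an endomorphism commuting with the normaliser of `⟨u⟩`. -/
theorem exists_transfer (σ : X →* End κ A) {u : X} (hu : orderOf u = p)
    (hidx : ¬ p ∣ (Subgroup.zpowers u).index) {s : ℕ} (hT : (σ u - 1) ^ s = 0) (hs : s < p)
    {f : End κ A} (hf : ∀ n ∈ Subgroup.normalizer ((Subgroup.zpowers u : Subgroup X) : Set X), Commute (σ n) f) :
    ∃ E : End κ A, (∀ g : X, Commute (σ g) E) ∧ Low (σ u - 1) (E - f) ∧ (2 * s ≤ p → E = f) ∧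
      ∀ Q : LinearMap.BilinForm κ A, (∀ (g : X) x y, Q (σ g x) (σ g y) = Q x y) →
        (∀ x y, Q (f x) y = Q x (f y)) → ∀ x y, Q (E x) y = Q x (E y) := by
  classical
  set P := Subgroup.zpowers u with hP
  set N := Subgroup.normalizer ((P : Subgroup X) : Set X) with hN
  haveI : Fintype (X ⧸ P) := Fintype.ofFinite _
  have hPN : P ≤ N := Subgroup.le_normalizer
  let C : X → End κ A := fun g => σ g * f * σ g⁻¹
  have hCn : ∀ g, ∀ n ∈ N, C (g * n) = C g := fun g n hn => by
    show σ (g * n) * f * σ (g * n)⁻¹ = _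
    rw [mul_inv_rev, map_mul, map_mul, mul_assoc (σ g), (hf n hn).eq]
    simp only [C, mul_assoc]
    rw [← mul_assoc (σ n), ← map_mul, mul_inv_cancel, map_one, one_mul]
  let F : X ⧸ P → End κ A := Quotient.lift C fun a b h => by
    have hm : a⁻¹ * b ∈ N := hPN (QuotientGroup.leftRel_apply.1 h)
    rw [← hCn a _ hm, mul_inv_cancel_left]
  have hF : ∀ g : X, F (g : X ⧸ P) = C g := fun g => rfl
  have hCmul : ∀ g h, C (g * h) = σ g * C h * σ g⁻¹ := fun g h => by
    simp only [C, mul_inv_rev, map_mul, mul_assoc]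
  have hFs : ∀ (g : X) (q : X ⧸ P), F (g • q) = σ g * F q * σ g⁻¹ := fun g q => by
    induction q using QuotientGroup.induction_on with
    | H h => exact hCmul g h
  set E₀ : End κ A := ∑ q, F q with hE₀
  have hE₀c : ∀ g : X, Commute (σ g) E₀ := fun g => by
    have h : σ g * E₀ * σ g⁻¹ = E₀ := by
      rw [hE₀, Finset.mul_sum, Finset.sum_mul]
      simp only [← hFs]
      exact Equiv.sum_comp (MulAction.toPerm g) F
    show σ g * E₀ = E₀ * σ g
    conv_rhs => rw [← h, mul_assoc, ← map_mul, inv_mul_cancel, map_one, mul_one]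
  set fx : Finset (X ⧸ P) := Finset.univ.filter fun q => u • q = q with hfx
  have hfix : ∀ q ∈ fx, F q = f := fun q hq => by
    induction q using QuotientGroup.induction_on with
    | H h =>
      have hm : h⁻¹ * u * h ∈ P := by
        have := QuotientGroup.eq.1 (Finset.mem_filter.1 hq).2.symm
        simpa [mul_assoc] using this
      have hnorm : h⁻¹ ∈ N := by
        rw [hN]
        refine Subgroup.mem_normalizer_fintype ?_
        intro x hx
        obtain ⟨i, rfl⟩ := Subgroup.mem_zpowers_iff.1 hx
        rw [← conj_zpow, inv_inv]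
        exact Subgroup.zpow_mem _ hm i
      rw [hF]
      have := hCn 1 h (inv_inv h ▸ inv_mem hnorm)
      rw [one_mul] at this
      rw [this]
      simp [C]
  -- the moved cosets
  set mv : Finset (X ⧸ P) := Finset.univ.filter fun q => ¬ u • q = q with hmv
  let orb : X ⧸ P → Finset (X ⧸ P) := fun q => (Finset.range p).image fun i => u ^ i • q
  have hup : u ^ p = 1 := hu ▸ pow_orderOf_eq_one u
  have hperiod : ∀ (q : X ⧸ P) (i : ℕ), u ^ i • q = u ^ (i % p) • q := fun q i => by
    conv_lhs => rw [← Nat.mod_add_div i p, pow_add, pow_mul, hup, one_pow, mul_one]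
  have hfree : ∀ q ∈ mv, ∀ i j, i < p → j < p → u ^ i • q = u ^ j • q → i = j := by
    have key : ∀ q ∈ mv, ∀ i j, i ≤ j → j < p → u ^ i • q = u ^ j • q → i = j := by
      intro q hq i j hij hj h
      by_contra hne
      obtain ⟨k, rfl⟩ := Nat.exists_eq_add_of_le hij
      rw [pow_add, mul_smul, smul_left_cancel_iff] at h
      have hk : Nat.Coprime k p := (hp.out.coprime_iff_not_dvd.2 fun hd => by
        have := Nat.le_of_dvd (by omega) hd
        omega).symm
      obtain ⟨m, -, hm⟩ := Nat.exists_mul_mod_eq_one_of_coprime hk hp.out.one_lt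
      refine (Finset.mem_filter.1 hq).2 ?_
      have : ∀ m : ℕ, u ^ (k * m) • q = q := by
        intro m
        induction m with
        | zero => simp
        | succ m ih => rw [Nat.mul_succ, pow_add, mul_smul, ← h, ih]
      have h1 := this m
      rwa [hperiod, hm, pow_one] at h1
    intro q hq i j hi hj h
    rcases le_total i j with h' | h'
    · exact key q hq i j h' hj h
    · exact (key q hq j i h' hi h.symm).symm
  have horb : ∀ q ∈ mv, ∀ r ∈ mv, (orb r = orb q ↔ r ∈ orb q) := by
    intro q _ r _
    constructor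
    · intro h
      rw [← h]
      exact Finset.mem_image.2 ⟨0, Finset.mem_range.2 hp.out.pos, by rw [pow_zero, one_smul]⟩
    · intro h
      obtain ⟨i, hi, rfl⟩ := Finset.mem_image.1 h
      ext z
      simp only [orb, Finset.mem_image, Finset.mem_range]
      constructor
      · rintro ⟨j, -, rfl⟩
        exact ⟨(j + i) % p, Nat.mod_lt _ hp.out.pos, by rw [← hperiod, pow_add, mul_smul]⟩
      · rintro ⟨j, -, rfl⟩
        refine ⟨(j + (p - i)) % p, Nat.mod_lt _ hp.out.pos, ?_⟩
        rw [← hperiod, pow_add, mul_smul, ← mul_smul (u ^ (p - i)), ← pow_add,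
          Nat.sub_add_cancel (Finset.mem_range.1 hi).le, hup, one_smul]
  have hmvstab : ∀ q ∈ mv, orb q ⊆ mv := by
    intro q hq z hz
    obtain ⟨i, -, rfl⟩ := Finset.mem_image.1 hz
    refine Finset.mem_filter.2 ⟨Finset.mem_univ _, fun h => (Finset.mem_filter.1 hq).2 ?_⟩
    rw [← mul_smul, ← pow_succ', pow_succ, mul_smul, smul_left_cancel_iff] at h
    exact h
  have hlowmv : Low (σ u - 1) (∑ q ∈ mv, F q) ∧ (2 * s ≤ p → ∑ q ∈ mv, F q = 0) := by
    rw [← Finset.sum_fiberwise_of_maps_to (g := orb) (t := mv.image orb)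
      (fun q hq => Finset.mem_image_of_mem _ hq)]
    have hterm : ∀ O ∈ mv.image orb, Low (σ u - 1) (∑ q ∈ mv.filter (fun q => orb q = O), F q) ∧
        (2 * s ≤ p → ∑ q ∈ mv.filter (fun q => orb q = O), F q = 0) := by
      intro O hO
      obtain ⟨q, hq, rfl⟩ := Finset.mem_image.1 hO
      have hset : (mv.filter fun r => orb r = orb q) = orb q := by
        ext r
        rw [Finset.mem_filter]
        exact ⟨fun h => (horb q hq r h.1).1 h.2, fun h => ⟨hmvstab q hq h, (horb q hq r (hmvstab q hq h)).2 h⟩⟩
      rw [hset, Finset.sum_image fun i hi j hj h =>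
        hfree q hq i j (Finset.mem_range.1 hi) (Finset.mem_range.1 hj) h]
      have e : ∀ i : ℕ, F (u ^ i • q) = σ u ^ i * F q * σ u⁻¹ ^ i := fun i => by
        rw [hFs, map_pow, ← inv_pow, map_pow]
      simp only [e]
      exact low_trace (by rw [← map_mul, mul_inv_cancel, map_one]) (by rw [← map_mul, inv_mul_cancel, map_one])
        hT hs (F q)
    exact ⟨Low.sum _ _ fun O hO => (hterm O hO).1,
      fun h => Finset.sum_eq_zero fun O hO => (hterm O hO).2 h⟩
  have hsplit : E₀ = (fx.card : κ) • f + ∑ q ∈ mv, F q := by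
    rw [hE₀, ← Finset.sum_filter_add_sum_filter_not Finset.univ (fun q => u • q = q),
      Finset.sum_congr rfl hfix, Finset.sum_const, Nat.cast_smul_eq_nsmul]
  have hm : (fx.card : κ) ≠ 0 := by
    intro h0
    have h0' : p ∣ fx.card := (CharP.cast_eq_zero_iff κ p _).1 h0
    refine hidx ?_
    rw [Subgroup.index, Nat.card_eq_fintype_card, ← Finset.card_univ,
      ← Finset.card_filter_add_card_filter_not (s := (Finset.univ : Finset (X ⧸ P))) (fun q => u • q = q)]
    refine dvd_add h0' ?_
    rw [Finset.card_eq_sum_card_fiberwise (f := orb) (t := mv.image orb)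
      (fun q hq => Finset.mem_image_of_mem _ hq)]
    refine Finset.dvd_sum fun O hO => ?_
    obtain ⟨q, hq, rfl⟩ := Finset.mem_image.1 hO
    have hset : (mv.filter fun r => orb r = orb q) = orb q := by
      ext r
      rw [Finset.mem_filter]
      exact ⟨fun h => (horb q hq r h.1).1 h.2, fun h => ⟨hmvstab q hq h, (horb q hq r (hmvstab q hq h)).2 h⟩⟩
    rw [hset,
      Finset.card_image_of_injOn fun i hi j hj h =>
        hfree q hq i j (Finset.mem_range.1 hi) (Finset.mem_range.1 hj) h, Finset.card_range]
  refine ⟨(fx.card : κ)⁻¹ • E₀, fun g => (hE₀c g).smul_right _, ?_, ?_, ?_⟩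
  · have e : (fx.card : κ)⁻¹ • E₀ - f = (fx.card : κ)⁻¹ • ∑ q ∈ mv, F q := by
      rw [hsplit, smul_add, inv_smul_smul₀ hm, add_sub_cancel_left]
    rw [e]
    exact hlowmv.1.smul _
  · intro h
    rw [hsplit, hlowmv.2 h, add_zero, inv_smul_smul₀ hm]
  · intro Q hQ hfQ x y
    have hC : ∀ g x y, Q (C g x) y = Q x (C g y) := fun g x y => by
      have e1 : ∀ z, σ g (σ g⁻¹ z) = z := fun z => by
        rw [← Module.End.mul_apply, ← map_mul, mul_inv_cancel, map_one, Module.End.one_apply]
      simp only [C, Module.End.mul_apply]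
      conv_lhs => rw [← e1 y, hQ, hfQ]
      conv_rhs => rw [← e1 x, hQ]
    have hFQ : ∀ q x y, Q (F q x) y = Q x (F q y) := fun q => by
      induction q using QuotientGroup.induction_on with
      | H h => exact hC h
    simp only [LinearMap.smul_apply, map_smul, hE₀, LinearMap.sum_apply, map_sum, hFQ]

/-- Lifting an idempotent modulo the endomorphisms lowering the filtration. -/
theorem exists_idempotent {T π E : End κ A} {s : ℕ} (hT : T ^ s = 0) (hπ : IsIdempotentElem π)
    (hπT : Commute T π) (hET : Commute T E) (hlow : Low T (E - π)) :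
    ∃ ε : End κ A, IsIdempotentElem ε ∧ (∀ c : End κ A, Commute c E → Commute c ε) ∧
      (∀ Q : LinearMap.BilinForm κ A, (∀ x y, Q (E x) y = Q x (E y)) → ∀ x y, Q (ε x) y = Q x (ε y)) ∧
      ∃ w : End κ A, IsUnit w ∧ Commute T w ∧ ε * w = w * π := by
  have hsq : Low T (E * (1 - E)) := by
    have e : E * (1 - E) = (E - π) - ((E - π) * E + π * (E - π)) := by
      have : π * π = π := hπ
      rw [sub_mul, mul_sub π, this, mul_sub, mul_one]
      abel
    rw [e]
    exact hlow.sub ((hlow.mul_right hET).add (hlow.mul_left hπT))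
  obtain ⟨n₀, hn₀⟩ := hsq.isNilpotent hT
  set n := n₀ + 1 with hn
  have hnil : (E * (1 - E)) ^ n = 0 := by rw [hn, pow_succ, hn₀, zero_mul]
  have hcE : Commute E (1 - E) := (Commute.one_right E).sub_right (Commute.refl E)
  have hpow : ∀ k, Low T (E ^ (k + 1) - π) := by
    intro k
    induction k with
    | zero => simpa using hlow
    | succ k ih =>
      have e : E ^ (k + 2) - π = (E ^ (k + 1) - π) * E + π * (E - π) := by
        have : π * π = π := hπ
        rw [sub_mul, mul_sub π, this, ← pow_succ]
        abel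
      rw [e]
      exact (ih.mul_right hET).add (hlow.mul_left hπT)
  have h1π : IsIdempotentElem (1 - π) := hπ.one_sub
  have hF : Low T ((1 - E ^ n) - (1 - π)) := by
    rw [sub_sub_sub_cancel_left, ← neg_sub]
    exact (hpow n₀).neg
  have hFn : ∀ k, Low T ((1 - E ^ n) ^ (k + 1) - (1 - π)) := by
    intro k
    induction k with
    | zero => simpa using hF
    | succ k ih =>
      have e : (1 - E ^ n) ^ (k + 2) - (1 - π) =
          ((1 - E ^ n) ^ (k + 1) - (1 - π)) * (1 - E ^ n) + (1 - π) * ((1 - E ^ n) - (1 - π)) := by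
        generalize 1 - E ^ n = a
        have hb : (1 - π) * (1 - π) = 1 - π := h1π
        generalize 1 - π = b at hb ⊢
        rw [sub_mul, mul_sub, hb, ← pow_succ]
        abel
      rw [e]
      exact (ih.mul_right ((Commute.one_right T).sub_right (hET.pow_right n))).add
        (hF.mul_left ((Commute.one_right T).sub_right hπT))
  set ε := 1 - (1 - E ^ n) ^ n with hε
  have hcomm : ∀ c : End κ A, Commute c E → Commute c ε := fun c hc =>
    (Commute.one_right c).sub_right (((Commute.one_right c).sub_right (hc.pow_right n)).pow_right n)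
  have hεlow : Low T (ε - π) := by
    have e : ε - π = -((1 - E ^ n) ^ n - (1 - π)) := by rw [hε]; abel
    rw [e]
    exact (hFn n₀).neg
  have hidem : IsIdempotentElem ε := by
    obtain ⟨R, hR1, hR2⟩ : ∃ R, ε = E ^ n * R ∧ Commute (1 - E) R := by
      refine ⟨∑ i ∈ Finset.range n, (1 - E ^ n) ^ i, ?_, Commute.sum_right _ _ _ fun i _ => ?_⟩
      · have h := mul_neg_geom_sum (1 - E ^ n) n
        rw [sub_sub_cancel] at h
        exact h.symm
      · exact ((Commute.one_right _).sub_right
          (((Commute.one_left E).sub_left (Commute.refl E)).pow_right n)).pow_right i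
    obtain ⟨S, hS⟩ : ∃ S, 1 - ε = (1 - E) ^ n * S := by
      refine ⟨(∑ i ∈ Finset.range n, E ^ i) ^ n, ?_⟩
      rw [hε, sub_sub_cancel, ← mul_neg_geom_sum E n]
      exact (Commute.sum_right _ _ _ fun i _ => hcE.symm.pow_right i).mul_pow n
    show ε * ε = ε
    have h0 : ε * (1 - ε) = 0 := by
      rw [hS, hR1, ← mul_assoc, mul_assoc (E ^ n) R, ← (hR2.pow_left n).eq, ← mul_assoc (E ^ n),
        ← hcE.mul_pow, hnil, zero_mul, zero_mul]
    rw [mul_sub, mul_one, sub_eq_zero] at h0
    exact h0.symm
  refine ⟨ε, hidem, hcomm, fun Q hQ x y => ?_, ε * π + (1 - ε) * (1 - π), ?_, ?_, ?_⟩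
  · have hpowQ : ∀ (g : End κ A), (∀ x y, Q (g x) y = Q x (g y)) → ∀ k x y, Q ((g ^ k) x) y = Q x ((g ^ k) y) := by
      intro g hg k
      induction k with
      | zero => simp
      | succ k ih =>
        intro x y
        conv_lhs => rw [pow_succ, Module.End.mul_apply, ih, hg]
        rw [← Module.End.mul_apply g, ← pow_succ']
    have hG : ∀ x y, Q ((1 - E ^ n) x) y = Q x ((1 - E ^ n) y) := fun x y => by
      simp only [LinearMap.sub_apply, Module.End.one_apply, map_sub, hpowQ E hQ n x y]
    simp only [hε, LinearMap.sub_apply, Module.End.one_apply, map_sub, hpowQ _ hG n x y]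
  · have hπ' : π * π = π := hπ
    have e : ε * π + (1 - ε) * (1 - π) = 1 + (ε - π) * (π + π - 1) := by
      simp only [sub_mul, mul_sub, mul_add, one_mul, mul_one, hπ']
      abel
    rw [e]
    exact ((hεlow.mul_right ((hπT.add_right hπT).sub_right (Commute.one_right T))).isNilpotent hT).isUnit_one_add
  · exact ((hcomm T hET).mul_right hπT).add_right
      (((Commute.one_right T).sub_right (hcomm T hET)).mul_right ((Commute.one_right T).sub_right hπT))
  · have hπ' : π * π = π := hπ
    have hε' : ε * ε = ε := hidem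
    simp only [mul_add, add_mul, sub_mul, mul_sub, one_mul, mul_one, ← mul_assoc, hε']
    simp only [mul_assoc, hπ']
    abel

end CfsgLib.HalfDegree
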