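import Cfsg.Agent.Lib.HalfDegree.Bound
import Cfsg.Agent.S0732

/-!
# A faithful character of degree `(p - 1) / 2`
-/

set_option autoImplicit false
set_option linter.style.haveILetI false
set_option linter.unusedSectionVars false

open Cfsg CfsgLib.Blocks CfsgLib.CharTheory CfsgLib.DefectOne

namespace CfsgLib.HalfDegree

theorem two_mul_add_two_lt : ∀ q : ℕ, 4 ≤ q → 2 * q + 2 < 2 ^ q := by
  intro q hq
  induction q, hq using Nat.le_induction with
  | base => norm_num
  | succ q _ ih => rw [pow_succ]; omega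

/-- The semilinear case does not occur. -/
theorem false_of_semiaffine {X : Type*} [Group X] {R : Type} [Field R] [Finite R] [CharP R 2]
    {p : ℕ} [hp : Fact p.Prime] (hp3 : 2 < p)
    (f : X →* Equiv.Perm R) (hmem : ∀ g, f g ∈ semiaffineGroup R)
    (hAut : Nat.card (R ≃+* R) < p) {u y : X} (hu : orderOf u = p)
    (hy : y ∈ Subgroup.closure {x : X | orderOf x = p}) {j : ℕ} (hj : y * u * y⁻¹ = u ^ j)
    (hker : ∀ i : ℕ, f (u ^ i) = 1 → p ∣ i) : (j : ZMod p) = 1 := by
  classical
  choose a b φ hf using hmem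
  have huniq : ∀ (g : X) (c d : R) (ψ : R ≃+* R), (∀ x, f g x = c * ψ x + d) →
      (a g : R) = c ∧ φ g = ψ := by
    intro g c d ψ h
    have h0 : b g = d := by simpa using (hf g 0).symm.trans (h 0)
    have h1 : (a g : R) = c := by simpa [h0] using (hf g 1).symm.trans (h 1)
    refine ⟨h1, RingEquiv.ext fun x => ?_⟩
    have := (hf g x).symm.trans (h x)
    rw [h0, h1, add_left_inj] at this
    exact mul_left_cancel₀ (h1 ▸ (a g).ne_zero) this
  have hone : (a 1 : R) = 1 ∧ φ 1 = RingEquiv.refl R := huniq 1 1 0 (RingEquiv.refl R) fun x => by simp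
  have hmul : ∀ g h, (a (g * h) : R) = a g * φ g (a h) ∧ φ (g * h) = (φ h).trans (φ g) := fun g h =>
    huniq _ _ (a g * φ g (b h) + b g) _ fun x => by
      rw [map_mul, Equiv.Perm.mul_apply, hf, hf, map_add, map_mul, RingEquiv.coe_trans, Function.comp_apply]
      ring
  let M : X →* RingAut R :=
    { toFun := φ, map_one' := hone.2, map_mul' := fun g h => (hmul g h).2 }
  have hM : ∀ x ∈ Subgroup.closure {x : X | orderOf x = p}, φ x = RingEquiv.refl R := by
    intro x hx
    show M x = 1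
    refine MonoidHom.mem_ker.1 ((Subgroup.closure_le M.ker).2 (fun z hz => ?_) hx)
    rw [SetLike.mem_coe, MonoidHom.mem_ker]
    rcases (Nat.dvd_prime hp.out).1 (hz ▸ orderOf_map_dvd M z) with h | h
    · exact orderOf_eq_one_iff.1 h
    · exfalso
      haveI : Finite (RingAut R) := Finite.of_injective (fun σ : RingAut R => (σ : R → R)) DFunLike.coe_injective
      have h' : orderOf (M z) ≤ Nat.card (R ≃+* R) := orderOf_le_card
      omega
  have huc : u ∈ Subgroup.closure {x : X | orderOf x = p} := Subgroup.subset_closure hu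
  set c := y * u * y⁻¹ * u⁻¹ with hc
  have hyi : y⁻¹ ∈ Subgroup.closure {x : X | orderOf x = p} := inv_mem hy
  have hmul' : ∀ g ∈ Subgroup.closure {x : X | orderOf x = p}, ∀ h,
      (a (g * h) : R) = a g * a h := fun g hg h => by
    rw [(hmul g h).1, hM g hg, RingEquiv.refl_apply]
  have hinv : ∀ g ∈ Subgroup.closure {x : X | orderOf x = p}, (a g : R) * a g⁻¹ = 1 := fun g hg => by
    rw [← hmul' g hg, mul_inv_cancel]; exact hone.1
  have hac : (a c : R) = 1 := by
    rw [hc, hmul' _ (mul_mem (mul_mem hy huc) hyi), hmul' _ (mul_mem hy huc), hmul' _ hy]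
    linear_combination (a y : R) * (a y⁻¹ : R) * hinv u huc + hinv y hy
  have hcmem : c ∈ Subgroup.closure {x : X | orderOf x = p} :=
    mul_mem (mul_mem (mul_mem hy huc) hyi) (inv_mem huc)
  have hfc : f (c ^ 2) = 1 := by
    refine Equiv.ext fun x => ?_
    rw [pow_two, map_mul, Equiv.Perm.mul_apply, hf, hf, hac, hM c hcmem, RingEquiv.refl_apply,
      RingEquiv.refl_apply, one_mul, one_mul, add_assoc, CharTwo.add_self_eq_zero, add_zero]
    rfl
  rcases Nat.eq_zero_or_pos j with rfl | hjpos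
  · rw [pow_zero, mul_inv_eq_one, mul_eq_left] at hj
    rw [hj, orderOf_one] at hu
    exact absurd hu.symm hp.out.ne_one
  have hcu : c = u ^ (j - 1) := by
    rw [hc, hj]
    conv_lhs => rw [← Nat.sub_add_cancel hjpos, pow_succ, mul_inv_cancel_right]
  rw [hcu, ← pow_mul] at hfc
  have hd : p ∣ j - 1 := by
    refine ((hp.out.dvd_mul).1 (hker _ hfc)).resolve_right fun h => ?_
    have := Nat.le_of_dvd two_pos h
    omega
  have := (ZMod.natCast_eq_zero_iff (j - 1) p).2 hd
  rwa [Nat.cast_sub hjpos, Nat.cast_one, sub_eq_zero] at this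

/-- A group with at most `p + 1` Sylow subgroups of order `p` and inertial index `(p - 1) / 2`. -/
theorem psl_of_sylow_le {G : Type*} [Group G] [Finite G] {p : ℕ} [hp : Fact p.Prime]
    (hdiv : p ∣ Nat.card G) (hsq : ¬ p ^ 2 ∣ Nat.card G) (hnn : ∀ H : Subgroup G, H.Normal → Nat.card H ≠ p)
    {χ : G → ℂ} (hχ : IsCharacter G χ) (hfaith : ∀ g : G, χ g = χ 1 → g = 1)
    (hdeg : charDegree χ + 1 < p) (hdeg2 : 2 ≤ charDegree χ) {e : ℕ} (hep : 2 * e + 1 = p) (he2 : 2 ≤ e)
    (hfacts : ∀ (_ : Fintype (Subgroup.closure {x : G | orderOf x = p}))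
      (S' : Sect (Subgroup.closure {x : G | orderOf x = p}) p),
      ExactPrime (Subgroup.closure {x : G | orderOf x = p}) p →
      (∀ L : Subgroup (Subgroup.closure {x : G | orderOf x = p}), L.Normal → S'.u ∈ L → L = ⊤) →
      (∀ H : Subgroup (Subgroup.closure {x : G | orderOf x = p}), H.Normal → Nat.card H ≠ p) →
      IsCharacter (Subgroup.closure {x : G | orderOf x = p}) (fun k => χ k) →
      (∀ k : Subgroup.closure {x : G | orderOf x = p},
        χ k = χ ((1 : Subgroup.closure {x : G | orderOf x = p}) : G) → k = 1) →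
      IsIrrCharacter (Subgroup.closure {x : G | orderOf x = p}) (fun k => χ k) ∧
        rowE S' (trivIrr S'.V) = e ∧ Nat.card (Sylow p (Subgroup.closure {x : G | orderOf x = p})) ≤ p + 1) :
    Nonempty ((G ⧸ Subgroup.center G) ≃* Matrix.ProjectiveSpecialLinearGroup (Fin 2) (ZMod p)) := by
  classical
  haveI := Fintype.ofFinite G
  have hG : ExactPrime G p := ⟨hp.out, hdiv, hsq⟩
  obtain ⟨u, hu⟩ := exists_prime_orderOf_dvd_card' (G := G) p hdiv
  obtain ⟨S, rfl⟩ := exists_sect hG hu
  set A : Set G := {x | orderOf x = p} with hA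
  set K := Subgroup.closure A with hK
  haveI : Fintype K := Fintype.ofFinite _
  obtain ⟨hKG, S', hS', hgen', hnn', hχ', hfaith'⟩ := exists_setup hG hnn hχ hfaith hu inferInstance
  obtain ⟨hirr, he, hnK⟩ := hfacts inferInstance S' hKG hgen' hnn' hχ' hfaith'
  have hp5 : 5 ≤ p := by omega
  have hfac := factorization_eq_one hG
  let P₀ : Sylow p G := Sylow.ofCard (Subgroup.zpowers S.u) (by rw [Nat.card_zpowers, S.ord, hfac, pow_one])
  have hQcard : ∀ Q : Sylow p G, Nat.card Q = p := fun Q => by rw [Q.card_eq_multiplicity, hfac, pow_one]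
  have hQK : ∀ Q : Sylow p G, (Q : Subgroup G) ≤ K := by
    intro Q x hx
    by_cases h1 : x = 1
    · rw [h1]; exact Subgroup.one_mem _
    refine Subgroup.subset_closure (show orderOf x = p from ?_)
    rcases (Nat.dvd_prime hp.out).1 (hQcard Q ▸ Subgroup.orderOf_dvd_natCard _ hx) with h | h
    · exact absurd (orderOf_eq_one_iff.1 h) h1
    · exact h
  -- the number of Sylow subgroups
  have hn : Nat.card (Sylow p G) = p + 1 := by
    have hle : Nat.card (Sylow p G) ≤ p + 1 := by
      refine le_trans (Nat.card_le_card_of_injective (fun Q => Q.subtype (hQK Q)) fun Q Q' h => ?_) hnK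
      have h' := congrArg (fun T : Sylow p K => (T : Subgroup K).map K.subtype) h
      simp only [Sylow.coe_subtype, Subgroup.subgroupOf_map_subtype, inf_eq_left.2 (hQK Q),
        inf_eq_left.2 (hQK Q')] at h'
      exact Sylow.ext h'
    have hne : Nat.card (Sylow p G) ≠ 1 := fun h => by
      haveI : Subsingleton (Sylow p G) := (Nat.card_eq_one_iff_unique.1 h).1
      exact hnn (P₀ : Subgroup G) P₀.normal_of_subsingleton (hQcard P₀)
    have hmod := card_sylow_modEq_one p G
    have hpos : 0 < Nat.card (Sylow p G) := Nat.card_pos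
    by_contra hne'
    rw [Nat.ModEq, Nat.mod_eq_of_lt hp.out.one_lt] at hmod
    rcases Nat.lt_or_ge (Nat.card (Sylow p G)) p with h | h
    · rw [Nat.mod_eq_of_lt h] at hmod; omega
    · rw [show Nat.card (Sylow p G) = p by omega, Nat.mod_self] at hmod; omega
  haveI : Fintype (Sylow p G) := Fintype.ofFinite _
  set φ := MulAction.toPermHom G (Sylow p G) with hφ
  have hfix : ∀ Q : Sylow p G, S.u • Q = Q → Q = P₀ := by
    intro Q hQ
    have hm : S.u ∈ Subgroup.normalizer ((Q : Subgroup G) : Set G) := Sylow.smul_eq_iff_mem_normalizer.1 hQ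
    have hPQ : (P₀ : Subgroup G) ≤ Q := by
      have h := P₀.2.inf_normalizer_sylow Q
      have h' : (P₀ : Subgroup G) ≤ Subgroup.normalizer ((Q : Subgroup G) : Set G) :=
        Subgroup.zpowers_le.2 hm
      intro x hx
      have hx' : x ∈ (P₀ : Subgroup G) ⊓ Subgroup.normalizer ((Q : Subgroup G) : Set G) := ⟨hx, h' hx⟩
      exact (h ▸ hx' : x ∈ (P₀ : Subgroup G) ⊓ (Q : Subgroup G)).2
    exact Sylow.ext (P₀.3 Q.2 hPQ)
  obtain ⟨Q₁, hQ₁⟩ : ∃ Q : Sylow p G, Q ≠ P₀ := by
    by_contra hall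
    push Not at hall
    haveI : Subsingleton (Sylow p G) := ⟨fun a b => (hall a).trans (hall b).symm⟩
    rw [Nat.card_of_subsingleton P₀] at hn
    omega
  have hmemR : ∀ g, g ∈ φ.ker ↔ ∀ Q : Sylow p G, g • Q = Q := fun g => by
    rw [MonoidHom.mem_ker]
    exact ⟨fun h Q => congrArg (fun σ : Equiv.Perm (Sylow p G) => σ Q) h, fun h => Equiv.ext h⟩
  have huR : S.u ∉ φ.ker := fun h => hQ₁ (hfix Q₁ ((hmemR _).1 h Q₁))
  have hRreg : ∀ x ∈ φ.ker, orderOf x ≠ p := fun x hx hxo =>
    huR (mem_of_orderOf hG inferInstance hxo S.ord hx)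
  have hRK : φ.ker ≤ Subgroup.centralizer (K : Set G) := by
    intro r hr
    rw [Subgroup.mem_centralizer_iff]
    suffices K ≤ Subgroup.centralizer ({r} : Set G) from fun k hk => by
      exact Subgroup.mem_centralizer_singleton_iff.1 (this hk)
    refine (Subgroup.closure_le _).2 fun x (hx : orderOf x = p) => ?_
    let Px : Sylow p G := Sylow.ofCard (Subgroup.zpowers x) (by rw [Nat.card_zpowers, hx, hfac, pow_one])
    have hm := Sylow.smul_eq_iff_mem_normalizer.1 ((hmemR r).1 hr Px)
    have h1 : r * x * r⁻¹ ∈ Subgroup.zpowers x :=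
      (Subgroup.mem_normalizer_iff.1 hm x).1 (Subgroup.mem_zpowers x)
    have h2 : r * x * r⁻¹ * x⁻¹ ∈ Subgroup.zpowers x := mul_mem h1 (inv_mem (Subgroup.mem_zpowers x))
    have h3 : r * x * r⁻¹ * x⁻¹ ∈ φ.ker := by
      rw [mul_assoc, mul_assoc]
      exact mul_mem hr (by
        rw [← mul_assoc]; exact (inferInstance : φ.ker.Normal).conj_mem _ (inv_mem hr) x)
    have h4 : r * x * r⁻¹ * x⁻¹ = 1 := by
      by_contra hne
      refine hRreg _ h3 ?_
      rcases (Nat.dvd_prime hp.out).1 (hx ▸ Nat.card_zpowers x ▸ Subgroup.orderOf_dvd_natCard _ h2) with h | h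
      · exact absurd (orderOf_eq_one_iff.1 h) hne
      · exact h
    rw [mul_inv_eq_one, mul_inv_eq_iff_eq_mul] at h4
    exact Subgroup.mem_centralizer_singleton_iff.2 h4.symm
  obtain ⟨d, ρ, hρ⟩ := hχ
  have hd : charDegree χ = d := by
    rw [charDegree, ← hρ, Representation.char_one, Module.finrank_fin_fun, Complex.natCast_re,
      Nat.floor_natCast]
  haveI : Nontrivial (Fin d → ℂ) := by
    haveI : Nonempty (Fin d) := ⟨⟨0, by omega⟩⟩
    infer_instance
  let ρK : Representation ℂ K (Fin d → ℂ) := ρ.comp K.subtype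
  haveI hρK : ρK.IsIrreducible := by
    obtain ⟨n', ρ', hρ'i, hρ'⟩ := hirr
    obtain ⟨eq⟩ := nonempty_equiv_of_character_eq ρ' ρK (by
      rw [hρ']; funext k; exact (congrFun hρ k).symm)
    haveI := hρ'i
    exact isIrreducible_of_equiv eq
  have hirrW : ∀ W : Submodule ℂ (Fin d → ℂ), (∀ k : K, ∀ z ∈ W, ρK k z ∈ W) → W = ⊥ ∨ W = ⊤ := by
    intro W hW
    rcases IsSimpleOrder.eq_bot_or_eq_top (⟨W, fun k v hv => hW k v hv⟩ : Subrepresentation ρK) with h | h
    · exact Or.inl (congrArg Subrepresentation.toSubmodule h)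
    · exact Or.inr (congrArg Subrepresentation.toSubmodule h)
  have hRZ : φ.ker = Subgroup.center G := by
    refine le_antisymm (fun r hr => Subgroup.mem_center_iff.2 fun g => ?_) fun z hz => (hmemR z).2 fun Q =>
      Sylow.smul_eq_iff_mem_normalizer.2 (Subgroup.center_le_normalizer _ hz)
    obtain ⟨c, hc⟩ := exists_smul_one_of_commute (κ := ℂ) (ρK : K →* _) hirrW (f := ρ r) fun k => by
      show ρ (k : G) * ρ r = ρ r * ρ (k : G)
      rw [← map_mul, ← map_mul, Subgroup.mem_centralizer_iff.1 (hRK hr) k k.2]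
    have hcomm : ρ (g * r) = ρ (r * g) := by
      rw [map_mul, map_mul, hc, mul_smul_comm, mul_one, smul_mul_assoc, one_mul]
    have h1 : g * r * (r * g)⁻¹ = 1 := by
      refine hfaith _ ?_
      rw [← hρ]
      show LinearMap.trace ℂ _ (ρ _) = LinearMap.trace ℂ _ (ρ 1)
      rw [map_mul, hcomm, ← map_mul, mul_inv_cancel]
    rwa [mul_inv_eq_one] at h1
  -- the centraliser
  set C := Subgroup.centralizer ((Subgroup.zpowers S.u : Subgroup G) : Set G) with hC
  have hCu : ∀ c, c ∈ C ↔ Commute c S.u := fun c => by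
    rw [hC, Subgroup.mem_centralizer_iff]
    refine ⟨fun h => (h _ (Subgroup.mem_zpowers S.u)).symm, fun h x hx => ?_⟩
    obtain ⟨i, rfl⟩ := Subgroup.mem_zpowers_iff.1 hx
    exact ((h.zpow_right i).eq).symm
  have hpowinj : ∀ i j : Fin p, S.u ^ (i : ℕ) • Q₁ = S.u ^ (j : ℕ) • Q₁ → i = j := by
    have key : ∀ i j : Fin p, (i : ℕ) ≤ j → S.u ^ (i : ℕ) • Q₁ = S.u ^ (j : ℕ) • Q₁ → i = j := by
      intro i j hij h
      by_contra hne
      obtain ⟨k, hk⟩ := Nat.exists_eq_add_of_le hij
      rw [hk, pow_add, mul_smul, smul_left_cancel_iff] at h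
      have hk0 : ¬ p ∣ k := fun hd' => by
        rcases Nat.eq_zero_or_pos k with h0 | h0
        · exact hne (Fin.ext (by omega))
        · have := Nat.le_of_dvd h0 hd'
          have := j.2
          omega
      obtain ⟨m, hm⟩ := mem_powers_iff_mem_zpowers.2
        ((S.zpowers_pow hG hk0).symm ▸ Subgroup.mem_zpowers S.u : S.u ∈ Subgroup.zpowers (S.u ^ k))
      refine hQ₁ (hfix Q₁ ?_)
      have hs : S.u ^ k ∈ MulAction.stabilizer G Q₁ := MulAction.mem_stabilizer_iff.2 h.symm
      rw [← show (S.u ^ k) ^ m = S.u from hm]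
      exact MulAction.mem_stabilizer_iff.1 (Subgroup.pow_mem _ hs m)
    intro i j h
    rcases le_total (i : ℕ) j with h' | h'
    · exact key i j h' h
    · exact (key j i h' h.symm).symm
  have huP : ∀ i : ℕ, S.u ^ i • P₀ = P₀ := fun i => Sylow.smul_eq_iff_mem_normalizer.2
    (Subgroup.le_normalizer (Subgroup.pow_mem _ (Subgroup.mem_zpowers S.u) i))
  have horbit : ∀ Q : Sylow p G, Q ≠ P₀ → ∃ i : Fin p, S.u ^ (i : ℕ) • Q₁ = Q := by
    intro Q hQ
    let g : Fin p → {Q : Sylow p G // Q ≠ P₀} := fun i =>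
      ⟨S.u ^ (i : ℕ) • Q₁, fun h => hQ₁ (MulAction.injective (S.u ^ (i : ℕ)) (h.trans (huP i).symm))⟩
    have hg : Function.Bijective g := by
      refine (Fintype.bijective_iff_injective_and_card g).2 ⟨fun i j h => hpowinj i j (congrArg Subtype.val h), ?_⟩
      rw [Fintype.card_fin, Fintype.card_subtype_compl, Fintype.card_subtype_eq,
        ← Nat.card_eq_fintype_card, hn, Nat.add_sub_cancel]
    obtain ⟨i, hi⟩ := hg.2 ⟨Q, hQ⟩
    exact ⟨i, congrArg Subtype.val hi⟩
  have hCcard : Nat.card C = p * Nat.card φ.ker := by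
    have hmem : ∀ (i : Fin p) (r : φ.ker), S.u ^ (i : ℕ) * (r : G) ∈ C := fun i r => (hCu _).2
      ((Commute.pow_self S.u i).mul_left
        (show Commute (r : G) S.u from (Subgroup.mem_centralizer_iff.1 (hRK r.2) S.u
          (Subgroup.subset_closure S.ord)).symm))
    let g : Fin p × φ.ker → C := fun w => ⟨S.u ^ (w.1 : ℕ) * (w.2 : G), hmem w.1 w.2⟩
    have hg : Function.Bijective g := by
      constructor
      · rintro ⟨i, r⟩ ⟨j, t⟩ h
        have h' : S.u ^ (i : ℕ) * (r : G) = S.u ^ (j : ℕ) * (t : G) := congrArg Subtype.val h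
        have hij : i = j := hpowinj i j (by
          have := congrArg (fun x : G => x • Q₁) h'
          simpa [mul_smul, (hmemR _).1 r.2 Q₁, (hmemR _).1 t.2 Q₁] using this)
        subst hij
        exact Prod.ext rfl (Subtype.ext (mul_left_cancel h'))
      · rintro ⟨c, hc⟩
        have hcu := (hCu c).1 hc
        have hcP : c • P₀ = P₀ := Sylow.smul_eq_iff_mem_normalizer.2 (Subgroup.centralizer_le_normalizer _ hc)
        obtain ⟨i, hi⟩ := horbit (c • Q₁) fun h => hQ₁ (MulAction.injective c (h.trans hcP.symm))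
        refine ⟨(i, ⟨(S.u ^ (i : ℕ))⁻¹ * c, (hmemR _).2 fun Q => ?_⟩), Subtype.ext (mul_inv_cancel_left _ _)⟩
        rw [mul_smul, inv_smul_eq_iff]
        by_cases hQ : Q = P₀
        · rw [hQ, hcP, huP]
        · obtain ⟨j, rfl⟩ := horbit Q hQ
          rw [← mul_smul, (hcu.pow_right (j : ℕ)).eq, mul_smul, ← hi, ← mul_smul, ← mul_smul,
            (Commute.pow_pow_self S.u (j : ℕ) (i : ℕ)).eq]
    rw [← Nat.card_congr (Equiv.ofBijective g hg), Nat.card_prod, Nat.card_fin]
  -- the inertial index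
  have hrow : rowE S (trivIrr S.V) = e := by
    have hsub : eGroup S' (trivIrr S'.V) ≤ eGroup S (trivIrr S.V) := by
      rintro k ⟨y, -, hy⟩
      have hy' : ((y : K) : G) * S.u * ((y : K) : G)⁻¹ = S.u ^ (k : ZMod p).val := by
        have := congrArg (fun x : K => (x : G)) hy
        simpa [hS'] using this
      refine ⟨⟨((y : K) : G), ?_⟩, smul_trivIrr S hG _, hy'⟩
      refine Subgroup.mem_normalizer_fintype fun n hn' => ?_
      obtain ⟨i, rfl⟩ := Subgroup.mem_zpowers_iff.1 hn'
      rw [← conj_zpow, hy']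
      exact Subgroup.zpow_mem _ (Subgroup.pow_mem _ (Subgroup.mem_zpowers _) _) i
    have h1 : e ∣ rowE S (trivIrr S.V) := he ▸ Subgroup.card_dvd_of_le hsub
    have h2 := rowE_dvd hG S (trivIrr S.V)
    have h3 : rowE S (trivIrr S.V) ≠ p - 1 := by
      intro h
      have htop : eGroup S (trivIrr S.V) = ⊤ := Subgroup.eq_top_of_card_eq _ (by
        rw [Nat.card_eq_fintype_card (α := (ZMod p)ˣ), ZMod.card_units]; exact h)
      have hu1 := apply_eq_of_rational hG S ⟨d, ρ, hρ⟩ (fun k => by
        obtain ⟨y, -, hy⟩ : k ∈ eGroup S (trivIrr S.V) := htop ▸ Subgroup.mem_top k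
        rw [← hy, ← hρ]
        exact ρ.char_conj S.u y) (by omega)
      have := hfaith _ hu1
      rw [← S.ord, this, orderOf_one] at hp5
      omega
    obtain ⟨t, ht⟩ := h1
    rw [ht] at h2 h3 ⊢
    have hle := Nat.le_of_dvd (by omega) h2
    rcases t with _ | _ | _ | t
    · rw [mul_zero] at h2; have := Nat.eq_zero_of_zero_dvd h2; omega
    · simp
    · omega
    · have : e * 3 ≤ e * (t + 1 + 1 + 1) := Nat.mul_le_mul_left e (by omega)
      omega
  have hNcard : Nat.card S.N = e * Nat.card C := by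
    have hle : C ≤ S.N := Subgroup.centralizer_le_normalizer _
    have h := Subgroup.card_mul_index (C.subgroupOf S.N)
    rw [Nat.card_congr (Subgroup.subgroupOfEquivOfLe hle).toEquiv,
      show (C.subgroupOf S.N).index = e from (rowE_trivIrr S hG).trans hrow] at h
    rw [← h, mul_comm]
  have hGcard : Nat.card G = (p + 1) * (e * (p * Nat.card φ.ker)) := by
    rw [← hCcard, ← hNcard, ← hn, Sylow.card_eq_index_normalizer P₀]
    exact (Subgroup.index_mul_card _).symm
  have hHcard : Nat.card φ.range = (p + 1) * p * e := by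
    have h := Subgroup.card_mul_index φ.ker
    rw [Subgroup.index_ker, hGcard] at h
    refine Nat.eq_of_mul_eq_mul_left (Nat.card_pos (α := φ.ker)) ?_
    rw [h]; ring
  haveI : MulAction.IsPretransitive φ.range (Sylow p G) := ⟨fun a b => by
    obtain ⟨g, hg⟩ := MulAction.exists_smul_eq G a b
    exact ⟨⟨φ g, g, rfl⟩, hg⟩⟩
  rcases Cfsg.Agent.S0732.result hp.out (by rw [← Nat.card_eq_fintype_card, hn]) φ.range hHcard (by omega) with
    ⟨h, -⟩ | ⟨-, ⟨iso⟩⟩ | ⟨q, hq, hpq, hdq, ε, hε⟩
  · omega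
  · exact ⟨((QuotientGroup.quotientMulEquivOfEq hRZ).symm.trans (QuotientGroup.quotientKerEquivRange φ)).trans iso⟩
  · exfalso
    have hq3 : q = 3 := by
      have h2 := hq.two_le
      rcases hdq with h | h
      · omega
      · rcases Nat.lt_or_ge q 4 with h4 | h4
        · interval_cases q
          · norm_num at hpq; omega
          · rfl
        · have := two_mul_add_two_lt q h4; omega
    have hp7 : p = 7 := by rw [hq3] at hpq; norm_num at hpq; omega
    subst hq3
    let f : G →* Equiv.Perm (GaloisField 2 3) := (Equiv.permCongrHom ε).toMonoidHom.comp φ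
    haveI : Finite (GaloisField 2 3) := Module.finite_of_finite (ZMod 2)
    have hAut : Nat.card (GaloisField 2 3 ≃+* GaloisField 2 3) < p := by
      haveI : Fintype (GaloisField 2 3) := Fintype.ofFinite _
      let g : (GaloisField 2 3 ≃+* GaloisField 2 3) → (GaloisField 2 3 →ₐ[ZMod 2] GaloisField 2 3) := fun σ =>
        { σ.toRingHom with commutes' := fun z => RingHom.congr_fun (RingHom.ext_zmod
            (σ.toRingHom.comp (algebraMap (ZMod 2) (GaloisField 2 3))) (algebraMap (ZMod 2) (GaloisField 2 3))) z }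
      have hg : Function.Injective g := fun σ τ h => RingEquiv.ext fun x => DFunLike.congr_fun h x
      have h1 := (Nat.card_le_card_of_injective g hg).trans
        ((card_algHom_le_finrank (ZMod 2) (GaloisField 2 3) (GaloisField 2 3)).trans
          (GaloisField.finrank 2 (by norm_num)).le)
      omega
    haveI : Nontrivial (eGroup S' (trivIrr S'.V)) := Finite.one_lt_card_iff_nontrivial.1 (by
        show 1 < rowE S' (trivIrr S'.V)
        exact (show 1 < e by omega).trans_eq he.symm)
    obtain ⟨⟨k, y, _, hy⟩, hk1⟩ := exists_ne (1 : eGroup S' (trivIrr S'.V))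
    have hy' : ((y : K) : G) * S.u * ((y : K) : G)⁻¹ = S.u ^ (k : ZMod p).val := by
      have := congrArg (fun x : K => (x : G)) hy
      simpa [hS'] using this
    have := false_of_semiaffine (by omega) f
      (fun g => hε ⟨φ g, g, rfl⟩) hAut S.ord (show ((y : K) : G) ∈ K from (y : K).2) hy' fun i hi => by
        by_contra hpi
        obtain ⟨m, hm⟩ := mem_powers_iff_mem_zpowers.2
          ((S.zpowers_pow hG hpi).symm ▸ Subgroup.mem_zpowers S.u : S.u ∈ Subgroup.zpowers (S.u ^ i))
        refine huR ?_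
        rw [← show (S.u ^ i) ^ m = S.u from hm]
        refine Subgroup.pow_mem _ (φ.mem_ker.2 ((Equiv.permCongrHom ε).injective ?_)) m
        rw [map_one]; exact hi
    rw [ZMod.natCast_zmod_val] at this
    exact hk1 (Subtype.ext (Units.ext this))

/-- Brauer's theorem on faithful characters of degree `(p - 1) / 2`. -/
theorem psl_of_half_degree {G : Type*} [Group G] [Finite G] {p : ℕ} [hp : Fact p.Prime]
    (hdiv : p ∣ Nat.card G) (hsq : ¬ p ^ 2 ∣ Nat.card G) (hnn : ∀ H : Subgroup G, H.Normal → Nat.card H ≠ p)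
    {χ : G → ℂ} (hχ : IsCharacter G χ) (hfaith : ∀ g : G, χ g = χ 1 → g = 1)
    (hdeg : 2 * charDegree χ + 1 = p) :
    Nonempty ((G ⧸ Subgroup.center G) ≃* Matrix.ProjectiveSpecialLinearGroup (Fin 2) (ZMod p)) := by
  classical
  haveI := Fintype.ofFinite G
  obtain ⟨u, hu⟩ := exists_prime_orderOf_dvd_card' (G := G) p hdiv
  have key : ∀ (_ : Fintype (Subgroup.closure {x : G | orderOf x = p}))
      (S' : Sect (Subgroup.closure {x : G | orderOf x = p}) p),
      ExactPrime (Subgroup.closure {x : G | orderOf x = p}) p →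
      (∀ L : Subgroup (Subgroup.closure {x : G | orderOf x = p}), L.Normal → S'.u ∈ L → L = ⊤) →
      (∀ H : Subgroup (Subgroup.closure {x : G | orderOf x = p}), H.Normal → Nat.card H ≠ p) →
      IsCharacter (Subgroup.closure {x : G | orderOf x = p}) (fun k => χ k) →
      (∀ k : Subgroup.closure {x : G | orderOf x = p},
        χ k = χ ((1 : Subgroup.closure {x : G | orderOf x = p}) : G) → k = 1) →
      IsIrrCharacter (Subgroup.closure {x : G | orderOf x = p}) (fun k => χ k) ∧
        rowE S' (trivIrr S'.V) = charDegree χ ∧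
        Nat.card (Sylow p (Subgroup.closure {x : G | orderOf x = p})) ≤ p + 1 ∧ 2 ≤ charDegree χ := by
    intro _ S' hKG hgen' hnn' hχ' hfaith'
    have hdK : charDegree (fun k : Subgroup.closure {x : G | orderOf x = p} => χ k) = charDegree χ := by
      simp [charDegree]
    obtain ⟨-, hirr, he, he2⟩ := facts hKG S' hgen' hnn' hχ' hfaith' (by rw [hdK]; exact hdeg)
    rw [hdK] at he he2
    exact ⟨hirr, he, card_sylow_le_of_gen hKG S' hgen' hnn' hχ' hfaith' (by rw [hdK]; exact hdeg), he2⟩
  have he2 : 2 ≤ charDegree χ := by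
    haveI : Fintype (Subgroup.closure {x : G | orderOf x = p}) := Fintype.ofFinite _
    obtain ⟨hKG, S', -, h1, h2, h3, h4⟩ := exists_setup ⟨hp.out, hdiv, hsq⟩ hnn hχ hfaith hu inferInstance
    exact (key inferInstance S' hKG h1 h2 h3 h4).2.2.2
  exact psl_of_sylow_le hdiv hsq hnn hχ hfaith (by omega) he2 hdeg he2 fun i S' a b c d e =>
    ⟨(key i S' a b c d e).1, (key i S' a b c d e).2.1, (key i S' a b c d e).2.2.1⟩

end CfsgLib.HalfDegree
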