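import Cfsg.Agent.Lib.HalfDegree.Block

/-!
# A small direct summand through a vector of maximal height
-/

set_option autoImplicit false
set_option linter.style.haveILetI false
set_option linter.unusedSectionVars false

namespace CfsgLib.HalfDegree

open Module (End)

variable {κ : Type*} [Field κ] {A : Type*} [AddCommGroup A] [Module κ A]

/-- The span of the first `r` powers of `T` at `v`. -/
def cyclicSpan (T : End κ A) (r : ℕ) (v : A) : Submodule κ A :=
  LinearMap.range (Fintype.linearCombination κ fun i : Fin r => (T ^ (i : ℕ)) v)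

theorem mem_cyclicSpan {T : End κ A} {r : ℕ} {v : A} (hr : (T ^ r) v = 0) (i : ℕ) :
    (T ^ i) v ∈ cyclicSpan T r v := by
  rcases Nat.lt_or_ge i r with hi | hi
  · exact ⟨Pi.single (⟨i, hi⟩ : Fin r) 1, by simp⟩
  · rw [pow_add_apply_zero hi hr]
    exact Submodule.zero_mem _

theorem cyclicSpan_le {T : End κ A} {r : ℕ} {v : A} {W : Submodule κ A}
    (hW : ∀ i : ℕ, (T ^ i) v ∈ W) : cyclicSpan T r v ≤ W := by
  rintro _ ⟨c, rfl⟩
  rw [Fintype.linearCombination_apply]
  exact Submodule.sum_mem _ fun i _ => Submodule.smul_mem _ _ (hW i)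

/-- The projection onto the powers of `T` at a vector of height `r` along their orthogonal. -/
theorem exists_projection (Q : LinearMap.BilinForm κ A) {U U' : End κ A} (h1 : U * U' = 1)
    (h2 : U' * U = 1) (hUQ : ∀ x y, Q (U x) (U y) = Q x y) {r : ℕ} {v : A}
    (hr : ((U - 1) ^ r) v = 0) (hv : Q v (((U - 1) ^ (r - 1)) v) ≠ 0) :
    Module.finrank κ (cyclicSpan (U - 1) r v) = r ∧
    ∃ π : End κ A, IsIdempotentElem π ∧ LinearMap.range π = cyclicSpan (U - 1) r v ∧
      ∀ g : End κ A, Function.Injective g →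
        (∀ x ∈ cyclicSpan (U - 1) r v, g x ∈ cyclicSpan (U - 1) r v) →
        (∃ c : κ, ∀ x y, Q (g x) (g y) = c * Q x y) → Commute g π := by
  classical
  set T := U - 1 with hT
  have hTU : Commute T U' := by
    show (U - 1) * U' = U' * (U - 1)
    rw [sub_mul, mul_sub, h1, h2, one_mul, mul_one]
  have hadj : ∀ (j : ℕ) (x y : A), Q ((T ^ j) x) y = (-1) ^ j * Q x ((U' ^ j * T ^ j : End κ A) y) := by
    intro j
    induction j with
    | zero => simp
    | succ j ih =>
      intro x y
      have e1 : ∀ a b, Q (T a) b = -Q a ((U' * T : End κ A) b) := fun a b => by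
        have e2 : b = U (U' b) := by rw [← Module.End.mul_apply, h1, Module.End.one_apply]
        have e3 : Q (U a) b = Q a (U' b) := by
          conv_lhs => rw [e2, hUQ]
        have e4 : (U' * T : End κ A) b = b - U' b := by
          rw [hT, mul_sub, h2, mul_one, LinearMap.sub_apply, Module.End.one_apply]
        rw [e4, hT, LinearMap.sub_apply, Module.End.one_apply, map_sub, map_sub, LinearMap.sub_apply, e3]
        ring
      rw [pow_succ, Module.End.mul_apply, ih, e1, pow_succ, mul_neg_one, neg_mul, mul_neg]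
      congr 2
      rw [← Module.End.mul_apply]
      congr 2
      rw [← pow_succ, pow_succ' T, pow_succ' U', ← mul_assoc, mul_assoc U' T (U' ^ j),
        (hTU.pow_right j).eq]
      simp only [mul_assoc]
  have hfix : ∀ j : ℕ, 0 < r → (U' ^ j) ((T ^ (r - 1)) v) = (T ^ (r - 1)) v := by
    intro j hr0
    induction j with
    | zero => simp
    | succ j ih =>
      rw [pow_succ', Module.End.mul_apply, ih]
      have hU : U ((T ^ (r - 1)) v) = (T ^ (r - 1)) v := by
        rw [← sub_eq_zero, ← Module.End.one_apply (R := κ) ((T ^ (r - 1)) v), ← Module.End.mul_apply U,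
          mul_one, Module.End.one_apply]
        show (U - 1) ((T ^ (r - 1)) v) = 0
        rw [← hT, ← Module.End.mul_apply, ← pow_succ', Nat.sub_add_cancel hr0, hr]
      conv_lhs => rw [← hU, ← Module.End.mul_apply, h2, Module.End.one_apply]
  have hgram0 : ∀ i j : ℕ, r ≤ i + j → Q ((T ^ j) v) ((T ^ i) v) = 0 := fun i j hij => by
    rw [hadj, Module.End.mul_apply, ← Module.End.mul_apply (T ^ j), ← pow_add,
      pow_add_apply_zero (show r ≤ j + i by omega) hr, map_zero, map_zero, mul_zero]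
  have hgram1 : ∀ i j : ℕ, i + j + 1 = r → Q ((T ^ j) v) ((T ^ i) v) ≠ 0 := fun i j hij => by
    rw [hadj, Module.End.mul_apply, ← Module.End.mul_apply (T ^ j), ← pow_add,
      show j + i = r - 1 by omega, hfix j (by omega)]
    exact mul_ne_zero (pow_ne_zero _ (neg_ne_zero.2 one_ne_zero)) hv
  let L : (Fin r → κ) →ₗ[κ] A := Fintype.linearCombination κ fun i : Fin r => (T ^ (i : ℕ)) v
  have hL : ∀ c, L c = ∑ i, c i • (T ^ (i : ℕ)) v := fun c => Fintype.linearCombination_apply _ _ _
  let φ : A →ₗ[κ] (Fin r → κ) := LinearMap.pi fun j : Fin r => Q ((T ^ (j : ℕ)) v)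
  have hφ : ∀ x j, φ x j = Q ((T ^ ((j : Fin r) : ℕ)) v) x := fun x j => rfl
  have hφL : Function.Injective (φ ∘ₗ L) := by
    refine (injective_iff_map_eq_zero _).2 fun c hc => ?_
    by_contra hne
    obtain ⟨i₁, hi₁⟩ := Function.ne_iff.1 hne
    obtain ⟨i, hi, hmin⟩ := (Finset.univ.filter fun i => c i ≠ 0).exists_min_image (fun i => (i : ℕ))
      ⟨i₁, Finset.mem_filter.2 ⟨Finset.mem_univ _, hi₁⟩⟩
    have hj : r - 1 - (i : ℕ) < r := by omega
    have h0 := congrFun hc ⟨r - 1 - (i : ℕ), hj⟩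
    rw [LinearMap.comp_apply, hφ, hL, map_sum, Finset.sum_eq_single i] at h0
    · rw [map_smul, smul_eq_mul] at h0
      exact (mul_eq_zero.1 h0).elim (Finset.mem_filter.1 hi).2
        (hgram1 _ _ (by simp only; omega))
    · intro j _ hj'
      by_cases hcj : c j = 0
      · rw [hcj, zero_smul, map_zero]
      have h1' : (i : ℕ) < j := lt_of_le_of_ne (hmin j (Finset.mem_filter.2 ⟨Finset.mem_univ _, hcj⟩))
        fun e => hj' (Fin.ext e.symm)
      rw [map_smul, hgram0 _ _ (by simp only; omega), smul_zero]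
    · exact fun h' => absurd (Finset.mem_univ _) h'
  have hLinj : Function.Injective L := fun a b h => hφL (congrArg φ h)
  have hfr : Module.finrank κ (cyclicSpan T r v) = r :=
    (LinearMap.finrank_range_of_inj hLinj).trans (Module.finrank_fin_fun κ)
  refine ⟨hfr, ?_⟩
  let e : (Fin r → κ) ≃ₗ[κ] (Fin r → κ) := LinearEquiv.ofInjectiveEndo (φ ∘ₗ L) hφL
  set π : End κ A := L ∘ₗ e.symm.toLinearMap ∘ₗ φ with hπ
  have hφπ : ∀ x, φ (π x) = φ x := fun x => by
    show (φ ∘ₗ L) (e.symm (φ x)) = φ x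
    exact e.apply_symm_apply _
  have hπC : ∀ x, π x ∈ cyclicSpan T r v := fun x => ⟨e.symm (φ x), rfl⟩
  have huniq : ∀ x ∈ cyclicSpan T r v, ∀ y ∈ cyclicSpan T r v, φ x = φ y → x = y := by
    rintro _ ⟨a, rfl⟩ _ ⟨b, rfl⟩ hab
    exact congrArg L (hφL hab)
  have hπid : ∀ x ∈ cyclicSpan T r v, π x = x := fun x hx => huniq _ (hπC x) _ hx (hφπ x)
  refine ⟨π, LinearMap.ext fun x => hπid _ (hπC x),
    le_antisymm (by rintro _ ⟨x, rfl⟩; exact hπC x) fun x hx => ⟨x, hπid x hx⟩, ?_⟩
  rintro g hg hgC ⟨c, hc⟩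
  haveI : FiniteDimensional κ (cyclicSpan T r v) := by
    unfold cyclicSpan; infer_instance
  have hsurj : ∀ y ∈ cyclicSpan T r v, ∃ z ∈ cyclicSpan T r v, g z = y := fun y hy => by
    obtain ⟨z, hz⟩ := (LinearMap.injective_iff_surjective (f := g.restrict hgC)).1
      (fun a b h => Subtype.ext (hg (congrArg Subtype.val h))) ⟨y, hy⟩
    exact ⟨z, z.2, congrArg Subtype.val hz⟩
  have hQπ : ∀ y ∈ cyclicSpan T r v, ∀ x, Q y (π x) = Q y x := by
    rintro _ ⟨a, rfl⟩ x
    rw [hL, map_sum, LinearMap.sum_apply, LinearMap.sum_apply]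
    refine Finset.sum_congr rfl fun i _ => ?_
    rw [map_smul, LinearMap.smul_apply, LinearMap.smul_apply, ← hφ, ← hφ, hφπ]
  refine LinearMap.ext fun x => ?_
  rw [Module.End.mul_apply, Module.End.mul_apply]
  refine huniq _ (hgC _ (hπC x)) _ (hπC _) (funext fun j => ?_)
  obtain ⟨z, hz, hgz⟩ := hsurj _ (mem_cyclicSpan hr (j : ℕ))
  rw [hφπ, hφ, hφ, ← hgz, hc, hc, hQπ z hz]

variable {p : ℕ} [hp : Fact p.Prime] [CharP κ p] {X : Type*} [Group X] [Finite X]

/-- A vector of height `r` spanning a submodule stable under the normaliser gives a module of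
dimension `r` on which `u` is not trivial. -/
theorem exists_small (σ : X →* End κ A) {u h : X} (hu : orderOf u = p)
    (hidx : ¬ p ∣ (Subgroup.zpowers u).index) {m : ℕ} (hh : h * u * h⁻¹ = u ^ m)
    (hN : ∀ n ∈ Subgroup.normalizer ((Subgroup.zpowers u : Subgroup X) : Set X),
      ∃ z ∈ Subgroup.center X, ∃ i c : ℕ, n = z * u ^ i * h ^ c)
    {s : ℕ} (hTs : (σ u - 1) ^ s = 0) (hs : s < p)
    (Q : LinearMap.BilinForm κ A) (hQu : ∀ x y, Q (σ u x) (σ u y) = Q x y)
    (hQh : ∃ c : κ, ∀ x y, Q (σ h x) (σ h y) = c * Q x y)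
    (hz : ∀ z ∈ Subgroup.center X, ∃ c : κ, σ z = c • 1)
    {r : ℕ} (hr2 : 2 ≤ r) {v : A} (hr : ((σ u - 1) ^ r) v = 0)
    (hv : Q v (((σ u - 1) ^ (r - 1)) v) ≠ 0) {μ : κ} (hμ : σ h v = μ • v) :
    ∃ (W : Submodule κ A) (ψ : X →* End κ W), Module.finrank κ W = r ∧ ψ u ≠ 1 := by
  classical
  have hinv : ∀ g, σ g * σ g⁻¹ = 1 := fun g => by rw [← map_mul, mul_inv_cancel, map_one]
  have hinv' : ∀ g, σ g⁻¹ * σ g = 1 := fun g => by rw [← map_mul, inv_mul_cancel, map_one]
  have hinj : ∀ g, Function.Injective (σ g) := fun g a b hab => by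
    have := congrArg (σ g⁻¹) hab
    rwa [← Module.End.mul_apply, ← Module.End.mul_apply, hinv', Module.End.one_apply,
      Module.End.one_apply] at this
  obtain ⟨hfr, π, hπ, hrange, hπc⟩ := exists_projection Q (hinv u) (hinv' u) hQu hr hv
  set T := σ u - 1 with hT
  set C := cyclicSpan T r v with hC
  have hCu : ∀ k : ℕ, ∀ x ∈ C, (σ u ^ k) x ∈ C := by
    intro k
    induction k with
    | zero => exact fun x hx => by simpa using hx
    | succ k ih =>
      intro x hx
      rw [pow_succ', Module.End.mul_apply]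
      have hT' : ∀ y ∈ C, T y ∈ C := fun y hy => by
        refine cyclicSpan_le (W := C.comap T) (fun i => ?_) hy
        rw [Submodule.mem_comap, ← Module.End.mul_apply, ← pow_succ']
        exact mem_cyclicSpan hr _
      have e : ∀ y, σ u y = T y + y := fun y => by simp [hT]
      rw [e]
      exact Submodule.add_mem _ (hT' _ (ih x hx)) (ih x hx)
  have hCp : ∀ i : ℕ, ∀ x ∈ C, ((σ u ^ m - 1) ^ i) x ∈ C := by
    intro i
    induction i with
    | zero => exact fun x hx => by simpa using hx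
    | succ i ih =>
      intro x hx
      rw [pow_succ', Module.End.mul_apply, LinearMap.sub_apply, Module.End.one_apply]
      exact Submodule.sub_mem _ (hCu m _ (ih x hx)) (ih x hx)
  have hhT : ∀ i : ℕ, σ h * T ^ i = (σ u ^ m - 1) ^ i * σ h := by
    have h1 : σ h * T = (σ u ^ m - 1) * σ h := by
      rw [hT, mul_sub, mul_one, sub_mul, one_mul, ← map_pow, ← hh, ← map_mul, ← map_mul,
        inv_mul_cancel_right]
    intro i
    induction i with
    | zero => simp
    | succ i ih => rw [pow_succ, ← mul_assoc, ih, mul_assoc, h1, ← mul_assoc, ← pow_succ]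
  have hCh : ∀ x ∈ C, σ h x ∈ C := fun x hx => by
    refine cyclicSpan_le (W := C.comap (σ h)) (fun i => ?_) hx
    rw [Submodule.mem_comap, ← Module.End.mul_apply, hhT, Module.End.mul_apply, hμ, map_smul]
    exact Submodule.smul_mem _ _ (hCp i v (by simpa using mem_cyclicSpan hr 0))
  have hπu : Commute (σ u) π := hπc _ (hinj u) (fun x hx => by simpa using hCu 1 x hx)
    ⟨1, fun x y => by rw [hQu, one_mul]⟩
  have hπh : Commute (σ h) π := hπc _ (hinj h) hCh hQh
  have hπN : ∀ g ∈ Subgroup.normalizer ((Subgroup.zpowers u : Subgroup X) : Set X), Commute (σ g) π := by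
    intro g hg
    obtain ⟨z, hzc, i, c, rfl⟩ := hN g hg
    obtain ⟨b, hb⟩ := hz z hzc
    rw [map_mul, map_mul, map_pow, map_pow]
    refine (Commute.mul_left ?_ (hπu.pow_left i)).mul_left (hπh.pow_left c)
    rw [hb]
    exact (Commute.one_left π).smul_left b
  obtain ⟨E, hEc, hlow, -, -⟩ := exists_transfer σ hu hidx hTs hs hπN
  obtain ⟨ε, hε, hεc, -, w, hwu, hwT, hεw⟩ := exists_idempotent hTs hπ
    (hπu.sub_left (Commute.one_left π)) ((hEc u).sub_left (Commute.one_left E)) hlow
  obtain ⟨w', hw'⟩ := hwu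
  have hwinj : Function.Injective w := fun a b hab => by
    have h1 := congrArg (fun z => ((w'⁻¹ : (End κ A)ˣ) : End κ A) z) hab
    simpa [← hw', ← Module.End.mul_apply] using h1
  set W := LinearMap.range ε with hW
  have hWinv : ∀ g, ∀ x ∈ W, σ g x ∈ W := by
    rintro g _ ⟨y, rfl⟩
    exact ⟨σ g y, by rw [← Module.End.mul_apply, ← (hεc _ (hEc g)).eq, Module.End.mul_apply]⟩
  have hWmap : W = C.map w := by
    rw [← hrange]
    ext x
    constructor
    · rintro ⟨y, rfl⟩
      refine ⟨π ((↑w'⁻¹ : End κ A) y), ⟨_, rfl⟩, ?_⟩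
      have e : w * (↑w'⁻¹ : End κ A) = 1 := by rw [← hw', Units.mul_inv]
      rw [← Module.End.mul_apply, ← hεw, Module.End.mul_apply, ← Module.End.mul_apply w, e,
        Module.End.one_apply]
    · rintro ⟨_, ⟨c, rfl⟩, rfl⟩
      exact ⟨w c, by rw [← Module.End.mul_apply, hεw, Module.End.mul_apply]⟩
  let ψ : X →* End κ W :=
    { toFun := fun g => (σ g).restrict (hWinv g)
      map_one' := LinearMap.ext fun x => Subtype.ext (by simp)
      map_mul' := fun g k => LinearMap.ext fun x => Subtype.ext (by simp [LinearMap.restrict_apply]) }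
  refine ⟨W, ψ, ?_, fun h1 => ?_⟩
  · rw [hWmap, ← hfr]
    exact (Submodule.equivMapOfInjective w hwinj C).finrank_eq.symm
  · have hvC : v ∈ C := by simpa using mem_cyclicSpan hr 0
    have hwv : w v ∈ W := by rw [hWmap]; exact ⟨v, hvC, rfl⟩
    have h2 := congrArg (fun f : End κ W => ((f ⟨w v, hwv⟩ : W) : A)) h1
    have h3 : T (w v) = 0 := by
      rw [hT, LinearMap.sub_apply, Module.End.one_apply]
      exact sub_eq_zero.2 h2
    rw [← pow_one T, pow_apply_comm hwT, ← map_zero w] at h3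
    refine hv ?_
    rw [pow_add_apply_zero (show 1 ≤ r - 1 by omega) (hwinj h3), map_zero]

end CfsgLib.HalfDegree
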